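import Cfsg.Agent.H26.McM3a

/-! `JobM3` of `blueprints/LOCAL3C.md` §1.3. -/

set_option autoImplicit false
set_option maxRecDepth 100000
set_option synthInstance.maxSize 2048

namespace H26.MC

open Cfsg Subgroup H14 H98 H56.L3 H42.L3 H47.MC H42.MC
open scoped commutatorElement Matrix

universe u

variable {G : Type*} [Group G] [Finite G] {v : V → G} {S J Q M₀ L₁ : Subgroup G}
  {t r τ f g : G} {M : Mat}

theorem nz_of {x : V} {a : ZMod 3} (h : Coord v J) (hg : Acts v g M) (e : M *ᵥ x = a • x) :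
    g ∈ Nz (v x) := mem_Nz.2 ((mem_zp_v h).2 ⟨a, by rw [hg, e]⟩)

section
variable (hz : NZ S J Q M₀ (v vz)) (hm : Mod v J M₀)
include hz hm

theorem mem_Q (x : V) : v x ∈ Q ↔ x 0 = x 1 := by
  have h := hm.toCoord
  obtain ⟨t, -, r, -, τ, -, d⟩ := hm.d8
  have am := acts_mul d.aU d.aR
  have hn : τ * r ∈ Nr Q := hz.Qn (nz_of h am (a := -1) (by decide))
  have sm : ∀ (a : ZMod 3) y, v y ∈ Q → v (a • y) ∈ Q := fun a y hy =>
    v_smul h a y ▸ pow_mem hy _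
  have mm : ∀ y, v y ∈ Q → v ((mU * mR) *ᵥ y) ∈ Q := fun y hy =>
    am y ▸ conj_mem_of_mem_normalizer hn hy
  have ad : ∀ y y', v y ∈ Q → v y' ∈ Q → v (y + y') ∈ Q := fun y y' hy hy' =>
    h.add y y' ▸ mul_mem hy hy'
  have h1 : ∃ y, v y ∈ Q ∧ y + (mU * mR) *ᵥ y ≠ 0 := by
    by_contra hc
    push Not at hc
    choose c hc' using fun a : (J ⊓ Q : Subgroup G) => (h.mem a).1 a.2.1
    have := Nat.card_le_card_of_injective (fun a => (c a 0, c a 1)) fun a b e => by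
      refine Subtype.ext ((hc' a).symm.trans (Eq.trans (congrArg v ?_) (hc' b)))
      exact (by decide +kernel : ∀ y : V, y + (mU * mR) *ᵥ y = 0 → ∀ y' : V,
        y' + (mU * mR) *ᵥ y' = 0 → (y 0, y 1) = (y' 0, y' 1) → y = y') _
        (hc _ (hc' a ▸ a.2.2)) _ (hc _ (hc' b ▸ b.2.2)) e
    rw [hz.cardA] at this
    simp at this
  obtain ⟨y, hy, hy'⟩ := h1
  have h2 : ∀ x : V, x 0 = x 1 → v x ∈ Q := fun x hx => by
    have hp := ad _ _ hy (mm _ hy)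
    obtain ⟨e0, e1⟩ := (by decide +kernel : ∀ y : V, (y + (mU * mR) *ᵥ y) 0 = 0 ∧
      (y + (mU * mR) *ᵥ y) 1 = 0) y
    obtain ⟨a, b, c, rfl⟩ := decA _ e0 e1 hy' x hx
    exact ad _ _ (ad _ _ (sm _ _ hz.zQ) (sm _ _ hp)) (sm _ _ (mm _ hp))
  refine ⟨fun hx => by_contra fun hx' => ?_, h2 x⟩
  have h3 : J ≤ Q := fun j hj => by
    obtain ⟨y, rfl⟩ := (h.mem j).1 hj
    obtain ⟨a, ha⟩ := (by decide +kernel : ∀ x : V, x 0 ≠ x 1 → ∀ y : V, ∃ a : ZMod 3,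
      (y - a • x) 0 = (y - a • x) 1) x hx' y
    simpa using ad _ _ (h2 _ ha) (sm a _ hx)
  have := hz.cardA
  rw [inf_eq_left.2 h3, card_J h] at this
  omega

theorem exists_LF (d : D8 v t r τ) : ∃ L₁ f, LF J Q M₀ L₁ (v vz) t f := by
  have h := hm.toCoord
  refine hz.inv t ⟨acts_nr h d.aT, (acts_mem_Ce h d.aT).2 (by decide)⟩ d.tt ?_ ?_
  · rintro a ⟨ha, ha'⟩
    obtain ⟨x, rfl⟩ := (h.mem a).1 ha
    rw [d.aT, ← h.add, mem_zp_v h]
    obtain ⟨a, e⟩ := (by decide +kernel : ∀ x : V, x 0 = x 1 → ∃ a : ZMod 3,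
      a • vz = mT *ᵥ x + x) x ((mem_Q hz hm x).1 ha')
    exact ⟨a, congrArg v e⟩
  · intro j hj
    obtain ⟨x, rfl⟩ := (h.mem j).1 hj
    rw [d.aT, ← v_sub h, mem_Q hz hm]
    exact (by decide +kernel : ∀ x : V, (mT *ᵥ x - x) 0 = (mT *ᵥ x - x) 1) x

omit hz [Finite G] in
theorem orb0 (x : V) (h0 : x ≠ 0) (hq : q x = 0) : ∃ g ∈ M₀, g * v vz * g⁻¹ = v x := by
  obtain ⟨t, ht, r, hr, τ, hτ, d⟩ := hm.d8
  refine orb (gs := [mT, mR, mS, mU, mW]) (c := fun x => x ≠ 0 ∧ q x = 0)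
    (rk := fun x => tb0.getD (code x) 0) ?_ dec0 x ⟨h0, hq⟩
  simp only [List.mem_cons, List.not_mem_nil, or_false, forall_eq_or_imp, forall_eq]
  exact ⟨⟨t, ht, d.aT⟩, ⟨r, hr, d.aR⟩, hm.exS, ⟨τ, hτ, d.aU⟩, hm.exW⟩

variable (l : LF J Q M₀ L₁ (v vz) t f)
include l

theorem sing (x : V) (hx : IsConj (v vz) (v x)) : q x = 0 := by
  have h := hm.toCoord
  obtain ⟨g, hg⟩ := isConj_iff.1 hx
  obtain ⟨n, hn, hc⟩ := wc2 h hz.wc (g := g) (zpowers_le.2 hz.zJ) (by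
    rw [H98.cj, MonoidHom.map_zpowers]
    exact zpowers_le.2 (by simpa [hg] using v_mem h x))
  obtain ⟨m, hm1, hu, -⟩ := l.frat n hn
  obtain ⟨a, ha⟩ := (mem_zp_v h).1 (mem_Nz.1 hu)
  obtain ⟨M, aM, iM, -⟩ := hm.iso m hm1
  have e : x = M *ᵥ (a • vz) := h.inj (by
    rw [← aM, ha, ← hg]
    have := hc _ (mem_zpowers (v vz))
    calc _ = n * (n⁻¹ * g * v vz) * g⁻¹ := by group
      _ = n * (v vz * (n⁻¹ * g)) * g⁻¹ := by rw [this]
      _ = _ := by group)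
  rw [e, q_mulVec (c := 1) (by rw [iM, one_smul])]
  exact (by decide : ∀ a : ZMod 3, 1 * q (a • vz) = 0) a

theorem px (hg : Acts v g M) : PX M := fun x h0 hq => by
  have h := hm.toCoord
  refine ⟨fun e => h0 ?_, ?_⟩
  · have := hg x
    rw [e, v_zero h, mul_inv_eq_one, mul_eq_left] at this
    exact (v_eq_one h).1 this
  · obtain ⟨k, -, e⟩ := orb0 hm x h0 hq
    exact sing hz hm l _ (isConj_iff.2 ⟨g * k, by rw [← hg, ← e]; group⟩)

omit hz l [Finite G] in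
theorem blk_of (aT : Acts v t mT) (hg : Acts v g M) (hc : g ∈ Ce t) :
    ∃ a b c d e f g k, M = blk a b c d e f g k :=
  exists_blk (acts_unique hm.toCoord (acts_mul hg aT) (mem_Ce.1 hc ▸ acts_mul aT hg))

omit hz [Finite G] in
theorem lf_inv (tt : t * t = 1) : LF J Q M₀ L₁ (v vz) t f⁻¹ where
  sq := by rw [← mul_inv_rev, l.sq, inv_eq_of_mul_eq_one_right tt]
  fN := inv_mem l.fN
  fL := inv_mem l.fL
  le := l.le
  iso := l.iso
  nor := l.nor
  dJ := l.dJ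
  finv j hj := by
    have h1 := conj_mem_of_mem_normalizer' l.fN hj
    have h2 := l.finv _ h1
    rw [inv_inv, ← J_le_cn hm.toCoord h1 j hj]
    simpa [mul_assoc] using h2
  nf g hg := (l.nf g hg).imp
    (fun e => by simpa [mul_assoc] using conj_mem_of_mem_normalizer' l.fN (inv_mem e))
    (fun e => by simpa [mul_assoc] using conj_mem_of_mem_normalizer l.fN (inv_mem e))
  frat := l.frat

theorem exists_f (d : D8 v t r τ) :
    ∃ f, LF J Q M₀ L₁ (v vz) t f ∧ (Acts v f mF ∨ Acts v f (dl * mF * dl)) := by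
  have h := hm.toCoord
  obtain ⟨F, aF⟩ := exists_acts h l.fN
  obtain ⟨a, b, c, d', e, f', g, k, rfl⟩ := blk_of hm d.aT aF (l.le l.fL).1
  have h1 := l.finv _ (v_mem h vz')
  rw [aF, ← h.add, mem_Q hz hm] at h1
  rcases decF a b c d' e f' g k ((acts_mem_Ce h aF).1 (l.le l.fL).2) h1
    (acts_unique h (acts_mul aF aF) (l.sq ▸ d.aT)) (px hz hm l aF) with e | e | e | e
  exacts [⟨f, l, .inl (e ▸ aF)⟩, ⟨_, lf_inv hm l d.tt, .inl (acts_inv aF e)⟩,
    ⟨f, l, .inr (e ▸ aF)⟩, ⟨_, lf_inv hm l d.tt, .inr (acts_inv aF e)⟩]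

theorem act (aT : Acts v t mT) (aF : Acts v f mF) (hg : g ∈ Nr J) :
    ∃ M, Acts v g M ∧ M.transpose * B * M = M.det • B := by
  have h := hm.toCoord
  obtain ⟨m, hm1, hu⟩ := l.frat g hg
  have hn : m⁻¹ * g ∈ Nr J := mul_mem (inv_mem (hz.MN hm1)) hg
  obtain ⟨M, aM, iM, dM⟩ := hm.iso m hm1
  obtain ⟨U, aU⟩ := exists_acts h hn
  refine ⟨M * U, by simpa using acts_mul aM aU, ?_⟩
  obtain ⟨a, b, c, d', e, f', g', k, rfl⟩ := blk_of hm aT aU hu.2
  obtain ⟨s, hs⟩ := (mem_zp_v h).1 (mem_Nz.1 hu.1)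
  rw [aU, h.inj.eq_iff] at hs
  have := decU a b c d' e f' g' k (by rw [← hs]; simp [vz]) ((l.nf _ ⟨⟨hn, hu.1⟩, hu.2⟩).imp
    (fun e => acts_unique h (acts_mul aU aF) (by
      simpa [mul_assoc] using acts_mul (acts_J h e) (acts_mul aF aU)))
    (fun e => acts_unique h (acts_mul aF (acts_mul aU aF)) (by
      simpa [mul_assoc] using acts_mul
        (acts_J h (conj_mem_of_mem_normalizer l.fN e)) aU))) (px hz hm l aU)
  rw [Matrix.det_mul, dM, one_mul, det_blk, ← this, Matrix.transpose_mul]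
  conv_rhs => rw [← iM]
  simp only [Matrix.mul_assoc]

omit hz [Finite G] in
theorem zL (aT : Acts v t mT) (aF : Acts v f mF) : v vz' ∈ L₁ := by
  have h := hm.toCoord
  obtain ⟨d, hd, hd', h1⟩ := l.dJ
  obtain ⟨x, rfl⟩ := (h.mem d).1 hd
  have h2 : mT *ᵥ x = x := (acts_mem_Ce h aT).1 (mem_Ce.2 (mem_Ce.1 (l.le hd').1).symm)
  have h3 : v (mF *ᵥ x) ∈ L₁ := aF x ▸ mul_mem (mul_mem l.fL hd') (inv_mem l.fL)
  rcases (by decide +kernel : ∀ x : V, x ≠ 0 → mT *ᵥ x = x → (∃ a : ZMod 3, vz' = a • x) ∨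
    ∃ a : ZMod 3, vz = a • (x + mF *ᵥ x)) x (fun e => h1 ((v_eq_one h).2 e)) h2 with ⟨a, e⟩ | ⟨a, e⟩
  · rw [e, v_smul h]
    exact pow_mem hd' _
  · have h4 : v vz ∈ L₁ := by
      rw [e, v_smul h, h.add]
      exact pow_mem (mul_mem hd' h3) _
    obtain ⟨φ⟩ := l.iso
    have := sl25 (g := φ ⟨_, h4⟩) (fun k => by
      obtain ⟨k, rfl⟩ := φ.surjective k
      rw [← map_mul, ← map_mul]
      exact congrArg φ (Subtype.ext (mem_Ce.1 (l.le k.2).2))) (by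
      rw [← map_pow, ← φ.map_one]
      exact congrArg φ (Subtype.ext (v_cube h _)))
    exact absurd ((v_eq_one h).1 (congrArg Subtype.val (φ.map_eq_one_iff.1 this))) (by decide)

omit l in
theorem y3 (x x' : V) (h0 : x ≠ 0) (hq : q x = 0) (h1 : x' ≠ 0) (h2 : x' ≠ x) (h3 : x' ≠ -x)
    (hg : g ∈ Nz (v x)) (hc : g * v x' = v x' * g) : g ∈ Nr J := by
  have h := hm.toCoord
  obtain ⟨k, hk, e⟩ := orb0 hm x h0 hq
  have hk := hz.MN hk
  have e' : ∀ y, k * y * k⁻¹ ∈ zpowers (v x) ↔ y ∈ zpowers (v vz) := fun y => by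
    rw [← e, ← conj_mem_cj_iff (g := k) (H := zpowers (v vz)), H98.cj, MonoidHom.map_zpowers]
    rfl
  have := hz.y3 (k⁻¹ * g * k) (mem_Nz.2 ((e' _).1 (by
      have := mem_Nz.1 hg
      rw [← e] at this ⊢
      simpa [mul_assoc] using this))) _ (conj_mem_of_mem_normalizer' hk (v_mem h x'))
    (fun hx => by
      obtain ⟨a, ha⟩ := (mem_zp_v h).1 ((e' _).2 hx)
      rw [show k * (k⁻¹ * v x' * k) * k⁻¹ = v x' by group, h.inj.eq_iff] at ha
      rcases (by decide : ∀ a : ZMod 3, a = 0 ∨ a = 1 ∨ a = -1) a with rfl | rfl | rfl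
      exacts [h1 (by simp [← ha]), h2 (by simp [← ha]), h3 (by simp [← ha])])
    (by
      calc _ = k⁻¹ * (g * v x') * k := by group
        _ = _ := by rw [hc]; group)
  simpa [mul_assoc] using mul_mem (mul_mem hk this) (inv_mem hk)

omit l in
theorem mem_Qa {s : G} (aW : Acts v s mW) (x : V) (hx : x 1 + x 2 + x 3 = 0) : v x ∈ cj s Q := by
  have := acts_inv (N := mW * mW) aW (by decide) x
  rw [inv_inv] at this
  rw [mem_cj, this, mem_Q hz hm]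
  exact (by decide +kernel : ∀ x : V, x 1 + x 2 + x 3 = 0 →
    ((mW * mW) *ᵥ x) 0 = ((mW * mW) *ᵥ x) 1) x hx

omit l in
theorem exists_sigma (d : D8 v t r τ) {s : G} (hs : s ∈ M₀) (aW : Acts v s mW) :
    ∃ σ, Acts v σ mS ∧ σ ^ 3 = 1 ∧ σ * t * σ⁻¹ = r ∧ σ * r * σ⁻¹ = t * r ∧ σ ∈ cj s Q := by
  have h := hm.toCoord
  obtain ⟨σ, -, aS⟩ := hm.exS
  have aS' := acts_inv (N := mS * mS) aS (by decide)
  have aTR := acts_mul d.aT d.aR
  obtain ⟨x1, e1⟩ := exists_eq_mul h hz.cJ (M := mR)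
    ((by decide : mS * mT * (mS * mS) = mR) ▸ acts_mul (acts_mul aS d.aT) aS') d.aR
  obtain ⟨x2, e2⟩ := exists_eq_mul h hz.cJ (M := mT * mR)
    ((by decide : mS * mR * (mS * mS) = mT * mR) ▸ acts_mul (acts_mul aS d.aR) aS') aTR
  have trtr : t * r * (t * r) = 1 := by
    rw [mul_assoc, ← mul_assoc r, ← d.tr, mul_assoc, d.rr, mul_one, d.tt]
  obtain ⟨x, f1, f2⟩ := decS x1 ((v_eq_one h).1 (by
      have := vmul h (k := r) d.aR x1 x1
      rw [← e1, d.rr, mul_one] at this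
      rw [← this]
      calc _ = σ * (t * t) * σ⁻¹ := by group
        _ = 1 := by rw [d.tt]; group)) x2 ((v_eq_one h).1 (by
      have := vmul h (k := t * r) aTR x2 x2
      rw [← e2, trtr, mul_one] at this
      rw [← this]
      calc _ = σ * (r * r) * σ⁻¹ := by group
        _ = 1 := by rw [d.rr]; group)) (h.inj (by
      have a1 := vmul h (k := t * r) d.aR x1 x2
      have a2 := vmul h (k := r) aTR x2 x1
      rw [← e1, ← e2] at a1 a2
      rw [← mul_assoc r, ← d.tr] at a1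
      refine mul_right_cancel (a1.symm.trans (Eq.trans ?_ a2))
      calc _ = σ * (t * r) * σ⁻¹ := by group
        _ = _ := by rw [d.tr]; group))
  have key : ∀ {a b : G} {y : V} {M : Mat}, Acts v b M → σ * a * σ⁻¹ = v y * b →
      x + y + M *ᵥ (-x) = 0 → v x * σ * a * (v x * σ)⁻¹ = b := fun {a b y M} hb e f => by
    have := vmul h (k := 1) hb (x + y) (-x)
    rw [f, v_zero h, h.add, v_neg h, mul_assoc (v x), ← e] at this
    simpa [mul_assoc] using this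
  have st := key d.aR e1 f1
  have sr := key aTR e2 f2
  have aσ : Acts v (v x * σ) mS := by simpa using acts_mul (acts_J h (v_mem h x)) aS
  generalize v x * σ = σ at st sr aσ
  have str : σ * (t * r) * σ⁻¹ = t := by
    calc _ = σ * t * σ⁻¹ * (σ * r * σ⁻¹) := by group
      _ = _ := by rw [st, sr, ← mul_assoc, ← d.tr, mul_assoc, d.rr, mul_one]
  obtain ⟨w, hw⟩ := (h.mem _).1 (mem_J h hz.cJ ((by decide : mS ^ 3 = 1) ▸ acts_pow aσ 3))
  have cT : mT *ᵥ w = w := (acts_mem_Ce h d.aT).1 (mem_Ce.2 (mem_Ce.1 (mem_Ce'.2 (by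
    rw [hw]
    calc _ = σ * (σ * (σ * t * σ⁻¹) * σ⁻¹) * σ⁻¹ := by simp [pow_succ, mul_assoc]
      _ = t := by rw [st, sr, str]))).symm)
  have g1 : s⁻¹ * σ * s ∈ Nr J ⊓ Nz (v vz) :=
    ⟨(Nr J).mul_mem ((Nr J).mul_mem ((Nr J).inv_mem (hz.MN hs)) (acts_nr h aσ)) (hz.MN hs),
      nz_of h (acts_mul (acts_mul (acts_inv (N := mW * mW) aW (by decide)) aσ) aW) (a := 1)
        (by decide)⟩
  have p3 : IsPGroup 3 S := IsPGroup.of_card (n := 6) hz.cardS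
  have p4 : IsPGroup 3 (zpowers (s⁻¹ * σ * s)) := isPGroup_iff_forall.2 (by
    rintro _ ⟨n, rfl⟩
    refine ⟨2, ?_⟩
    have : (s⁻¹ * σ * s) ^ 3 ^ 2 = 1 := by
      rw [show s⁻¹ * σ * s = s⁻¹ * σ * s⁻¹⁻¹ by simp, conj_pow, show 3 ^ 2 = 3 * 3 from rfl,
        pow_mul, ← hw, v_cube h]
      simp
    rw [← zpow_natCast, ← zpow_mul, mul_comm, zpow_mul, zpow_natCast, this, one_zpow])
  have g2 : s⁻¹ * σ * s ∈ S := by
    rw [← hz.syl _ (p4.to_sup_of_normal_right' p3 (zpowers_le.2 (hz.NS g1))) le_sup_right]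
    exact mem_sup_left (mem_zpowers _)
  obtain ⟨a, ha, j, hj, e⟩ := hz.JQ _ g2
  have hb : s * a * s⁻¹ ∈ cj s Q := conj_mem_cj ha
  have b3 : (s * a * s⁻¹) ^ 3 = 1 := by rw [conj_pow, hz.expQ a ha]; simp
  have ab : Acts v (s * a * s⁻¹) mS := by
    have := acts_mul aσ (acts_J h (inv_mem (conj_mem_of_mem_normalizer (hz.MN hs) hj)))
    rwa [mul_one, show σ * (s * j * s⁻¹)⁻¹ = s * (s⁻¹ * σ * s * j⁻¹) * s⁻¹ by group, e,
      mul_inv_cancel_right] at this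
  generalize s * a * s⁻¹ = b at hb b3 ab
  obtain ⟨y, rfl⟩ := exists_eq_mul h hz.cJ aσ ab
  rw [pow_three, vmul h ab, vmul h ab, ← pow_three, b3, mul_one, h.inj.eq_iff] at hw
  have h0 := (by decide +kernel : ∀ y : V, mT *ᵥ (y + mS *ᵥ (y + mS *ᵥ y)) =
    y + mS *ᵥ (y + mS *ᵥ y) → y 1 + y 2 + y 3 = 0 ∧ y + mS *ᵥ (y + mS *ᵥ y) = 0) y (hw ▸ cT)
  refine ⟨_, aσ, ?_, st, sr, mul_mem (mem_Qa hz hm aW y h0.1) hb⟩
  rw [pow_three, vmul h ab, vmul h ab, ← pow_three, b3, mul_one, h0.2, v_zero h]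

theorem loc (d : D8 v t r τ) (aF : Acts v f mF) : ∃ Qa σ, Loc v J Qa L₁ t r τ σ f := by
  have h := hm.toCoord
  obtain ⟨s, hs, aW⟩ := hm.exW
  obtain ⟨σ, aS, s3, st, sr, sQ⟩ := exists_sigma hz hm d hs aW
  have o1 : ∀ x, q x ≠ 0 → ∃ g ∈ Nr J, g * v vy * g⁻¹ = v x := fun x hx => by
    refine orb (gs := [mT, mR, mS, mU, mW, mF]) (c := fun x => q x ≠ 0)
      (rk := fun x => tb1.getD (code x) 0) ?_ dec1 x hx
    simp only [List.mem_cons, List.not_mem_nil, or_false, forall_eq_or_imp, forall_eq]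
    exact ⟨⟨t, acts_nr h d.aT, d.aT⟩, ⟨r, acts_nr h d.aR, d.aR⟩, ⟨σ, acts_nr h aS, aS⟩,
      ⟨τ, acts_nr h d.aU, d.aU⟩, ⟨s, acts_nr h aW, aW⟩, ⟨f, l.fN, aF⟩⟩
  refine ⟨cj s Q, σ,
    { h, d with
      cJ := hz.cJ, wc := hz.wc, act := fun g hg => act hz hm l d.aT aF hg
      orb0 := fun x h0 hq => (orb0 hm x h0 hq).imp fun g hg => ⟨hz.MN hg.1, hg.2⟩
      orb1 := o1, sing := sing hz hm l
      y3 := fun x x' h0 hq h1 h2 h3 g hg hc => y3 hz hm x x' h0 hq h1 h2 h3 hg hc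
      aS := aS, aF := aF, s3 := s3, st := st, sr := sr, ff := l.sq, sQ := sQ
      vQ := mem_Qa hz hm aW, Qcl := ?_, Lle := l.le, Liso := l.iso, Lnor := l.nor, fL := l.fL
      zL := zL hm l d.aT aF }⟩
  rintro _ ⟨a, ha, rfl⟩
  obtain ⟨k, hk, hk'⟩ := hz.qconj a ha
  obtain ⟨x, hx⟩ := (h.mem _).1 hk'
  have h1 := (mem_Q hz hm x).1 (hx ▸ conj_mem_of_mem_normalizer (hz.Qn (Ce_le_nr hk)) ha)
  by_cases hq : q x = 0
  · obtain ⟨c, rfl⟩ := (by decide +kernel : ∀ x : V, x 0 = x 1 → q x = 0 →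
      ∃ c : ZMod 3, c • vz = x) x h1 hq
    have h2 : a = v (c • vz) := by
      have := mem_Ce'.1 (show k⁻¹ ∈ Ce (v (c • vz)) from mem_Ce.2 (by
        rw [v_smul h]
        exact ((show Commute k (v vz) from mem_Ce.1 hk).inv_left.pow_right _).eq))
      rw [← this, hx]
      group
    refine .inl ((mem_zp_v h).2 ⟨c, ?_⟩)
    rw [h2, MulEquiv.coe_toMonoidHom, MulAut.conj_apply, aW, Matrix.mulVec_smul,
      show mW *ᵥ vz = va by decide]
  · obtain ⟨n, -, e⟩ := o1 x hq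
    refine .inr (isConj_iff.2 ⟨s * k⁻¹ * n, ?_⟩)
    rw [MulEquiv.coe_toMonoidHom, MulAut.conj_apply]
    calc _ = s * k⁻¹ * (n * v vy * n⁻¹) * k * s⁻¹ := by group
      _ = _ := by rw [e, hx]; group

end

omit [Finite G] in
theorem acts_dl (hg : Acts v g M) {N : Mat} (e : dl * N = M * dl) :
    Acts (fun x => v (dl *ᵥ x)) g N := fun x => by
  simp only [hg _, Matrix.mulVec_mulVec, e]

omit [Finite G] in
theorem d8_dl (d : D8 v t r τ) : D8 (fun x => v (dl *ᵥ x)) t r (τ * t) where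
  aT := acts_dl d.aT (by decide)
  aR := acts_dl d.aR (by decide)
  aU := acts_dl (acts_mul d.aU d.aT) (by decide)
  tt := d.tt
  rr := d.rr
  uu := by rw [mul_assoc, ← mul_assoc t, d.tu, mul_assoc, d.tt, mul_one, d.uu]
  tr := d.tr
  tu := by rw [← mul_assoc, d.tu]
  uru := by
    calc _ = τ * (t * r) * (τ * t) := by group
      _ = τ * r * (t * τ) * t := by rw [d.tr]; group
      _ = τ * r * τ * (t * t) := by rw [d.tu]; group
      _ = _ := by rw [d.tt, mul_one, d.uru]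

omit [Finite G] in
theorem mod_dl (hm : Mod v J M₀) : Mod (fun x => v (dl *ᵥ x)) J M₀ where
  add x y := by rw [Matrix.mulVec_add, hm.add]
  inj x y e := by
    have := congrArg (dl *ᵥ ·) (hm.inj e)
    simpa only [Matrix.mulVec_mulVec, show dl * dl = 1 by decide, Matrix.one_mulVec] using this
  mem g := by
    rw [hm.mem]
    exact ⟨fun ⟨x, e⟩ => ⟨dl *ᵥ x, by
      rw [Matrix.mulVec_mulVec, show dl * dl = 1 by decide, Matrix.one_mulVec, e]⟩,
      fun ⟨x, e⟩ => ⟨_, e⟩⟩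
  iso g hg := by
    obtain ⟨M, aM, iM, dM⟩ := hm.iso g hg
    have e : dl * dl = 1 := by decide
    refine ⟨dl * M * dl, acts_dl aM (by rw [← mul_assoc, ← mul_assoc, e, one_mul]), ?_, ?_⟩
    · calc _ = dl.transpose * (M.transpose * (dl.transpose * B * dl) * M) * dl := by
            simp only [Matrix.transpose_mul, Matrix.mul_assoc]
        _ = B := by rw [show dl.transpose * B * dl = B by decide, iM]; decide
    · rw [Matrix.det_mul, Matrix.det_mul, dM, mul_one, ← Matrix.det_mul, e, Matrix.det_one]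
  d8 := by
    obtain ⟨t, ht, r, hr, τ, hτ, d⟩ := hm.d8
    exact ⟨t, ht, r, hr, _, mul_mem hτ ht, d8_dl d⟩
  exS := by
    obtain ⟨t, ht, r, hr, τ, hτ, d⟩ := hm.d8
    obtain ⟨σ, hσ, a⟩ := hm.exS
    exact ⟨_, mul_mem hσ ht, acts_dl (acts_mul a d.aT) (by decide)⟩
  exW := by
    obtain ⟨s, hs, a⟩ := hm.exW
    exact ⟨_, mul_mem hs hs, acts_dl (acts_mul a a) (by decide)⟩

theorem jobM3 : JobM3.{u} := by
  intro G _ _ S J Q M₀ v _ hz hm
  obtain ⟨t, -, r, -, τ, -, d⟩ := hm.d8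
  obtain ⟨L₁, f, l⟩ := exists_LF hz hm d
  obtain ⟨f, l, a | a⟩ := exists_f hz hm l d
  · obtain ⟨Qa, σ, h⟩ := loc hz hm l d a
    exact ⟨_, _, _, _, _, _, _, _, h⟩
  · have e : v vz = (fun x => v (dl *ᵥ x)) vz := congrArg v (by decide)
    rw [e] at hz l
    obtain ⟨Qa, σ, h⟩ := loc hz (mod_dl hm) l (d8_dl d) (acts_dl a (by decide))
    exact ⟨_, _, _, _, _, _, _, _, h⟩

end H26.MC
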