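/- ALTSEC: the 27-dimensional group of type E6 (torus lemma, fixed spaces, lifting sections). -/
import Cfsg.Agent.H40.ASSpecE
import Cfsg.Agent.H67.ConjH
import Cfsg.Agent.H64.TorKer
import Cfsg.Agent.H55.AltSec2
import Cfsg.Agent.S1054

set_option autoImplicit false

universe u

namespace H26.ASE

open Matrix Cfsg.Lie H63 H65 H40.AS

attribute [local instance] tabE6 commE6

theorem sep_wt : ∀ i j : Fin 27, i ≠ j → ∃ k : Fin 6, aE (72 + k) i i - aE (72 + k) j j ∣ 2 := by
  decide +kernel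
theorem card_nb : ∀ a : Fin 27, (Finset.univ.filter fun b => ts27 a b ≠ 0).card = 10 := by
  decide +kernel
theorem tp_nb : ∀ a b : Fin 27, ts27 a b ≠ 0 →
    ts27 a (tp27 a b) ≠ 0 ∧ ts27 b (tp27 a b) ≠ 0 ∧ tp27 a (tp27 a b) = b := by decide +kernel
theorem tri_nb : ∀ a b : Fin 27, ts27 a b ≠ 0 → ∀ c, ts27 a c ≠ 0 → ts27 b c ≠ 0 → c = tp27 a b := by
  decide +kernel

/-- A nonempty set of points that meets no line in exactly one point has at least ten points. -/
theorem ten_le (Y : Finset (Fin 27)) (h : ∀ a ∈ Y, ∀ b, ts27 a b ≠ 0 → b ∈ Y ∨ tp27 a b ∈ Y)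
    {a : Fin 27} (ha : a ∈ Y) : 10 ≤ Y.card := by
  let N : Fin 27 → Finset (Fin 27) := fun a => Y.filter fun b => ts27 a b ≠ 0
  have h5 : ∀ a ∈ Y, 5 ≤ (N a).card := fun a ha => by
    have h1 : (Finset.univ.filter fun b => ts27 a b ≠ 0) ⊆ N a ∪ (N a).image (tp27 a) := by
      intro b hb
      have hb := (Finset.mem_filter.1 hb).2
      rcases h a ha b hb with h2 | h2
      · exact Finset.mem_union_left _ (Finset.mem_filter.2 ⟨h2, hb⟩)
      · exact Finset.mem_union_right _ (Finset.mem_image.2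
          ⟨_, Finset.mem_filter.2 ⟨h2, (tp_nb a b hb).1⟩, (tp_nb a b hb).2.2⟩)
    have h2 := (Finset.card_le_card h1).trans (Finset.card_union_le _ _)
    have h3 := Finset.card_image_le (s := N a) (f := tp27 a)
    rw [card_nb] at h2
    omega
  have hi : ∀ a b, ts27 a b ≠ 0 → N a ∩ N b ⊆ {tp27 a b} := fun a b hab c hc => by
    rw [Finset.mem_inter, Finset.mem_filter, Finset.mem_filter] at hc
    exact Finset.mem_singleton.2 (tri_nb a b hab c hc.1.2 hc.2.2)
  have hY : ∀ a, N a ⊆ Y := fun a => Finset.filter_subset _ _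
  obtain ⟨b, hb⟩ := Finset.card_pos.1 (show 0 < (N a).card by have := h5 a ha; omega)
  obtain ⟨hb, hab⟩ := Finset.mem_filter.1 hb
  have e1 := Finset.card_union_add_card_inter (N a) (N b)
  have ha5 := h5 a ha
  have hb5 := h5 b hb
  by_cases hc : tp27 a b ∈ Y
  · have e2 := Finset.card_union_add_card_inter (N a ∪ N b) (N (tp27 a b))
    have e3 := Finset.card_le_card (hi a b hab)
    have e4 : ((N a ∪ N b) ∩ N (tp27 a b)).card ≤ 1 + 1 := by
      rw [Finset.union_inter_distrib_right]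
      exact (Finset.card_union_le _ _).trans (add_le_add
        (Finset.card_le_card (hi _ _ (tp_nb a b hab).1)) (Finset.card_le_card (hi _ _ (tp_nb a b hab).2.1)))
    have e5 := Finset.card_le_card (Finset.union_subset (Finset.union_subset (hY a) (hY b)) (hY (tp27 a b)))
    have := h5 _ hc
    rw [Finset.card_singleton] at e3
    omega
  · have e3 : N a ∩ N b = ∅ := Finset.eq_empty_of_forall_notMem fun c h1 =>
      hc (Finset.mem_singleton.1 (hi a b hab h1) ▸ hY a (Finset.mem_inter.1 h1).1)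
    have e5 := Finset.card_le_card (Finset.union_subset (hY a) (hY b))
    rw [e3, Finset.card_empty] at e1
    omega

variable {F : Type*} [Field F]

theorem exists_sq_ne [Infinite F] : ∃ a : F, a ≠ 0 ∧ a ^ 2 ≠ 1 := by
  classical
  obtain ⟨a, ha⟩ := Infinite.exists_notMem_finset ({0, 1, -1} : Finset F)
  simp only [Finset.mem_insert, Finset.mem_singleton, not_or] at ha
  exact ⟨a, ha.1, fun h => (sq_eq_one_iff.1 h).elim ha.2.1 ha.2.2⟩

theorem exists_ne_one [Infinite F] : ∃ a : F, a ≠ 0 ∧ a ≠ 1 := by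
  obtain ⟨a, h0, h1⟩ := exists_sq_ne (F := F)
  exact ⟨a, h0, fun h => h1 (by rw [h, one_pow])⟩

/-- The diagonal entries along a monomial of the cubic form multiply to one. -/
theorem diag_triple (hF : ∃ a : F, a ≠ 0 ∧ a ≠ 1) {g : GL (Fin 27) F} (hg : g ∈ funStab F (cN L27))
    {d : Fin 27 → F} (h : g.val = diagonal d) {a b : Fin 27} (hab : ts27 a b ≠ 0) :
    d a * d b * d (tp27 a b) = 1 := by
  have h1 := cT_mulVec hF hg (Pi.single a 1) (Pi.single b 1) (Pi.single (tp27 a b) 1)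
  have h2 : ∀ j, diagonal d *ᵥ Pi.single j 1 = d j • Pi.single j (1 : F) := fun j => by
    rw [diagonal_mulVec_single, ← Pi.single_smul, smul_eq_mul]
  rw [h, h2, h2, h2, cT_smul, cT_swap12, cT_smul, cT_swap12, cT27', cT27'] at h1
  simp only [Pi.smul_apply, Pi.single_eq_same, smul_eq_mul, mul_one] at h1
  apply mul_left_cancel₀ (ts27_ne (F := F) hab)
  linear_combination h1

/-- Diagonal isometries lie in the torus. -/
theorem diag_tor (hF : ∃ a : F, a ≠ 0 ∧ a ≠ 1) {g : GL (Fin 27) F} (hg : g ∈ funStab F (cN L27))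
    (h : g.val.IsDiag) : ∃ c : Fin chevE6.rank → Fˣ,
      g.val = diagonal fun j => ((∏ i, c i ^ repE6v27.wt i j : Fˣ) : F) := by
  have h0 : ∀ j, g.val j j ≠ 0 := fun j e => mulVec_single_ne g j (funext fun i => by
    rw [mulVec_single_apply]
    by_cases e' : i = j
    · rw [e', e]; rfl
    · exact h e')
  obtain ⟨t, ht⟩ : ∃ t : Fin chevE6.rank → Fˣ,
      t = fun k : Fin 6 => ∏ l, (Units.mk0 _ (h0 (J27 l)))⁻¹ ^ M27 l k := ⟨_, rfl⟩
  obtain ⟨k, hk, h1⟩ := repE6v27.exists_tor (F := F) t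
  have h2 : (k * g).val = diagonal fun j => k.val j j * g.val j j := by
    rw [Units.val_mul, ← diagonal_mul_diagonal]
    congr 1
    · rw [h1]; simp
    · exact h.diagonal_diag.symm
  have h3 := eq_one_of_isDiag27 hF (mul_mem (G27_le hk) hg) (h2 ▸ isDiag_diagonal _) fun l => by
    have h4 : ∏ k : Fin 6, (∏ l, (Units.mk0 _ (h0 (J27 l)))⁻¹ ^ M27 l k) ^ repE6v27.wt k (J27 l) =
        (Units.mk0 _ (h0 (J27 l)))⁻¹ := by
      simp only [← Finset.prod_zpow, ← _root_.zpow_mul]
      rw [Finset.prod_comm]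
      simp only [← H64.zpow_finset_sum]
      rw [Finset.prod_eq_single l (fun l' _ hl => ?_) (by simp)]
      · rw [show ∑ k, M27 l k * repE6v27.wt (k : Fin 6) (J27 l) = _ from wt27_basis l l]; simp
      · rw [show ∑ k, M27 l' k * repE6v27.wt (k : Fin 6) (J27 l) = _ from wt27_basis l' l]; simp [hl]
    rw [h2, diagonal_apply_eq, h1, diagonal_apply_eq, ht]
    erw [h4]
    simp [h0]
  refine ⟨t⁻¹, ?_⟩
  refine h.diagonal_diag.symm.trans ?_
  congr 1; funext j
  have h5 := congrFun (congrFun (h3 ▸ h2 : (1 : GL (Fin 27) F).val = _) j) j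
  rw [diagonal_apply_eq, h1, diagonal_apply_eq, Units.val_one, one_apply_eq] at h5
  simp only [Pi.inv_apply, _root_.inv_zpow, Finset.prod_inv_distrib, Units.val_inv_eq_inv_val]
  exact eq_inv_of_mul_eq_one_right h5.symm

/-- Central elements are diagonal. -/
theorem isDiag_of_center [Infinite F] {g : repE6v27.G F} (hg : g ∈ Subgroup.center _) :
    (g : GL (Fin 27) F).val.IsDiag := by
  intro i j hij
  obtain ⟨a, ha, ha2⟩ := exists_sq_ne (F := F)
  obtain ⟨k, m, hk⟩ := sep_wt i j hij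
  obtain ⟨h, hh, h1⟩ := repE6v27.exists_tor (F := F) (Pi.mulSingle (k : Fin 6) (Units.mk0 a ha))
  have h2 : ∀ j, ∏ k' : Fin 6, (Pi.mulSingle k (Units.mk0 a ha) : Fin 6 → Fˣ) k' ^ repE6v27.wt k' j =
      Units.mk0 a ha ^ aE (72 + k) j j := fun j => by
    rw [Finset.prod_eq_single k (fun k' _ hk' => by rw [Pi.mulSingle_eq_of_ne hk', _root_.one_zpow])
      (by simp), Pi.mulSingle_eq_same]
    rfl
  have h3 := congrArg (fun x : repE6v27.G F => (x : GL (Fin 27) F).val i j)
    (Subgroup.mem_center_iff.1 hg ⟨h, hh⟩)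
  simp only [Subgroup.coe_mul, Units.val_mul, h1, diagonal_mul, mul_diagonal] at h3
  erw [h2, h2] at h3
  by_contra h4
  rw [mul_comm] at h3
  have h5 := Units.ext (mul_left_cancel₀ h4 h3)
  rw [← mul_inv_eq_one, ← _root_.zpow_sub] at h5
  have h6 : Units.mk0 a ha ^ (2 : ℤ) = 1 := by rw [hk, _root_.zpow_mul, h5, _root_.one_zpow]
  exact ha2 (by simpa [zpow_ofNat] using congrArg Units.val h6)

/-- The covering map onto the adjoint group. -/
theorem exists_phi [Infinite F] : ∃ φ : repE6v27.G F →* chevE6.group F, Function.Surjective φ ∧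
    (∀ g, φ g = 1 → (g : GL (Fin 27) F).val.IsDiag) ∧
    ∀ c : Fin chevE6.rank → Fˣ, ∃ h : repE6v27.G F,
      (h : GL (Fin 27) F).val = diagonal (fun j => ((∏ i, c i ^ repE6v27.wt i j : Fˣ) : F)) ∧
        φ h = H67.torG chevE6 F c := by
  obtain ⟨φ, h1, h2, h3⟩ := repE6v27.exists_hom (F := F) (repE6v27.ker_eq_bot_of_simple
    (Cfsg.Agent.S1054.result (F := F) _ (by simp)).1 ⟨67, by decide, fun h => by
      have h2 := congrFun (congrFun h 0) 1
      rw [Rep.A_apply, show repE6v27.a 67 0 1 = _ from aE_ne] at h2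
      simp at h2⟩)
  refine ⟨φ, h1, fun g hg => isDiag_of_center (repE6v27.mem_center_of_commute fun r hr => ⟨?_, ?_⟩),
    fun c => ?_⟩
  · have h4 := h3 g (bv chevE6 F r)
    rw [hg] at h4
    simp only [OneMemClass.coe_one, Units.val_one, one_mulVec,
      repE6v27.ρ_bv (show r < chevE6.nroots + chevE6.rank by omega)] at h4
    exact h4
  · rw [A2_27]; exact Commute.zero_right _
  suffices H : ∀ s : Finset (Fin chevE6.rank), ∃ h : repE6v27.G F,
      (h : GL (Fin 27) F).val = diagonal (fun j => ((∏ i ∈ s, c i ^ repE6v27.wt i j : Fˣ) : F)) ∧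
        φ h = H67.torG chevE6 F (∏ i ∈ s, Pi.mulSingle i (c i)) by
    simpa only [Finset.univ_prod_mulSingle] using H Finset.univ
  intro s
  induction s using Finset.induction_on with
  | empty => exact ⟨1, by simp, by simp⟩
  | insert k s hk ih =>
    obtain ⟨h, h4, h5⟩ := ih
    let x : ℕ → F → repE6v27.G F := fun r t => ⟨repE6v27.xU F r t, repE6v27.xU_mem r t⟩
    refine ⟨H64.hh chevE6 x (chevE6.simple k) (c k) * h, ?_, ?_⟩
    · have h6 := H63.map_hh_eq (D := chevE6) (x := x) (repE6v27.G F).subtype (chevE6.simple k) (c k)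
      rw [Subgroup.coe_mul, Units.val_mul, h4, show ((H64.hh chevE6 x (chevE6.simple k) (c k) :
        repE6v27.G F) : GL (Fin 27) F) = _ from h6]
      erw [repE6v27.val_hh (simpleR k) (c k).ne_zero]
      rw [diagonal_mul_diagonal]
      congr 1; funext j
      rw [Finset.prod_insert hk]
      simp [Rep.wr, co_simpleR]
    · rw [map_mul, h5, Finset.prod_insert hk, map_mul, H67.torOK_xG k, H63.map_hh_eq φ]
      congr 2
      funext r t
      exact Subtype.ext (h2 r t)

variable {p : ℕ} [Fact p.Prime]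

/-- Semisimple elements are conjugate to diagonal elements. -/
theorem conj_diag {s : GL (Fin 27) (Kb p)} (hs : s ∈ repE6v27.G (Kb p)) {e : ℕ} (he : (e : Kb p) ≠ 0)
    (h : s ^ e = 1) : ∃ g ∈ repE6v27.G (Kb p), (g * s * g⁻¹).val.IsDiag := by
  obtain ⟨φ, h1, h2, h3⟩ := exists_phi (F := Kb p)
  obtain ⟨σ, hσ, -, -, halg⟩ := H67.exists_frobAut (ZMod p)
  obtain ⟨g, c, hg⟩ := H67.exists_conj_tor (D := chevE6) (k := Kb p) (l := 3) (a := 1)
    Fintype.one_lt_card hσ halg Nat.prime_three (fun d hd => H64.kerE6.pow_eq_one' hd) he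
    (s := φ ⟨s, hs⟩) (by rw [← map_pow, ← map_one φ]; congr 1; exact Subtype.ext h)
  obtain ⟨g, rfl⟩ := h1 g
  obtain ⟨t, ht, ht'⟩ := h3 c
  have h4 := h2 (g * ⟨s, hs⟩ * g⁻¹ * t⁻¹) (by simp only [map_mul, map_inv, hg, ht', mul_inv_cancel])
  refine ⟨g, g.2, ?_⟩
  have h5 : (g : GL (Fin 27) (Kb p)) * s * (g : GL (Fin 27) (Kb p))⁻¹ =
      ((g * ⟨s, hs⟩ * g⁻¹ * t⁻¹ : repE6v27.G (Kb p)) : GL (Fin 27) (Kb p)) * t := by simp
  rw [h5, Units.val_mul, ← h4.diagonal_diag, ht, diagonal_mul_diagonal]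
  exact isDiag_diagonal _

theorem jobT : JobT := by
  intro p _ s hs e he h
  obtain ⟨g, hg, h1⟩ := conj_diag hs he h
  obtain ⟨c, hc⟩ := diag_tor exists_ne_one (G27_le (mul_mem (mul_mem hg hs) (inv_mem hg))) h1
  exact ⟨g, 1, c, one_pow _, by simpa only [one_mul] using hc⟩

theorem jobF : JobF := by
  intro p _ s hs hs1 e he h
  classical
  obtain ⟨g, hg, h1⟩ := conj_diag hs he h
  set d := (g * s * g⁻¹).val.diag
  have hd : (g * s * g⁻¹).val = diagonal d := h1.diagonal_diag.symm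
  have hm := G27_le (mul_mem (mul_mem hg hs) (inv_mem hg))
  obtain ⟨a, ha⟩ : ∃ a, d a ≠ 1 := by
    by_contra h2
    push Not at h2
    refine hs1 (conj_eq_one_iff.1 (Units.ext (u := g * s * g⁻¹) ?_))
    rw [hd, show d = fun _ => 1 from funext h2]; simp
  have h10 := ten_le (Finset.univ.filter fun j => d j ≠ 1) (fun a ha b hab => by
    by_contra h2
    simp only [Finset.mem_filter, Finset.mem_univ, true_and, not_or, not_not] at ha h2
    have := diag_triple exists_ne_one hm hd hab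
    rw [h2.1, h2.2, mul_one, mul_one] at this
    exact ha this) (a := a) (by simpa using ha)
  let f : Module.End.eigenspace (Matrix.toLin' s.val) 1 →ₗ[Kb p] ({j // d j = 1} → Kb p) :=
    (LinearMap.funLeft _ _ Subtype.val).comp ((Matrix.toLin' g.val).comp (Submodule.subtype _))
  have hf : Function.Injective f := by
    rw [injective_iff_map_eq_zero]
    rintro ⟨v, hv⟩ h2
    rw [Module.End.mem_eigenspace_iff, one_smul, Matrix.toLin'_apply] at hv
    have h3 : diagonal d *ᵥ (g.val *ᵥ v) = g.val *ᵥ v := by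
      rw [← hd, mulVec_mulVec, ← Units.val_mul, inv_mul_cancel_right, Units.val_mul, ← mulVec_mulVec, hv]
    have h4 : g.val *ᵥ v = 0 := funext fun j => by
      by_cases hj : d j = 1
      · exact congrFun h2 ⟨j, hj⟩
      · have := congrFun h3 j
        rw [mulVec_diagonal] at this
        exact (mul_left_eq_self₀.1 this).resolve_left hj
    have h5 := congrArg (g⁻¹).val.mulVec h4
    rw [mulVec_mulVec, Units.inv_mul, one_mulVec, mulVec_zero] at h5
    exact Subtype.ext h5
  have h6 := LinearMap.finrank_le_finrank_of_injective hf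
  rw [Module.finrank_fintype_fun_eq_card, Fintype.card_subtype] at h6
  have h7 := Finset.card_filter_add_card_filter_not (s := (Finset.univ : Finset (Fin 27)))
    (fun j => d j = 1)
  rw [Finset.card_univ, Fintype.card_fin] at h7
  simp only [ne_eq] at h10
  omega

theorem finite_ker [Infinite F] {φ : repE6v27.G F →* chevE6.group F}
    (h2 : ∀ g, φ g = 1 → (g : GL (Fin 27) F).val.IsDiag)
    (h3 : ∀ c : Fin chevE6.rank → Fˣ, ∃ h : repE6v27.G F,
      (h : GL (Fin 27) F).val = diagonal (fun j => ((∏ i, c i ^ repE6v27.wt i j : Fˣ) : F)) ∧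
        φ h = H67.torG chevE6 F c) : Finite φ.ker := by
  choose τ h4 h5 using h3
  have h6 : (φ.ker : Set (repE6v27.G F)) ⊆ τ '' Set.pi Set.univ fun _ => (rootsOfUnity 3 F : Set Fˣ) := by
    intro g hg
    obtain ⟨c, hc⟩ := diag_tor exists_ne_one (G27_le g.2) (h2 g hg)
    have e : τ c = g := Subtype.ext (Units.ext ((h4 c).trans hc.symm))
    refine ⟨c, fun i _ => ?_, e⟩
    have h7 := H64.kerE6.pow_eq_one' (H67.torG_eq_one_iff.1 ((h5 c).symm.trans (e ▸ hg)))
    exact (mem_rootsOfUnity _ _).2 (congrFun h7 i)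
  exact ((Set.Finite.pi fun _ => Set.finite_coe_iff.1 (inferInstanceAs (Finite (rootsOfUnity 3 F)))).image τ).subset h6

theorem jobCov : JobCov.{u} := by
  intro F _ _ p _ _ r m hm H K _ hK
  obtain ⟨φ, h1, h2, h3⟩ := exists_phi (F := Kb p)
  have hfin := finite_ker h2 h3
  obtain ⟨L, f, hf⟩ := H55.Alt.exists_onto hm hK
  let _ := ZMod.algebra F p
  let ι : F →ₐ[ZMod p] Kb p := IsAlgClosed.lift
  let ψ : L →* chevE6.group (Kb p) := (mapG chevE6 ι.toRingHom).comp (H.subtype.comp L.subtype)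
  have hψ : Function.Injective ψ := fun a b e => Subtype.ext (Subtype.ext (Subtype.ext (Units.ext
    (Matrix.ext fun i j => ι.toRingHom.injective (congrArg (fun g : chevE6.group (Kb p) =>
      (g : GL chevE6.Idx (Kb p)).val i j) e)))))
  let M : Subgroup (repE6v27.G (Kb p) × L) :=
    (φ.comp (MonoidHom.fst _ _)).eqLocus (ψ.comp (MonoidHom.snd _ _)) ⊓
      (alternatingGroup (Fin m)).comap (f.comp (MonoidHom.snd _ _))
  let j : M →* GL (Fin 27) (Kb p) :=
    (repE6v27.G (Kb p)).subtype.comp ((MonoidHom.fst _ _).comp M.subtype)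
  have hj : Function.Injective j := fun a b e => by
    have e1 : a.1.1 = b.1.1 := Subtype.ext e
    have e2 : φ a.1.1 = ψ a.1.2 := a.2.1
    have e3 : φ b.1.1 = ψ b.1.2 := b.2.1
    exact Subtype.ext (Prod.ext e1 (hψ (by rw [← e2, ← e3, e1])))
  have hM : Finite M := by
    refine (MonoidHom.finite_iff_finite_ker_range ((MonoidHom.snd _ _).comp M.subtype)).2
      ⟨Finite.of_injective (fun a => (⟨a.1.1.1, ?_⟩ : φ.ker)) fun a b e => ?_, inferInstance⟩
    · have e2 : φ a.1.1.1 = ψ a.1.1.2 := a.1.2.1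
      have e3 : a.1.1.2 = 1 := a.2
      rw [MonoidHom.mem_ker, e2, e3, map_one]
    · exact Subtype.ext (hj (congrArg (fun x : φ.ker => (x.1 : GL (Fin 27) (Kb p))) e))
  refine ⟨j.range, ?_, Finite.of_surjective _ j.rangeRestrict_surjective, (f.comp ((MonoidHom.snd _ _).comp M.subtype)).comp
    (MonoidHom.ofInjective hj).symm.toMonoidHom, ?_⟩
  · rintro _ ⟨a, rfl⟩
    exact a.1.1.2
  · refine le_antisymm ?_ fun σ hσ => ?_
    · rintro _ ⟨a, rfl⟩
      exact ((MonoidHom.ofInjective hj).symm a).2.2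
    · obtain ⟨b, rfl⟩ := hf σ hσ
      obtain ⟨a, ha⟩ := h1 (ψ b)
      exact ⟨MonoidHom.ofInjective hj ⟨(a, b), ha, hσ⟩, by simp⟩

end H26.ASE
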