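/- ALTSEC2: the 56-dimensional group of type E7. -/
import Cfsg.Agent.H40.ASSpec2
import Cfsg.Agent.H26.RepE7
import Cfsg.Agent.H26.ASE6
import Cfsg.Agent.H63.RSE7

set_option autoImplicit false

universe u

namespace H26.E7

open Matrix Cfsg.Lie H63 H65 H40.AS

attribute [local instance] tabE7 commE7

/-- The weights. -/
noncomputable def wt (k j : ℕ) : ℤ := Int.subNatNat (H65.fld 2 3 0x9554955495549554a554a55855825859856855855655615905891864859056459158858614585646621918664592165159654625119464912245191949492548954659518946491948654695529550954495149454a1549558158158558558554555 (7 * j + k)) 1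

/-- For each weight twenty triples of weights. -/
noncomputable def tr (a : Fin 56) (l i : ℕ) : Fin 56 := Fin.ofNat 56 (H65.fld 6 63 (getRow [
  0x1d05864d720d64451c24c74539f0d28823e604ab309e1c6482fa9ece36eeadaca9634955d68476b4bdf7dc0000,
  0x1d15864d820d68455c24c7853a00d28c23e700bb709a1c647efa9dce26eead9ca95f4954d68437b0adb6d81041,
  0x1d15c651820d6c455d28c7853a10d290142800bbb09a0c637efa9cce26adad9ca95b4953da73f7b09d75d42082,
  0x1d164651a24d6c455f28c8053e109394142900bbf099ec6376ea9cce262dad7ca85b5912da73b7b08d34d030c3,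
  0x2116465da24e6c362228c8c53e409694142a00bc2f99ec6076ea5cd1f56dad4ca84f5852da7377b07cf3cc4104,
  0x2156475da2526c362628c9c44e8096a4152a00bc6f89ec2076e95cd1f46dad0ce43f584eda3377b06cb2c85145,
  0x2117c476024e8437a228d8c73e409c94142b00bcaf998cda5eea56d1956da94c284f56d2da7337b05c71c46186,
  0x2157c57602528437a628d9c64e809ca4152b00bcef898c9a5ee956d1946da90c643f56ceda3337b04c30c071c7,
  0x1d88857632529047a628e9c65a809ca815eb00bd307d5c9a52e953cd946da50c613f56cdda0337b03befbc8208,
  0x1da8857e321394482628f9c65a90dca8166b00bd70755c9852f912cd746da10c613b46cdd9e337b02baeb89249,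
  0x1db8857e4214944866250a065e90dda8266b00bdb0715c984ef8d2cd646e9cfc603b468dd5e337b01b6db4a28a,
  0x1db8c5824215944867251a066290dea826ab04adf0714c974ef892cd642e98fc5f3b464dd5d336b40b2cb0b2cb,
  0x39564d5da3d26c362c150b444ee096bc1530011c6989eaa076895cd1f2f29cace4275848da31f7986aebacc30c,
  0x3957cc7603d28437ac1d0b464ee09cbc1532011ce9898ada5e8956d192f09cac642756c8da3177984aaaa8d34d,
  0x35888c7633d29047ac210b465ae09cc015f2011d2a7d5ada528953cd92ef9cac612756c7da0177983a69a4e38e,
  0x35a88c7e339394482c250b465af0dcc01672011d6a755ad8529912cd72ee9cac612346c7d9e177982a28a0f3cf,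
  0x35b88c7e439494486c28fb865ef0ddc02672011daa715ad84e98d2cd62eda09c60234687d5e1779819e79d0410,
  0x35b8cc82439594486d2cfb8662f0dec026b2050dea714ad74e9892cd62aca09c5f234647d5d1769c09a6991451,
  0x35898c767393a057ac214b475ae09cc415f3015d2a7d1ada42990fc992ef8cac212756c6da0137883965952492,
  0x35a98c7e73d2a4582c254b475af0dcc41673015d6a751ad842894ec972ee8cac212346c6d9e1378829249134d3,
  0x35b98c7e8412a4586c293b875ef0ddc42673015daa711ad83e794ec962ed909c20234686d5e1378818e38d4514,
  0x35b9cc828452a4586d2d3b8762f0dec426b3054dea710ad73e694ec962ac909c1f234646d5d1368c08a2895555,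
  0x39a98c8a73d2a858ec257b484f011cc41674018d69751ad542894dc942ee80abe41f36c6d9e0f77c2861856596,
  0x39b98c8a8412a8592c296b8853011dc42674018da9711ad53e794dc932ed849be31f3686d5e0f77c18208175d7,
  0x39b9cc8e8452a8592d2d6b8857011ec426b4057de9710ad43e694dc932ac849be21f3646d5d0f68007df7d8618,
  0x3db98c8a9413a8596c296bc953011fc435f501ada8711ad53a790dc922ed848ba31f3606d200b774179e799659,
  0x3db9cc8e9453a8596d2d6bc9570120c43635059de8710ad43a690dc922ac848ba21f35c6d1f0b678075d75a69a,
  0x41aa0c929454a8596e2d7bca570121c43636099de774fad33a68cdc9226c808b621f3586d1f07578071c71b6db,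
  0x3a098d8a73d2ac78ec25db484f2196cc17f401ed695d1a9542894cc142ee68abe4171844d980f76426db6dc71c,
  0x3a198d8a8412ac792c29cb88532197cc27f401eda9591a953e794cc132ed6c9be3171804d580f764169a69d75d,
  0x3a19cd8e8452ac792d2dcb88572198cc283405dde9590a943e694cc132ac6c9be21717c4d570f668065965e79e,
  0x3e198d8a9413ac796c29cbc9532199cc3775020da8591a953a790cc122ed6c8ba3171784d1a0b75c161861f7df,
  0x3e19cd8e9453ac796d2dcbc957219acc37b505fde8590a943a690cc122ac6c8ba2171744d190b66005d75e0820,
  0x420a0d929454ac796e2ddbca57219bcc37b609fde75cfa933a68ccc1226c688b62171704d190756005965a1861,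
  0x3e498e7ea416ac896c29cc095f2199d04775023da84d1a5836784cbd22ed6c7ba0171783cda0b75015555628a2,
  0x3e49ce82a456ac896d2dcc0963219ad047b5062de84d0a5736684cbd22ac6c7b9f171743cd90b65405145238e3,
  0x423a0e86a457ac896e2ddc0a63219bd047b60a2de750fa5636680cbd226c687b5f171703cd90755404d34e4924,
  0x423a4f86a459ac992f2dfc0a6b219bd448360e2de750ea1636678cb9322c607b5d171702cd70745404924a5965,
  0x4e2a127ea516ac8a6c29cc495f31d9d05775027da454f95836384cbce2ed6c6ba0130783c9a0b74014514669a6,
  0x4e3a1282a556ac8a6d2dcc496331dad057b5066de450f95736284cbce2ac6c6b9f130743c990b64404104279e7,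
  0x5249d286a557ac8a6e2ddc4a6331dbd057b60a6de34d095636280cbce26c686b5f130703c990754403cf3e8a28,
  0x5259d386a559ac9a2f2dfc4a6b31dbd458360e6de349091636278cb8f22c606b5d130702c9707444038e3a9a69,
  0x5e59d6929619ac9a302e2c4a6b421bd458f6126de049085339f78cb8f1ec546b5d0ef702c9407344034d36aaaa,
  0x7659dc92979fa89a322e2cca834221d478f61a6dda4906d339960db8f16c544b570ef582c1407144030c32baeb,
  0x4e2b8e9af49fc10731516c8f5f3359d0c77502dda4549a512256079db1a3845a2012a783ada0b72812cb2ecb2c,
  0x4e3b8e9ef4a0c11731556c8f63335ad0c7b506cde4509a502255c799b1a2845a1f12a743ad90b62c028a2adb6d,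
  0x524b4ea2f4a1c11771557c9063335bd0c7b60acde34caa4f22558799a1a28059df12a703ad90752c024926ebae,
  0x525b4fa6e4e1c117f1559c906b335bd4c8360ecde348aa0e2645879981a27859dd12a702ad70742c020822fbef,
  0x5e5b4faae5a4bd18b1619c906b439bd4c8f612cde048aa0d2614c899519f7859dd0e9702ad40732c01c71f0c30,
  0x5e9b53aae5a8bd59b0619cd46b449bd4c9f616cde038a90d2613c88911df7848dd0e5702ad00722c01861b1c71,
  0x765b4faee724bde7f0462cd08343a1d4d8f61acdda48aa0c25b4c86581e65449d70e9582a940712c0145172cb2,
  0x769b53aee728bde7f1566c948344a1d4d9f61ecdda38a90c25b3c86581a24458d70e5582a900702c0104133cf3,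
  0x76ab56aee728c1e8b1626c978f34a4d4e9f622cdda34a84c25b3c765519f4458141254c2a5006f2c00c30f4d34,
  0x7eab56aef729c208b16a6c998f34e5d0f9f626cdd834a84c21b3875d519d445794124483a1006e2c00820b5d75,
  0x7eab97aef769c218b16e6c99933525d10a352acdd834980c21a38759519c4457931234839cf0ad2c0041076db6,
  0x82ab98aef7a9c218f16e7c9a933565d11a352edd973497cc21938759419c40575312248398f0ac281000037df7] a) (3 * l + i))

/-- The number of the triple containing a weight. -/
noncomputable def lab (a b : Fin 56) : ℕ := H65.fld 5 31 (getRow [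
  0x88643952a4184b320a3530893b549721f039a2594c909347363a2f12df19c9d06b160,
  0x104643952a41962320a36288969d4e4bd103c4d22ce049366363a2f589f19c9d06b00b,
  0x10c243952a42cc2320ac1a88d49dca4be0889cd2996122366c1ba2f5bc519c9d06818b,
  0x10c813952a5a0c2321851a9a449dcf829288ca67316126926c70e2f5be229c9d00358b,
  0x10c870952b520c2331051a9ae7c0893a9288ca70934e62926c7446f5be33149c08358b,
  0x10c8728569520c2331ae7c1051a8893a9288ca709366c744e62906f5be339080e8358b,
  0x10c874ac25520c2619051a9ae7c2329c24d224ea4a0e62926c745e35be33700528358b,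
  0x10c875a4a1520c2619ae7c1051aa329c24d224ea4a26c744e6291e35be3303a428358b,
  0x10c8b3a4aa0a0c2634ce7c11194ca35424d224f363949444e62bc835be209ba501358b,
  0x10d643a4aa404c2635c67c22894cb090d4d24d893b9498a0e6794835bc119ba506898b,
  0x12c643a4aa41822635cf3423244e0590daa9918971d514a0ef31483581f19ba506b04b,
  0x588643a4aa41841635cf81a329a2122b46a9b08e49e2a4a1e73148302df19ba506b162,
  0x10c872996c6b9f00a548309051a8893a9288ca709366c7456f8ce40398a4189ee8358b,
  0x10c875b0a66b9f048548309051aa329c24d224ea4a26c7456f8cc12398a47b8628358b,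
  0x10c8b3b0ad339f04a8283091194ca35424d224f3639494456f88272398af238701358b,
  0x10d643b0ad719f04a90130a2894cb090d4d24d893b9498a16f04672399e5238706898b,
  0x12c643b0ad73cd04a90608a3244e0590daa9918971d514a1607c6723bcc5238706b04b,
  0x588643b0ad73e064a906106329a2122b46a9b08e49e2a4a00b7c67279cc5238706b162,
  0x10c8b61da5339f04a91194c28308a35424d224f36396f8814944672398af712031358b,
  0x10d6461da5719f04aa2894d01308b090d4d24d893b96f045498a272399e5712036898b,
  0x12c6461da573cd04aa3244d0608a0590daa9918971d607c5514a2723bcc5712036b04b,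
  0x5886461da573e064aa329a106106122b46a9b08e49c0b7c62a4a27279cc5712036b162,
  0x10d6c21dae299f04c54894d058482610d4d24d8b78127745498cd12399ee2920d1898b,
  0x12c6c21dae2bcd04c55244d102c8c110daa9918b03d2e3c5514cd123bcce2920d1b04b,
  0x5886c21dae2be064c5529a110914c20b46a9b0805bdc93c62a4cd1279cce2920d1b162,
  0x12d8321dae794d04c64a44e082c8c36844a9ac0463d2e89d519a5123bdc62920d60c4b,
  0x5898321dae796064c64a9a208914cd1882a9816c23dc989e2a9a51279dc62920d60d62,
  0x5b04321dae7c0a64c65352212415a61894104d6c791d149e33525127b8e62920d62c62,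
  0x10d6c6b887299f08a54894d058489362de00984353527745498ce48399ee834a41898b,
  0x12c6c6b8872bcd08a55244d102ca6462c0f304436a92e3c5514ce483bcce834a41b04b,
  0x5886c6b8872be068a5529a1109166c2016f3082d1a9c93c62a4ce4879cce834a41b162,
  0x12d836b887794d08a64a44e082ca6b0118f30da11292e89d519a6483bdc6834a460c4b,
  0x589836b887796068a64a9a208916605b08f334620a9c989e2a9a64879dc6834a460d62,
  0x5b0436b8877c0a68a65352212414135b1e469862505d149e33526487b8e6834a462c62,
  0x12d8d1b88f394d08c92a44e13581059118f30da97442251d519c9283bdd0334ac20c4b,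
  0x5898d1b88f396068c92a9a21302d122b08f3346e4c44151e2a9c92879dd0334ac20d62,
  0x5b04d1b88f3c0a68c933522009ae482b1e46986e8a44a09e33549287b8f0334ac22c62,
  0x5b1a21b88f81ca68ca69520109ae4c7a0a46ba261a44a38633929287ba07334ac59062,
  0x12d8d70de4394d08ca135812a44d059118f30da9745519c82251d283bdd06998520c4b,
  0x5898d70de4396068ca1302d2a9a1122b08f3346e4c62a9c84151d2879dd06998520d62,
  0x5b04d70de43c0a68ca009ad33522482b1e46986e8a6335484a09d287b8f06998522c62,
  0x5b1a270de481ca68c8109ae695224c7a0a46ba261a6339284a385287ba076998559062,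
  0x5b1ae10df021ca6882509ae7263d2a420a46ba319c8c34a84a3a4287ba0d3998b29062,
  0x5b1ae7c04321ca6046509ae7263dae8c6724a908290c34a84a3a5017ba0d62ce629062,
  0x12d8d73e1194d60191253c90a34cc58919038da873d4f9c530749ac0894941cc520c4b,
  0x5898d73e1194c0b1912591d0a998d12b0903b46e43dea9c609749ac1054941cc520d62,
  0x5b04d73e119026b1913229d1351a262b20469c6e7a1f35460e4c9ac1282941cc522c62,
  0x5b1a273e1104a6b1924929e6851a2c818a46b9e71a1f38aa0e925ac1292141cc559062,
  0x5b1ae13e008ca6b1c88929e716410a318a46b9ef9c4e342a0e9352c1292809ccb29062,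
  0x5b1ae788108ca6b1ca716408929d0a318a46b9ef9c60e934e34292c129283856629062,
  0x5b1ae780508ca6b90c8929a7163dae84271428e7290c3429ee93589129283ac2629062,
  0x5b1ae03e028ca6b90e7163c89299ae84271428e7291ee934c3429891292859cc129062,
  0x5b1a073e1114a6b94c7163c8d7412534271428ef748e5234c3431491292b41cc509062,
  0x5b00d73e1190a6b94e2363da474130994d143dca3c8e5690c3621491296941cc520462,
  0x5818d73e1194c4b94e2c1bdae24209996267a1ca91ced290cc1a14912d4941cc520c22,
  0x2d8d73e1194d6294e2c78dae812134c4a67b91251da7291861a1495894941cc520c41] a) b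

/-- The matrices of the representation. -/
noncomputable def aW (r : ℕ) (i j : Fin 56) : ℤ := pmat 56 12 4095 (getRow cols56 r) i j

theorem wt_eq : ∀ (k : Fin 7) (j : Fin 56), aW (126 + k) j j = wt k j := by decide +kernel
theorem wt_rev : ∀ (j : Fin 56) (k : Fin 7), wt k j + wt k j.rev = 0 := by decide +kernel
theorem sep_wt : ∀ i j : Fin 56, i ≠ j → ∃ k : Fin 7, wt k i - wt k j ∣ 2 := by decide +kernel
theorem conn : ∀ j : Fin 56, j ≠ 0 → ∃ r ∈ [32, 47, 52, 56, 59, 61, 62], ∃ i < j,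
    aW r i j ∈ [(1 : ℤ), -1] := by decide +kernel
theorem tr_lab : ∀ a : Fin 56, ∀ l < 20, (lab a (tr a l 0) = l ∧ lab a (tr a l 1) = l ∧
    lab a (tr a l 2) = l) ∧ ∃ a' ∈ [a, a.rev], tr a l 0 = a' ∨
      ∀ k : Fin 7, wt k a' + wt k (tr a l 0) + wt k (tr a l 1) + wt k (tr a l 2) = 0 := by
  decide +kernel
theorem aW_ne : aW 62 0 1 = -1 := by decide +kernel

theorem le_card (Y : Finset (Fin 56)) (f : Fin 56 → ℕ) (h : ∀ l < 20, ∃ b ∈ Y, f b = l) :
    20 ≤ Y.card := by
  simpa using (Finset.card_le_card (s := Finset.range 20) fun l hl =>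
    Finset.mem_image.2 (h l (Finset.mem_range.1 hl))).trans Finset.card_image_le

open Classical in
theorem twenty_le {A : Type*} [CommGroup A] (z : A) (c : Fin 7 → A) {a : Fin 56}
    (ha : z * ∏ k, c k ^ wt k a ≠ 1) :
    20 ≤ (Finset.univ.filter fun j : Fin 56 => z * ∏ k, c k ^ wt k j ≠ 1).card := by
  set d : Fin 56 → A := fun j => z * ∏ k, c k ^ wt k j with hd
  have h1 : ∀ j, d j * d j.rev = z ^ 2 := fun j => by
    rw [hd, mul_mul_mul_comm, ← Finset.prod_mul_distrib]
    simp only [← _root_.zpow_add, wt_rev, zpow_zero, Finset.prod_const_one, mul_one, sq]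
  by_cases hz : z ^ 2 = 1
  · refine le_card _ (lab a) fun l hl => ?_
    obtain ⟨⟨l0, l1, l2⟩, a', h2, h3⟩ := tr_lab a l hl
    have h4 : d a' ≠ 1 := by
      simp only [List.mem_cons, List.not_mem_nil, or_false] at h2
      rcases h2 with rfl | rfl
      · exact ha
      · exact fun e => ha (by simpa [e, hz] using h1 a)
    by_contra h5
    have h6 : ∀ b, lab a b = l → d b = 1 := fun b hb => by_contra fun e =>
      h5 ⟨b, Finset.mem_filter.2 ⟨Finset.mem_univ _, e⟩, hb⟩
    rcases h3 with h3 | h3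
    · exact h4 (h3 ▸ h6 _ l0)
    · have h7 : d a' * d (tr a l 0) * d (tr a l 1) * d (tr a l 2) = z ^ 2 * z ^ 2 *
          ∏ k, c k ^ (wt k a' + wt k (tr a l 0) + wt k (tr a l 1) + wt k (tr a l 2)) := by
        simp only [hd, _root_.zpow_add, Finset.prod_mul_distrib, sq]; ac_rfl
      rw [h6 _ l0, h6 _ l1, h6 _ l2, hz] at h7
      exact h4 (by simpa [h3] using h7)
  · refine le_card _ (fun j => min j (55 - j)) fun l hl => ?_
    have h2 := h1 ⟨l, by omega⟩
    by_cases h3 : d ⟨l, by omega⟩ = 1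
    · refine ⟨Fin.rev ⟨l, by omega⟩, Finset.mem_filter.2 ⟨Finset.mem_univ _, fun e => hz ?_⟩, ?_⟩
      · rw [← h2, h3, one_mul]; exact e
      · simp only [Fin.val_rev]; omega
    · exact ⟨_, Finset.mem_filter.2 ⟨Finset.mem_univ _, h3⟩, by simp only; omega⟩

variable {F : Type*} [Field F]

open Classical in
theorem finrank_add_le {n : ℕ} {s g : GL (Fin n) F} {d : Fin n → F}
    (hd : (g * s * g⁻¹).val = diagonal d) :
    Module.finrank F (Module.End.eigenspace (Matrix.toLin' s.val) 1) +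
      (Finset.univ.filter fun j => d j ≠ 1).card ≤ n := by
  let f : Module.End.eigenspace (Matrix.toLin' s.val) 1 →ₗ[F] ({j // d j = 1} → F) :=
    (LinearMap.funLeft _ _ Subtype.val).comp ((Matrix.toLin' g.val).comp (Submodule.subtype _))
  have hf : Function.Injective f := by
    rw [injective_iff_map_eq_zero]
    rintro ⟨v, hv⟩ h2
    rw [Module.End.mem_eigenspace_iff, one_smul, Matrix.toLin'_apply] at hv
    have h3 : diagonal d *ᵥ (g.val *ᵥ v) = g.val *ᵥ v := by
      rw [← hd, mulVec_mulVec, ← Units.val_mul, inv_mul_cancel_right, Units.val_mul, ← mulVec_mulVec, hv]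
    have h4 : g.val *ᵥ v = 0 := funext fun j => by
      by_cases hj : d j = 1
      · exact congrFun h2 ⟨j, hj⟩
      · have := congrFun h3 j
        rw [mulVec_diagonal] at this
        exact (mul_left_eq_self₀.1 this).resolve_left hj
    have h5 := congrArg (g⁻¹).val.mulVec h4
    rw [mulVec_mulVec, Units.inv_mul, one_mulVec, mulVec_zero] at h5
    exact Subtype.ext h5
  have h6 := LinearMap.finrank_le_finrank_of_injective hf
  rw [Module.finrank_fintype_fun_eq_card, Fintype.card_subtype] at h6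
  have h7 := Finset.card_filter_add_card_filter_not (s := (Finset.univ : Finset (Fin n)))
    (fun j => d j = 1)
  rw [Finset.card_univ, Fintype.card_fin] at h7
  simp only [ne_eq]
  omega

theorem A2_56 (r : ℕ) : rep56.A2 F r = 0 := by
  ext i j
  have : rep56.a2 r i j = fv 56 ℤ (entF (H65.fld 12 4095 0 j)) i := rfl
  rw [Rep.A2_apply, this]
  simp [H65.fld, entF]

theorem rep_wt (k : Fin 7) (j : Fin 56) : rep56.wt k j = wt k j := wt_eq k j

/-- Elements commuting with the root vectors are scalars. -/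
theorem scalar [Infinite F] {g : rep56.G F}
    (hg : ∀ r < chevE7.nroots, Commute (g : GL (Fin 56) F).val (rep56.A F r)) :
    ∃ z : Fˣ, z ^ 56 = 1 ∧ (g : GL (Fin 56) F).val = diagonal fun _ => (z : F) := by
  have hc := rep56.mem_center_of_commute fun r hr => ⟨hg r hr, by rw [A2_56]; exact .zero_right _⟩
  obtain ⟨a, ha, ha2⟩ := H26.ASE.exists_sq_ne (F := F)
  have h0 : (g : GL (Fin 56) F).val.IsDiag := by
    intro i j hij
    obtain ⟨k, m, hk⟩ := sep_wt i j hij
    obtain ⟨h, hh, h1⟩ := rep56.exists_tor (F := F) (Pi.mulSingle (k : Fin 7) (Units.mk0 a ha))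
    have h2 : ∀ j, ∏ k' : Fin 7, (Pi.mulSingle k (Units.mk0 a ha) : Fin 7 → Fˣ) k' ^ rep56.wt k' j =
        Units.mk0 a ha ^ wt k j := fun j => by
      rw [Finset.prod_eq_single k (fun k' _ hk' => by rw [Pi.mulSingle_eq_of_ne hk', _root_.one_zpow])
        (by simp), Pi.mulSingle_eq_same, rep_wt]
    have h3 := congrArg (fun x : rep56.G F => (x : GL (Fin 56) F).val i j)
      (Subgroup.mem_center_iff.1 hc ⟨h, hh⟩)
    simp only [Subgroup.coe_mul, Units.val_mul, h1, diagonal_mul, mul_diagonal] at h3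
    erw [h2, h2] at h3
    by_contra h4
    rw [mul_comm] at h3
    have h5 := Units.ext (mul_left_cancel₀ h4 h3)
    rw [← mul_inv_eq_one, ← _root_.zpow_sub] at h5
    have h6 : Units.mk0 a ha ^ (2 : ℤ) = 1 := by rw [hk, _root_.zpow_mul, h5, _root_.one_zpow]
    exact ha2 (by simpa [zpow_ofNat] using congrArg Units.val h6)
  have h1 : ∀ j, (g : GL (Fin 56) F).val j j = (g : GL (Fin 56) F).val 0 0 := fun j => by
    induction j using WellFoundedLT.induction with
    | ind j ih =>
    by_cases hj : j = 0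
    · rw [hj]
    obtain ⟨r, hr, i, hi, h2⟩ := conn j hj
    have h3 := congrFun (congrFun (hg r (by
      have : ∀ r ∈ [32, 47, 52, 56, 59, 61, 62], r < chevE7.nroots := by decide
      exact this r hr)).eq i) j
    rw [← h0.diagonal_diag, diagonal_mul, mul_diagonal, mul_comm] at h3
    rw [← ih i hi]
    exact (mul_left_cancel₀ (sgn_ne_zero h2) h3).symm
  have h2 : (g : GL (Fin 56) F).val = diagonal fun _ => (g : GL (Fin 56) F).val 0 0 := by
    rw [← h0.diagonal_diag]
    congr 1
    funext j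
    rw [diagonal_apply_eq]
    exact h1 j
  have h3 : GeneralLinearGroup.det (g : GL (Fin 56) F) = 1 :=
    ((rep56.stN.perfect_of_sq ha (by rwa [← sq])).trans (Subgroup.commutator_le.2 fun a _ b _ => by
      rw [MonoidHom.mem_ker, map_commutatorElement, commutatorElement_eq_one_iff_mul_comm, mul_comm]) :
        rep56.G F ≤ GeneralLinearGroup.det.ker) g.2
  have h4 : (g : GL (Fin 56) F).val 0 0 ^ 56 = 1 := by
    have := congrArg Units.val h3
    rwa [GeneralLinearGroup.val_det_apply, h2, det_diagonal, Finset.prod_const, Finset.card_univ,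
      Fintype.card_fin] at this
  exact ⟨Units.ofPowEqOne _ 56 h4 (by norm_num), Units.ext (by simp), h2⟩

/-- The covering map onto the adjoint group. -/
theorem exists_phi [Infinite F] : ∃ φ : rep56.G F →* chevE7.group F, Function.Surjective φ ∧
    (∀ g, φ g = 1 → ∃ z : Fˣ, z ^ 56 = 1 ∧ (g : GL (Fin 56) F).val = diagonal fun _ => (z : F)) ∧
    ∀ c : Fin chevE7.rank → Fˣ, ∃ h : rep56.G F,
      (h : GL (Fin 56) F).val = diagonal (fun j => ((∏ i, c i ^ rep56.wt i j : Fˣ) : F)) ∧
        φ h = H67.torG chevE7 F c := by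
  obtain ⟨φ, h1, h2, h3⟩ := rep56.exists_hom (F := F) (rep56.ker_eq_bot_of_simple
    (Cfsg.Agent.S1054.result (F := F) _ (by simp)).1 ⟨62, by decide, fun h => by
      have h2 := congrFun (congrFun h 0) 1
      rw [Rep.A_apply, show rep56.a 62 0 1 = _ from aW_ne] at h2
      simp at h2⟩)
  refine ⟨φ, h1, fun g hg => scalar fun r hr => ?_, fun c => ?_⟩
  · have h4 := h3 g (bv chevE7 F r)
    rw [hg] at h4
    simp only [OneMemClass.coe_one, Units.val_one, one_mulVec,
      rep56.ρ_bv (show r < chevE7.nroots + chevE7.rank by omega)] at h4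
    exact h4
  suffices H : ∀ s : Finset (Fin chevE7.rank), ∃ h : rep56.G F,
      (h : GL (Fin 56) F).val = diagonal (fun j => ((∏ i ∈ s, c i ^ rep56.wt i j : Fˣ) : F)) ∧
        φ h = H67.torG chevE7 F (∏ i ∈ s, Pi.mulSingle i (c i)) by
    simpa only [Finset.univ_prod_mulSingle] using H Finset.univ
  intro s
  induction s using Finset.induction_on with
  | empty => exact ⟨1, by simp, by simp⟩
  | insert k s hk ih =>
    obtain ⟨h, h4, h5⟩ := ih
    let x : ℕ → F → rep56.G F := fun r t => ⟨rep56.xU F r t, rep56.xU_mem r t⟩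
    refine ⟨H64.hh chevE7 x (chevE7.simple k) (c k) * h, ?_, ?_⟩
    · have h6 := H63.map_hh_eq (D := chevE7) (x := x) (rep56.G F).subtype (chevE7.simple k) (c k)
      rw [Subgroup.coe_mul, Units.val_mul, h4, show ((H64.hh chevE7 x (chevE7.simple k) (c k) :
        rep56.G F) : GL (Fin 56) F) = _ from h6]
      erw [rep56.val_hh (simpleR k) (c k).ne_zero]
      rw [diagonal_mul_diagonal]
      congr 1; funext j
      rw [Finset.prod_insert hk]
      simp [Rep.wr, co_simpleR]
    · rw [map_mul, h5, Finset.prod_insert hk, map_mul, H67.torOK_xG k, H63.map_hh_eq φ]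
      congr 2
      funext r t
      exact Subtype.ext (h2 r t)

variable {p : ℕ} [Fact p.Prime]

theorem fix_le {s : rep56.G (Kb p)} (hs : s ≠ 1) {e : ℕ} (he : (e : Kb p) ≠ 0) (h : s ^ e = 1) :
    Module.finrank (Kb p) (Module.End.eigenspace
      (Matrix.toLin' (s : GL (Fin 56) (Kb p)).val) 1) + 20 ≤ 56 := by
  classical
  obtain ⟨φ, h1, h2, h3⟩ := exists_phi (F := Kb p)
  obtain ⟨σ, hσ, -, -, halg⟩ := H67.exists_frobAut (ZMod p)
  obtain ⟨g, c, hg⟩ := H67.exists_conj_tor (D := chevE7) (k := Kb p) (l := 2) (a := 1)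
    Fintype.one_lt_card hσ halg Nat.prime_two (fun d hd => H64.kerE7.pow_eq_one' hd) he
    (s := φ s) (by rw [← map_pow, h, map_one])
  obtain ⟨g, rfl⟩ := h1 g
  obtain ⟨t, ht, ht'⟩ := h3 c
  obtain ⟨z, -, h4⟩ := h2 (g * s * g⁻¹ * t⁻¹) (by
    simp only [map_mul, map_inv, hg, ht', mul_inv_cancel])
  have h5 : ((g : GL (Fin 56) (Kb p)) * s * (g : GL (Fin 56) (Kb p))⁻¹).val =
      diagonal fun j : Fin 56 => ((z * ∏ k : Fin 7, c k ^ wt k j : (Kb p)ˣ) : Kb p) := by
    rw [show (g : GL (Fin 56) (Kb p)) * s * (g : GL (Fin 56) (Kb p))⁻¹ =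
      ((g * s * g⁻¹ * t⁻¹ : rep56.G (Kb p)) : GL (Fin 56) (Kb p)) * t by simp, Units.val_mul, h4, ht,
      diagonal_mul_diagonal]
    congr 1; funext j
    rw [Units.val_mul]
    exact congrArg (fun y : (Kb p)ˣ => (z : Kb p) * y)
      (Finset.prod_congr rfl fun k _ => congrArg _ (rep_wt k j))
  obtain ⟨a, ha⟩ : ∃ a : Fin 56, z * ∏ k : Fin 7, c k ^ wt k a ≠ 1 := by
    by_contra h6
    push Not at h6
    refine hs (Subtype.ext (conj_eq_one_iff.1 (Units.ext (h5.trans ?_))))
    simp only [h6, Units.val_one, diagonal_one]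
  have h6 := twenty_le z c ha
  have h7 := finrank_add_le h5
  simp only [ne_eq, Units.val_eq_one] at h6 h7
  exact (Nat.add_le_add_left (by convert h6) _).trans h7

theorem jobE7 : JobE7.{u} := by
  intro F _ _ p _ _ r m hm H K _ hK hno
  obtain ⟨φ, h1, h2, -⟩ := exists_phi (F := Kb p)
  have hfin : Finite φ.ker := by
    choose z hz hz' using fun g : φ.ker => h2 g g.2
    exact Finite.of_injective (fun g => (⟨z g, (mem_rootsOfUnity 56 _).2 (hz g)⟩ :
      rootsOfUnity 56 (Kb p))) fun a b e => Subtype.ext (Subtype.ext (Units.ext (by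
        rw [hz', hz', show z a = z b from congrArg Subtype.val e])))
  obtain ⟨L, f, hf⟩ := H55.Alt.exists_onto hm hK
  let _ := ZMod.algebra F p
  let ι : F →ₐ[ZMod p] Kb p := IsAlgClosed.lift
  let ψ : L →* chevE7.group (Kb p) := (mapG chevE7 ι.toRingHom).comp (H.subtype.comp L.subtype)
  have hψ : Function.Injective ψ := fun a b e => Subtype.ext (Subtype.ext (mapG_injective _ e))
  let M : Subgroup (rep56.G (Kb p) × L) :=
    (φ.comp (MonoidHom.fst _ _)).eqLocus (ψ.comp (MonoidHom.snd _ _)) ⊓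
      (alternatingGroup (Fin m)).comap (f.comp (MonoidHom.snd _ _))
  let j : M →* GL (Fin 56) (Kb p) :=
    (rep56.G (Kb p)).subtype.comp ((MonoidHom.fst _ _).comp M.subtype)
  have hj : Function.Injective j := fun a b e => by
    have e1 : a.1.1 = b.1.1 := Subtype.ext e
    have e2 : φ a.1.1 = ψ a.1.2 := a.2.1
    have e3 : φ b.1.1 = ψ b.1.2 := b.2.1
    exact Subtype.ext (Prod.ext e1 (hψ (by rw [← e2, ← e3, e1])))
  have hM : Finite M := by
    refine (MonoidHom.finite_iff_finite_ker_range ((MonoidHom.snd _ _).comp M.subtype)).2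
      ⟨Finite.of_injective (fun a => (⟨a.1.1.1, ?_⟩ : φ.ker)) fun a b e => ?_, inferInstance⟩
    · have e2 : φ a.1.1.1 = ψ a.1.1.2 := a.1.2.1
      have e3 : a.1.1.2 = 1 := a.2
      rw [MonoidHom.mem_ker, e2, e3, map_one]
    · exact Subtype.ext (hj (congrArg (fun x : φ.ker => (x.1 : GL (Fin 56) (Kb p))) e))
  have : Finite j.range := Finite.of_surjective _ j.rangeRestrict_surjective
  refine hno j.range ((f.comp ((MonoidHom.snd _ _).comp M.subtype)).comp
    (MonoidHom.ofInjective hj).symm.toMonoidHom) (le_antisymm ?_ fun σ hσ => ?_) _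
    (natRep j.range.subtype) (by simp) (fun g hg => Subtype.ext (natRep_eq_one hg)) ?_
  · rintro _ ⟨a, rfl⟩
    exact ((MonoidHom.ofInjective hj).symm a).2.2
  · obtain ⟨b, rfl⟩ := hf σ hσ
    obtain ⟨a, ha⟩ := h1 (ψ b)
    exact ⟨MonoidHom.ofInjective hj ⟨(a, b), ha, hσ⟩, by simp⟩
  · rintro ⟨_, a, rfl⟩ hs e he h3
    exact fix_le (s := a.1.1) (fun e => hs (Subtype.ext (congrArg (rep56.G (Kb p)).subtype e))) he
      (Subtype.ext (congrArg j.range.subtype h3))

end H26.E7
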