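import Cfsg.Agent.H48.DP0Spec

/-! # S3275, chapter U0, section A (UA, BH, U1, ISO, NORM, STR): jobs; proofs in
`blueprints/DP0A.md`. -/

set_option autoImplicit false

namespace H26.DA

open Subgroup Cfsg H98 H48.DP H57.DPC H48.DP2

universe u

/-! ### General tools -/

/-- NORM: `y` acts without fixed points on the 2-group `X`, which does not centralise `R`. -/
def NORM : Prop := ∀ (G : Type u) [Group G] [Finite G] (X R : Subgroup G) (y : G),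
  IsPGroup 2 X → IsPGroup 3 R → y ^ 3 = 1 → y ∈ No X → y ∈ No R → X ≤ No R → X ⊓ C1 y = ⊥ →
  ¬ X ≤ Ce R → ∃ n ∈ R ⊓ C1 y, orderOf n = 3 ∧ n ∉ Ce X ∧
    ∃ B : Subgroup G, B ≤ R ∧ E27 B ∧ n ∈ B ∧ y ∈ No B

/-- `v`, `v^y`, `v^(y y)` form a four-group modulo `C(R)`. -/
def JobN0 : Prop := ∀ (G : Type u) [Group G] [Finite G] (R : Subgroup G) (v y : G),
  IsPGroup 3 R → IsPGroup 2 (zpowers v) → y ^ 3 = 1 → v ∈ No R → y ∈ No R → v * v ∈ Ce R →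
  v * (y * v * y⁻¹) * (y * y * v * (y * y)⁻¹) ∈ Ce R → v ∉ Ce R →
  ∃ r ∈ R, orderOf r = 3 ∧ v * r * v⁻¹ = r ∧
    (y * v * y⁻¹) * r * (y * v * y⁻¹)⁻¹ = r⁻¹ ∧
    (y * y * v * (y * y)⁻¹) * r * (y * y * v * (y * y)⁻¹)⁻¹ = r⁻¹ ∧ Commute r (y * r * y⁻¹)

def JobN1 : Prop := JobN0.{u} → NORM.{u}

/-- The structure of a section `H / N` with trivial `O₂`. -/
structure Str (X : Type u) [Group X] : Prop where
  nd : ND X
  o2 : O2 (⊤ : Subgroup X) = ⊥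
  cm : ∀ K : Subgroup X, IsComponentOf K ⊤ → Three K ∧ Cm ⊤ K

def STR : Prop := ∀ (G : Type u) [Group G] [Finite G], Hyp G → ∀ (H : Subgroup G) (N : Subgroup H)
  [N.Normal], H ≠ ⊤ → O2 (⊤ : Subgroup (H ⧸ N)) = ⊥ → Str (H ⧸ N)

/-- A normal 2-subgroup of `C_H(y)` lies in `O₂(H)`. -/
def K2 : Prop := ∀ (G : Type u) [Group G] [Finite G], Hyp G → ∀ (H S : Subgroup G) (y : G),
  H ≠ ⊤ → y ∈ H → orderOf y = 3 → IsPGroup 2 S → S ≤ H ⊓ C1 y → H ⊓ C1 y ≤ No S → S ≤ O2 H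

/-- 3-rank one. -/
def JobRK : Prop := ∀ (G : Type u) [Group G] [Finite G] (Y : Subgroup G) (e : G), e ∈ Y →
  orderOf e = 3 → (∀ w ∈ Y, w ^ 3 = 1 → Commute w e → w ∈ zpowers e) →
  ∀ A : Subgroup G, A ≤ Y → IsElementaryAbelian 3 A → Nat.card A ≤ 3

/-! ### UA -/

/-- `Q(A) = ⟨O₂(C(a)) : a ∈ A#⟩`. -/
abbrev QA {G : Type u} [Group G] (A : Subgroup G) : Subgroup G :=
  signalizerClosure A (fun a => O2 (C1 a))

structure QG (G : Type u) [Group G] : Prop where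
  eq : ∀ A B : Subgroup G, E27 B → A ≤ B → 9 ≤ Nat.card A → QA A = QA B
  two : ∀ B : Subgroup G, E27 B → IsPGroup 2 (QA B)
  cen : ∀ B : Subgroup G, E27 B → ∀ a ∈ B, a ≠ 1 → QA B ⊓ C1 a = O2 (C1 a)
  cj : ∀ (g : G) (A : Subgroup G), cj g (QA A) = QA (cj g A)

def JobQG : Prop := ∀ (G : Type u) [Group G] [Finite G], Hyp G → QG G

def JobQU : Prop := ∀ (G : Type u) [Group G] [Finite G] (P B : Subgroup G), IsPGroup 3 P → B ≤ P →
  E27 B → ∃ U : Subgroup G, U ≤ P ∧ P ≤ No U ∧ 9 ≤ Nat.card U ∧ ∀ B' : Subgroup G, B' ≤ P →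
    E27 B' → ∃ A B'' : Subgroup G, A ≤ B' ∧ 9 ≤ Nat.card A ∧ B'' ≤ P ∧ E27 B'' ∧ A ≤ B'' ∧ U ≤ B''

def JobUA : Prop := K2.{u} → JobQG.{u} → JobQU.{u} → UA.{u}

/-! ### ISO -/

variable {G : Type u} [Group G]

/-- The situation of ISO in the group `M / O_{3'}(M)`. -/
structure Iz (P : Subgroup G) (y z : G) : Prop where
  str : Str G
  syl : IsSyl 3 P ⊤
  yP : y ∈ P
  zP : z ∈ P
  cz : P ≤ C1 z
  y3 : orderOf y = 3
  z3 : orderOf z = 3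
  st : ∀ w : G, w ^ 3 = 1 → Commute w y → Commute w z → w ∈ zpowers y ⊔ zpowers z
  big : ∃ B : Subgroup G, E27 B

/-- The map onto `M / O_{3'}(M)`. -/
abbrev pm (M : Subgroup G) : M →* M ⧸ pPrimeCore 3 M := QuotientGroup.mk' (pPrimeCore 3 M)

def JobLF : Prop := STR.{u} → ∀ (G : Type u) [Group G] [Finite G] (M Q : Subgroup G)
  (P : Sylow 3 G) (y z : M), Ua M Q → (P : Subgroup G) ≤ M → (y : G) ∈ (P : Subgroup G) →
  (z : G) ∈ (P : Subgroup G) → (P : Subgroup G) ≤ C1 (z : G) → orderOf (y : G) = 3 →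
  orderOf (z : G) = 3 → (y : G) ∉ zpowers (z : G) →
  ¬ InU M (zpowers (y : G) ⊔ zpowers (z : G)) →
  Iz (((P : Subgroup G).subgroupOf M).map (pm M)) (pm M y) (pm M z)

def JobCA : Prop := ∀ (G : Type u) [Group G] [Finite G] (P K : Subgroup G) (y z : G), Iz P y z →
  IsComponentOf K ⊤ → z ∈ No K ∧ (y ∈ No K → (∃ e ∈ K ⊓ (zpowers y ⊔ zpowers z), e ≠ 1) ∧
    ∀ e ∈ zpowers y ⊔ zpowers z, ∃ k ∈ K ⊓ (zpowers y ⊔ zpowers z), k⁻¹ * e ∈ Ce K)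

def JobCB1 : Prop := JobCA.{u} → ∀ (G : Type u) [Group G] [Finite G] (P K : Subgroup G) (y z : G),
  Iz P y z → (∀ J : Subgroup G, IsComponentOf J ⊤ → y ∈ No J) → IsComponentOf K ⊤ →
  ∀ b : G, b ^ 3 = 1 → b ∈ No K

def JobCB2 : Prop := JobCA.{u} → JobRK.{u} → ∀ (G : Type u) [Group G] [Finite G]
  (P K : Subgroup G) (y z : G), Iz P y z → IsComponentOf K ⊤ →
  (∀ b : G, b ^ 3 = 1 → b ∈ No K) → False

/-- `y` permutes three components, `z = a a^y a^(y y)`. -/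
structure Wa (P K : Subgroup G) (y z a : G) : Prop extends Iz P y z where
  comp : IsComponentOf K ⊤
  yK : y ∉ No K
  aK : a ∈ K
  a3 : orderOf a = 3
  za : z = a * (y * a * y⁻¹) * (y * y * a * (y * y)⁻¹)
  zc : a⁻¹ * z ∈ Ce K
  ca : ∀ w ∈ K, w ^ 3 = 1 → Commute w a → w ∈ zpowers a
  eN : ∀ e ∈ zpowers y ⊔ zpowers z, e ∈ No K → e ∈ zpowers z

structure Wb (P K : Subgroup G) (y z a : G) : Prop extends Wa P K y z a where
  aP : a ∈ P
  cc : ∀ c : G, c ^ 3 = 1 → c ∈ Ce K → c ∈ Ce (cj y K) → c ∈ Ce (cj (y * y) K) → c = 1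
  all : ∀ J : Subgroup G, IsComponentOf J ⊤ → J = K ∨ J = cj y K ∨ J = cj (y * y) K

structure Wc (P K : Subgroup G) (y z a : G) : Prop extends Wb P K y z a where
  cop : ∀ g : G, (orderOf g).Coprime 3 → g ∈ No K
  thr : ∀ t ∈ P, t ∈ No K → t ∈ No (cj y K) ∧ t ∈ No (cj (y * y) K)
  cos : ∀ g : G, g ∈ No K ∨ y⁻¹ * g ∈ No K ∨ (y * y)⁻¹ * g ∈ No K

/-- The base group. -/
abbrev Bs (y a : G) : Subgroup G :=
  zpowers a ⊔ zpowers (y * a * y⁻¹) ⊔ zpowers (y * y * a * (y * y)⁻¹)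

structure Wd (P K : Subgroup G) (y z a : G) : Prop extends Wc P K y z a where
  e27 : E27 (Bs y a)
  c27 : Nat.card (Bs y a) ≤ 27
  om : ∀ w ∈ P, w ∈ No K → w ^ 3 = 1 → w ∈ Bs y a

def JobW1 : Prop := JobCA.{u} → ∀ (G : Type u) [Group G] [Finite G] (P K : Subgroup G) (y z : G),
  Iz P y z → IsComponentOf K ⊤ → y ∉ No K → ∃ a, Wa P K y z a

def JobW2 : Prop := ∀ (G : Type u) [Group G] [Finite G] (P K : Subgroup G) (y z a : G),
  Wa P K y z a → Wb P K y z a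

def JobW3 : Prop := ∀ (G : Type u) [Group G] [Finite G] (P K : Subgroup G) (y z a : G),
  Wb P K y z a → Wc P K y z a

def JobW4 : Prop := ∀ (G : Type u) [Group G] [Finite G] (P K : Subgroup G) (y z a : G),
  Wc P K y z a → Wd P K y z a

/-- `P` has exactly one `3³`. -/
def Un (P : Subgroup G) : Prop :=
  ∃ B : Subgroup G, B ≤ P ∧ E27 B ∧ ∀ B' : Subgroup G, B' ≤ P → E27 B' → B' = B

def JobW5 : Prop := ∀ (G : Type u) [Group G] [Finite G] (P K : Subgroup G) (y z a : G),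
  Wd P K y z a → Un P

/-- The transfer step. -/
def JobTF : Prop := ∀ (G : Type u) [Group G] [Finite G] (M Q L : Subgroup G) (P : Sylow 3 G)
  (y : G), Ua M Q → (P : Subgroup G) ≤ M → y ∈ (P : Subgroup G) → Un (P : Subgroup G) →
  (∀ g ∈ M, (orderOf g).Coprime 3 → g ∈ L) → y ∈ L

/-- `Un` comes back from the quotient. -/
def JobUL : Prop := ∀ (G : Type u) [Group G] [Finite G] (M P : Subgroup G), IsPGroup 3 P → P ≤ M →
  Un ((P.subgroupOf M).map (pm M)) → Un P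

def JobNC : Prop := NORM.{u} → ∀ (G : Type u) [Group G] [Finite G] (P X : Subgroup G) (y z : G),
  Iz P y z → (∀ K : Subgroup G, ¬ IsComponentOf K ⊤) → IsPGroup 2 X → y ∈ No X → z ∈ No X → X = ⊥

end H26.DA
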