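import Cfsg.Agent.H14.CBSpec
import Cfsg.Agent.H14.FEKit

/-! Tower CB, job `JAdj`. -/

set_option autoImplicit false
set_option maxHeartbeats 400000

namespace H26.CB

open Cfsg Subgroup MulAction H14 H98 H1.Gold H31.S2 H14.GC H14.FE H14.NF H14.CB
open scoped commutatorElement

universe u

section Kit

variable {G : Type u} [Group G] {A B H : Subgroup G} {x y : G}

theorem adj_el_comm (h : El A) (hx : x ∈ A) (hy : y ∈ A) : x * y = y * x := by
  have ix : x⁻¹ = x := inv_eq_of_mul_eq_one_right (h x hx)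
  have iy : y⁻¹ = y := inv_eq_of_mul_eq_one_right (h y hy)
  have ixy : (x * y)⁻¹ = x * y := inv_eq_of_mul_eq_one_right (h _ (A.mul_mem hx hy))
  rw [← ixy, mul_inv_rev, ix, iy]

theorem adj_el_cen (h : El A) : A ≤ cen A := fun _ hx =>
  mem_centralizer_iff.2 fun _ hy => adj_el_comm h hy hx

theorem adj_le_cen_sup (hA : H ≤ cen A) (hB : H ≤ cen B) : H ≤ cen (A ⊔ B) :=
  le_centralizer_iff.2 (sup_le (le_centralizer_iff.1 hA) (le_centralizer_iff.1 hB))

theorem adj_el_sup (hA : El A) (hB : El B) (h : B ≤ cen A) : El (A ⊔ B) := by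
  have hc : A ⊔ B ≤ cen (A ⊔ B) :=
    sup_le (adj_le_cen_sup (adj_el_cen hA) (le_centralizer_iff.1 h)) (adj_le_cen_sup h (adj_el_cen hB))
  let S : Subgroup G :=
    { carrier := {x | x ∈ A ⊔ B ∧ x * x = 1}
      one_mem' := ⟨one_mem _, mul_one _⟩
      mul_mem' := by
        rintro a b ⟨ha, a2⟩ ⟨hb, b2⟩
        refine ⟨mul_mem ha hb, ?_⟩
        have e : b * a = a * b := mem_centralizer_iff.1 (hc ha) b hb
        calc a * b * (a * b) = a * (b * a) * b := by group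
          _ = (a * a) * (b * b) := by rw [e]; group
          _ = 1 := by rw [a2, b2, mul_one]
      inv_mem' := by
        rintro a ⟨ha, a2⟩
        exact ⟨inv_mem ha, by rw [← mul_inv_rev, a2, inv_one]⟩ }
  have hS : A ⊔ B ≤ S :=
    sup_le (fun a ha => ⟨mem_sup_left ha, hA a ha⟩) (fun b hb => ⟨mem_sup_right hb, hB b hb⟩)
  exact fun a ha => (hS ha).2

theorem adj_el_two (h : El A) : IsPGroup 2 A := fun g =>
  ⟨1, Subtype.ext (by simpa [pow_two] using h g.1 g.2)⟩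

theorem adj_el_cj (h : El A) (g : G) : El (cj g A) := by
  intro a ha
  have e := h _ (mem_cj.1 ha)
  calc a * a = g * (g⁻¹ * a * g * (g⁻¹ * a * g)) * g⁻¹ := by group
    _ = 1 := by rw [e]; group

theorem adj_cen1 (h : H ≤ cen A) (hx : x ∈ A) : H ≤ cen1 x := fun _ hy =>
  mem_centralizer_singleton_iff.2 (mem_centralizer_iff.1 (h hy) x hx).symm

end Kit

theorem jobAdj : H14.CB.JAdj.{u} := by
  intro cm G _ _ Q E tg Q₁ T P Z ln pl r hr r1 z hz
  obtain ⟨m, mm⟩ := pl.mv r hr r1 z hz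
  by_cases z1 : z = 1
  · exact ⟨m, mm, fun h => absurd z1 h⟩
  obtain ⟨g, hQ₁, hT⟩ := ln.col.p2
  have EP : E ≤ P := ln.pg.lt.le
  have PQ : P ≤ Q := ln.pg.le.trans inf_le_left
  have PE : P ≤ cen E := ln.pg.le.trans inf_le_right
  have PZ : P ≤ cen Z := le_centralizer_iff.1 pl.cP
  have elT : El T := hT ▸ adj_el_cj tg.el g
  have ZE : Z ≤ cen E := pl.cP.trans (centralizer_le EP)
  have elV : El (E ⊔ T ⊔ Z) :=
    adj_el_sup (adj_el_sup tg.el elT ln.col.comm) pl.el (adj_le_cen_sup ZE pl.cT)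
  have cV := adj_el_cen elV
  have EV : E ≤ E ⊔ T ⊔ Z := le_sup_left.trans le_sup_left
  have TV : T ≤ E ⊔ T ⊔ Z := le_sup_right.trans le_sup_left
  have ZV : Z ≤ E ⊔ T ⊔ Z := le_sup_right
  have rzV : r * z ∈ E ⊔ T ⊔ Z := mul_mem (EV hr) (ZV hz)
  have rz1 : r * z ≠ 1 := by
    rw [← mm.mv]
    intro e
    apply r1
    calc r = m⁻¹ * (m * r * m⁻¹) * m := by group
      _ = 1 := by rw [e]; group
  have rzQ : r * z ∈ cj m Q := mm.mv ▸ conj_mem_cj (tg.le hr)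
  have cr : cen1 r ≤ nor Q := by
    have := tg.cen_le 1 r (by rw [cj_one]; exact tg.le hr) ⟨r1, tg.el r hr⟩
    rwa [cj_one] at this
  have crz : cen1 (r * z) ≤ nor (cj m Q) := tg.cen_le m _ rzQ ⟨rz1, elV _ rzV⟩
  have ne : cj 1 Q ≠ cj m Q := by
    rw [cj_one]
    intro e
    rw [← e] at rzQ
    have zQ : z ∈ Q := (Q.mul_mem_cancel_left (tg.le hr)).1 rzQ
    obtain ⟨s, hs, -, -, is, -⟩ := tg.four
    have tT : g * s * g⁻¹ ∈ T := hT ▸ conj_mem_cj hs
    have t1 : g * s * g⁻¹ ≠ 1 := by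
      intro e'
      apply is.1
      calc s = g⁻¹ * (g * s * g⁻¹) * g := by group
        _ = 1 := by rw [e']; group
    have ct : cen1 (g * s * g⁻¹) ≤ nor Q₁ :=
      hQ₁ ▸ tg.cen_le g _ (conj_mem_cj (tg.le hs)) ⟨t1, elT _ tT⟩
    have hU : Q ⊓ (E ⊔ T ⊔ Z) ≤ E :=
      tg.exc _ _ _ _ (tg.sym _ _ _ _ ln.col) _
        (inf_le_inf_left _ ((adj_cen1 cV (TV tT)).trans ct))
        ((adj_el_two elV).to_le inf_le_right) (le_inf tg.le EV)
    have : z ∈ Z ⊓ E := ⟨hz, hU ⟨zQ, ZV hz⟩⟩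
    rw [pl.dj] at this
    exact z1 (mem_bot.1 this)
  have odd : Odd (Nat.card (Q ⊓ cj m Q : Subgroup G)) := by
    have := (tg.ti 1 m ne).odd
    rwa [cj_one] at this
  have mV : m ∈ nor (E ⊔ T ⊔ Z) := by
    apply mem_normalizer_of_cj_le
    rw [cj_sup, cj_sup, cj_eq_self (centralizer_le_normalizer _ mm.cT),
      cj_eq_self (centralizer_le_normalizer _ mm.cZ)]
    refine sup_le (sup_le ?_ TV) ZV
    rintro _ ⟨s, hs, rfl⟩
    have e : (MulAut.conj m).toMonoidHom s = (s⁻¹ * ⁅s, m⁆)⁻¹ := by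
      simp only [MulEquiv.coe_toMonoidHom, MulAut.conj_apply, commutatorElement_def]; group
    rw [e]
    exact inv_mem (mul_mem (inv_mem (EV hs)) (ZV (mm.cm s hs)))
  have VP : E ⊔ T ⊔ Z ≤ nor P := by
    refine sup_le (sup_le (le_normalizer_of_le EP) ?_) (le_normalizer_of_le_centralizer pl.cP)
    refine le_normalizer_of_commutator_le (A := P) (commutator_le.2 fun y hy t ht => ?_) le_rfl
    rw [← commutatorElement_inv]
    exact inv_mem (EP (ln.pg.cm t ht y hy))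
  have VB : E ⊔ T ⊔ Z ≤ nor (cj m P) := by
    have := cj_mono m VP
    rwa [cj_eq_self mV, cj_normalizer] at this
  have PEZ : P ≤ cen (E ⊔ Z) := adj_le_cen_sup PE PZ
  have Prz : P ≤ cen1 (r * z) := adj_cen1 PEZ (mul_mem (mem_sup_left hr) (mem_sup_right hz))
  have Br : cj m P ≤ cen1 r := by
    intro b hb
    have h1 := mem_centralizer_singleton_iff.1
      (adj_cen1 PEZ (mul_mem (mem_sup_left hr) (inv_mem (mem_sup_right hz))) (mem_cj.1 hb))
    have h2 : z * m = m * z := mem_centralizer_iff.1 mm.cZ z hz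
    have h3 : m * (r * z⁻¹) * m⁻¹ = r := by
      calc m * (r * z⁻¹) * m⁻¹ = m * r * m⁻¹ * (m * (m * z)⁻¹ * m * m⁻¹) := by group
        _ = r * z * (m * (z * m)⁻¹ * m * m⁻¹) := by rw [mm.mv, h2]
        _ = r := by group
    refine mem_centralizer_singleton_iff.2 ?_
    calc b * r = b * (m * (r * z⁻¹) * m⁻¹) := by rw [h3]
      _ = m * (m⁻¹ * b * m * (r * z⁻¹)) * m⁻¹ := by group
      _ = m * (r * z⁻¹) * m⁻¹ * b := by rw [h1]; group
      _ = r * b := by rw [h3]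
  have BQ : cj m P ≤ nor Q := Br.trans cr
  have AQ : P ≤ nor (cj m Q) := Prz.trans crz
  obtain ⟨o, -, oV, ho⟩ := cm G P (cj m P) (E ⊔ T ⊔ Z) (Q ⊓ cj m Q) ln.pg.two
    (isPGroup_cj m ln.pg.two) (adj_el_two elV) VP VB odd
    (le_normalizer_inf
      (sup_le (sup_le (le_normalizer_of_le PQ) BQ) ((adj_cen1 cV (EV hr)).trans cr))
      (sup_le (sup_le AQ (le_normalizer_of_le (cj_mono m PQ))) ((adj_cen1 cV rzV).trans crz)))
    (fun a ha b hb => ⟨comm_mem_left (PQ ha) (BQ hb), comm_mem_right (AQ ha) (cj_mono m PQ hb)⟩)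
  have oc : ∀ v ∈ E ⊔ T ⊔ Z, o * v * o⁻¹ = v := fun v hv => by
    rw [← mem_centralizer_iff.1 oV v hv]; group
  refine ⟨o * m, ⟨mul_mem (centralizer_le TV oV) mm.cT, mul_mem (centralizer_le ZV oV) mm.cZ, ?_, ?_⟩,
    fun _ => by rwa [← cj_cj]⟩
  · calc o * m * r * (o * m)⁻¹ = o * (m * r * m⁻¹) * o⁻¹ := by group
      _ = r * z := by rw [mm.mv, oc _ rzV]
  · intro s hs
    have h1 := mm.cm s hs
    have e : ⁅s, o * m⁆ = ⁅s, m⁆ := by
      calc ⁅s, o * m⁆ = (o * s * o⁻¹) * o * m * s⁻¹ * m⁻¹ * o⁻¹ := by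
            rw [oc s (EV hs), commutatorElement_def]; group
        _ = o * ⁅s, m⁆ * o⁻¹ := by rw [commutatorElement_def]; group
        _ = ⁅s, m⁆ := oc _ (ZV h1)
    rw [e]; exact h1

end H26.CB
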