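import Cfsg.Agent.H26.T4Spec
import Cfsg.Agent.H67.FPII2
import Cfsg.Agent.H87.FPTwo

/-! Case II with `q = 2` for `Env2`. -/

set_option autoImplicit false

namespace H26.T4

open Subgroup Cfsg H98 H26.FP H67.FP H87.FP
open scoped commutatorElement

universe u

variable {Γ : Type u} [Group Γ] [Finite Γ] {S M J U K : Subgroup Γ} {s u w z c x : Γ}
  {𝒜 : Subgroup (MulAut Γ)} {F : Γ → Γ → Prop}

theorem fam_FF2 (two : IsPGroup 2 S) (n : ℕ) : Fam S ⊥ (FF S n) where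
  two := two
  odd := by simp
  mem := fun _ _ ⟨_, _, _, _, c, h1, _, h3, _⟩ =>
    ⟨(cf_J_le c (c.bl.le h1)).1, (cf_J_le c (c.bl.le h3.1)).1⟩
  sq := fun _ _ ⟨_, _, _, _, c, h1, _, h3, _⟩ => ⟨two_sq c.bl h1, two_sq c.bl h3.1⟩
  ne := fun _ _ ⟨_, _, _, _, _, _, h2, h3, h4, _⟩ =>
    ⟨fun e => h2 (e ▸ one_mem _), h4, fun e => h2 (e ▸ h3.2)⟩
  mulz := fun _ _ ⟨_, _, _, _, c, h1, h2, h3, h4⟩ =>
    ⟨_, _, _, _, c, mul_mem h1 h3.1, fun h => h2 (((C[_]).mul_mem_cancel_right h3.2).1 h), h3, h4⟩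
  conj := fun _ _ h _ hs => h.map (MulAut.conj _) (cj_eq_self_of_mem hs)
  aut := fun _ _ h a ha => by rw [mem_bot.1 ha]; exact h
  g1 := fun _ _ ⟨_, _, _, _, c, h1, h2, h3, _⟩ => by
    rw [cf_C1 c two h1 h2]
    exact fun x hx => mem_centralizer_singleton_iff.2 (hx.2 _ h3.1).symm
  sqc := fun _ _ ⟨_, _, _, _, c, h1, h2, h3, h4, _⟩ x hx y hy e => by
    rw [cf_C1 c two h1 h2, cf_Q_eq c two] at hx hy
    exact h4 (mem_bot.1 (c.bl.inf_K rfl ▸ mem_inf.2 ⟨h3.1, e ▸ cf_comm c hx hy (e ▸ h3.1)⟩))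
  sqs := fun _ _ ⟨_, _, _, _, c, h1, h2, h3, h4, _⟩ x hx e => by
    rw [cf_C1 c two h1 h2, cf_Q_eq c two] at hx
    exact h4 (mem_bot.1 (c.bl.inf_K rfl ▸ mem_inf.2 ⟨h3.1, e ▸ cf_sq c hx (e ▸ h3.1)⟩))
  par := fun u z ⟨J, U, K, s, c, h1, h2, h3, h4, h5⟩ => by
    have b' := cf_bl' c
    obtain ⟨u', k1, k2⟩ := SetLike.not_le_iff_exists.1 b'.U_not_le
    refine ⟨u', ⟨_, _, _, _, cf_swap c, k1, k2, (cf_u0 c).ge h3, h4, ?_⟩, ?_, fun x hx => ?_⟩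
    · rw [← h5, ← card_cj s (S ⊓ C[U]), cj_inf, cj_centralizer, cj_eq_self_of_mem c.sS]
    · refine (two_u0 c.bl h3 h4 ((cf_u0 c).le (b'.comm_mem (c.bl.le h1) k1))).resolve_left
        fun e => k2 (b'.mem_C_of_comm (c.bl.le h1) (fun h => h2 ((cf_inf c).le ⟨h1, h⟩).2) k1
          (commutatorElement_eq_one_iff_mul_comm.1 e))
    · rw [cf_C1 c two h1 h2, cf_Q_eq c two] at hx
      exact two_u0 c.bl h3 h4 (cf_QU' c (commutator_mem_commutator hx k1))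
  g6 := fun u w z ⟨J, U, K, s, c, h1, h2, h3, h4, h5⟩ ⟨J₁, U₁, K₁, s₁, c₁, k1, k2, _, _, k5⟩ h => by
    have e : S ⊓ C[U] = S ⊓ C[U₁] := eq_of_le_of_card_ge (by
      rw [← cf_C1 c two h1 h2, ← cf_C1 c₁ two k1 k2]
      exact le_inf inf_le_left h) (k5.trans h5.symm).le
    have e1 : J₁ ⊓ C[U₁] = J ⊓ C[U] := by
      rw [← cf_JQ c, ← cf_JQ c₁, ← cf_Q_eq c two, ← cf_Q_eq c₁ two, e]
    have e2 : J₁ = J := by
      have := c₁.jt
      rw [yy, e1] at this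
      exact this.symm.trans c.jt
    subst e2
    exact two_out c.bl h3 h4 h1 h2 (cf_Uq c c₁.bl e1 ▸ k1) k2

omit [Finite Γ] in
theorem exists_four (h : Fam S 𝒜 F) (hu : F u z) (hw : F w z) (hn : ¬ Commute u w) :
    ∃ c, orderOf c = 2 ^ (0 + 2) ∧ F (u * c) z ∧ F (w * c) z := by
  obtain ⟨k, e⟩ := exists_order h hu hw hn
  refine ⟨(u * w) ^ 2 ^ k, by
    rw [orderOf_pow_of_dvd (by positivity) (e ▸ pow_dvd_pow 2 (by omega)), e, pow_add,
      Nat.mul_div_cancel_left _ (by positivity)], ?_⟩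
  rcases k with _ | k
  · rw [pow_zero, pow_one, ← mul_assoc, (h.sq u z hu).1, one_mul, ← mul_assoc]
    exact ⟨hw, by simpa only [inv1 h hw] using conj' h hu (h.mem w z hw).1 (uz h hw)⟩
  have key : ∀ a, F a z → a⁻¹ * (u * w)⁻¹ * a⁻¹⁻¹ = u * w → F (a * (u * w) ^ 2 ^ (k + 1)) z :=
    fun a ha e1 => by
      have := conj' h ha (inv_mem (pow_mem (mul_mem (h.mem u z hu).1 (h.mem w z hw).1) (2 ^ k)))
        (((uz h hu).mul_left (uz h hw)).pow_left (2 ^ k)).inv_left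
      have e2 : a⁻¹ * ((u * w) ^ 2 ^ k)⁻¹ * a⁻¹⁻¹ = (u * w) ^ 2 ^ k := by
        rw [← inv_pow, ← conj_pow, e1]
      rw [pow_succ, pow_mul, sq]
      convert this using 1
      generalize (u * w) ^ 2 ^ k = t at e2
      calc a * (t * t) = a * (a⁻¹ * t⁻¹ * a⁻¹⁻¹ * t) := by rw [e2]
        _ = _ := by group
  refine ⟨key u hu ?_, key w hw ?_⟩
  · rw [inv_inv, mul_inv_rev, mul_assoc, inv_mul_cancel_right, inv1 h hu, inv1 h hw]
  · rw [inv_inv, mul_inv_rev, ← mul_assoc, inv1 h hu, inv1 h hw, (h.sq w z hw).1, one_mul]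

theorem eq_or_inv (hc : orderOf c = 2 ^ (0 + 2)) (hx : orderOf x = 2 ^ (0 + 2)) (h : x ∈ zpowers c) :
    x = c ∨ x = c⁻¹ := by
  obtain ⟨j, rfl⟩ := mem_powers_iff_mem_zpowers.2 h
  have h4 : c ^ 4 = 1 := by rw [show 4 = 2 ^ (0 + 2) by norm_num, ← hc, pow_orderOf_eq_one]
  simp only at hx ⊢
  rw [← pow_mod_orderOf, hc] at hx ⊢
  have : j % 2 ^ (0 + 2) < 4 := Nat.mod_lt _ (by norm_num)
  generalize j % 2 ^ (0 + 2) = i at hx this
  interval_cases i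
  · simp at hx
  · exact .inl (pow_one c)
  · have := orderOf_dvd_of_pow_eq_one (show (c ^ 2) ^ 2 = 1 by rw [← pow_mul, h4])
    rw [hx] at this
    norm_num at this
  · exact .inr (eq_inv_of_mul_eq_one_left (by rw [← pow_succ, h4]))

/-- a member of a family inverts exactly one cyclic group of order four of the family -/
theorem fam_sgn (h : Fam S 𝒜 F) (hu : F u z) : ∃ u', F u' z ∧ orderOf (u * u') = 2 ^ (0 + 2) ∧
    ∀ v w y, F v y → F w y → orderOf (v * w) = 2 ^ (0 + 2) → v * w ≠ u * u' → v * w ≠ u' * u →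
      u * (v * w) * u⁻¹ = v * w := by
  obtain ⟨u', hp, e, -⟩ := h.par u z hu
  have e1 : (u * u') ^ 2 = z := by
    rw [← e, commutatorElement_def, inv1 h hu, inv1 h hp, sq, mul_assoc (u * u')]
  have h0 : orderOf (u * u') = 2 ^ (0 + 2) := orderOf_eq_prime_pow (n := 1)
    (by rw [pow_one, e1]; exact (h.ne u z hu).2.1)
    (by rw [pow_succ, pow_one, pow_mul, e1, sq, (h.sq u z hu).2])
  have key : ∀ a b y, F a y → F b y → orderOf (a * b) = 2 ^ (0 + 2) → ¬ Commute u a →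
      a * b = u * u' ∨ a * b = u' * u := fun a b y ha hb e2 hn => by
    obtain rfl := fam_eq h hu ha hn
    obtain ⟨c, c1, c2, c3⟩ := exists_four h hu ha hn
    have e3 : u * (u * c) = c := by rw [← mul_assoc, (h.sq u z hu).1, one_mul]
    have e4 : a * (a * c) = c := by rw [← mul_assoc, (h.sq a z ha).1, one_mul]
    have k1 := fam_ch h 0 hu hp c2 h0 (e3.symm ▸ c1)
    have k2 := fam_ch h 0 ha c3 hb (e4.symm ▸ c1) e2
    rw [e3] at k1
    rw [e4] at k2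
    rw [← inv_eq h hu hp]
    exact eq_or_inv h0 e2 (zpowers_le.2 k1 k2)
  refine ⟨u', hp, h0, fun v w y hv hw e2 n1 n2 => ?_⟩
  by_cases c1 : Commute u v
  swap
  · exact ((key v w y hv hw e2 c1).elim n1 n2).elim
  by_cases c2 : Commute u w
  · exact (c1.mul_right c2).mul_inv_cancel
  · rcases key w v y hw hv (orderOf_swap v w ▸ e2) c2 with e3 | e3
    · exact (n2 (by rw [← inv_eq h hw hv, e3, inv_eq h hu hp])).elim
    · exact (n1 (by rw [← inv_eq h hw hv, e3, inv_eq h hp hu])).elim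

theorem ii2 (E : Env2 S M 𝒜) (c : Cf S 2 J U K s) : False := by
  obtain ⟨z, hz, h1⟩ := two_exists c.bl
  obtain ⟨u, hu, hu'⟩ := SetLike.not_le_iff_exists.1 c.bl.U_not_le
  have h := fam_FF2 E.syl.isPGroup (Nat.card (S ⊓ C[U] : Subgroup Γ))
  have h2 : FF S _ u z := ⟨_, _, _, _, c, hu, hu', hz, h1, rfl⟩
  generalize Nat.card (S ⊓ C[U] : Subgroup Γ) = n at h h2
  obtain ⟨u', h3, h4, h5⟩ := fam_sgn h h2
  refine E.sgn {x | ∃ v w y, FF S n v y ∧ FF S n w y ∧ orderOf (v * w) = 2 ^ (0 + 2) ∧ x = v * w} u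
    (u * u') (u' * u) ?_ ⟨_, _, _, h2, h3, h4, rfl⟩ ⟨_, _, _, h3, h2, orderOf_swap u u' ▸ h4, rfl⟩
    (not_comm h h2 h3 h4) ?_ ?_ ?_
  · rintro a ha _ ⟨v, w, y, k1, k2, k3, rfl⟩
    exact ⟨_, _, _, k1.map a (E.inv a ha), k2.map a (E.inv a ha), by
      rw [← map_mul, MulEquiv.orderOf_eq, k3], map_mul a v w⟩
  · rw [← mul_assoc, (h.sq u z h2).1, one_mul, inv1 h h2]
  · rw [← mul_assoc, mul_inv_cancel_right]
  · rintro _ ⟨v, w, y, k1, k2, k3, rfl⟩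
    exact h5 v w y k1 k2 k3

end H26.T4
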