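import Cfsg.Agent.H26.T4II4
import Cfsg.Agent.H26.T4II2

/-! Case I and the assembly of `JobCtl2`. -/

set_option autoImplicit false

namespace H26.T4

open Subgroup Cfsg H98 H26.FP H67.FP
open scoped commutatorElement

universe u

variable {Γ : Type u} [Group Γ] [Finite Γ] {S M J U K U' K' U₁ K₁ : Subgroup Γ}
  {𝒜 : Subgroup (MulAut Γ)} {q q' q₁ : ℕ} {u w x y : Γ}

omit [Finite Γ] in
theorem bl_hom (b : Bl q J U K) (hu : u ∈ U) (hu' : u ∉ C[J]) : ∃ R ≤ U ⊓ C[J],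
    (C[K]).relIndex R = q ∧ ∀ r ∈ R, ∃ x ∈ J, x * u * x⁻¹ = u * r := by
  let θ : J →* Γ := MonoidHom.mk' (fun x => ⁅(x : Γ), u⁆) fun x y => by
    rw [coe_mul, commutatorElement_mul_left_eq_conj_mul, (b.comm_mem y.2 hu).2 x x.2,
      mul_inv_cancel_right, (b.comm_mem y.2 hu).2 _ (b.le (b.comm_mem x.2 hu).1)]
  refine ⟨θ.range, by rintro _ ⟨x, rfl⟩; exact b.comm_mem x.2 hu, ?_, ?_⟩
  · rw [MonoidHom.range_eq_map, ← relIndex_comap, relIndex_top_right, ← b.idxD, relIndex]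
    congr 1
    ext x
    exact ⟨fun k => (b.reg x x.2 u hu k).resolve_right hu', fun k => show ⁅(x : Γ), u⁆ ∈ C[K] by
      rw [commutatorElement_eq_one_iff_mul_comm.2 (show (x : Γ) * u = u * x from (k u hu).symm)]; exact one_mem _⟩
  · rintro _ ⟨x, rfl⟩
    exact ⟨x, x.2, by
      rw [show θ x = ⁅(x : Γ), u⁆ from rfl, (b.comm_mem x.2 hu).2 u (b.le hu), commutatorElement_def,
        inv_mul_cancel_right]⟩

theorem bl_idx (b : Bl q J U K) : q ≤ (oz 2 J ⊓ C[K]).relIndex (oz 2 J) := by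
  obtain ⟨u, hu, hu'⟩ := SetLike.not_le_iff_exists.1 b.U_not_le
  obtain ⟨R, h1, h2, -⟩ := bl_hom b hu hu'
  rw [inf_relIndex_left, ← h2]
  exact relIndex_le_of_le_right (h1.trans b.u0_le) FiniteIndex.index_ne_zero

/-- `J` is transitive on the cosets of `C_U(J)` modulo `C_U(K)` -/
theorem bl_orb (b : Bl q J U K) (hu : u ∈ U) (hu' : u ∉ C[J]) (hw : w ∈ U ⊓ C[J]) :
    ∃ x ∈ J, ∃ c ∈ U ⊓ C[K], u * w = x * u * x⁻¹ * c := by
  obtain ⟨R, h1, h2, h3⟩ := bl_hom b hu hu'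
  obtain ⟨k, hk, e⟩ := b.gen
  have h4 := (b.map (MulAut.conj k)).idxU
  rw [show U.map _ = U from cj_eq_self (b.nK hk)] at h4
  obtain ⟨r, hr, e1⟩ := H96.exists_mul_of_relIndex_le (C := C[K]) h1 (by
    rw [h2, ← h4, ← inf_relIndex_left]
    refine (relIndex_le_of_le_left (le_inf inf_le_left e) FiniteIndex.index_ne_zero).trans ?_
    rw [inf_relIndex_left]
    exact relIndex_le_of_le_right inf_le_left FiniteIndex.index_ne_zero) hw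
  obtain ⟨x, hx, e2⟩ := h3 r hr
  exact ⟨x, hx, _, mem_inf.2 ⟨U.mul_mem (U.inv_mem (h1 hr).1) hw.1, e1⟩, by rw [e2]; group⟩

theorem bl_trans0 (b : Bl q J U K) (wc : WC 2 J ⊤) (hx : x ∈ U ⊓ C[J]) (hx' : x ∉ C[K])
    (hy : y ∈ U ⊓ C[J]) (hy' : y ∉ C[K]) :
    ∃ t ∈ N[J] ⊓ C[oz 2 J ⊓ C[K]], ∃ c ∈ U ⊓ C[K], y = t * x * t⁻¹ * c := by
  obtain ⟨k, hk, e⟩ := b.gen
  have b₁ : Bl q (cj k J) U K := by
    have := b.map (MulAut.conj k)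
    rwa [show U.map _ = U from cj_eq_self (b.nK hk), show K.map _ = K from cj_eq_self_of_mem hk] at this
  have z1 : U ⊓ C[K] ≤ oz 2 J ⊓ C[K] := le_inf ((le_inf inf_le_left b.cK_le).trans b.u0_le) inf_le_right
  have h1 : J ≤ C[oz 2 J ⊓ C[K]] := (le_centralizer_oz J).trans (centralizer_anti inf_le_left)
  have h2 : cj k J ≤ C[oz 2 J ⊓ C[K]] :=
    cj_le_of_le_of_mem h1 (le_centralizer_iff.1 inf_le_right hk)
  have h0 := centralizer_anti z1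
  generalize C[oz 2 J ⊓ C[K]] = H at h0 h1 h2
  obtain ⟨a, ha, ha'⟩ := SetLike.not_le_iff_exists.1 b₁.J_not_le
  obtain ⟨v, hv, hv'⟩ := SetLike.not_le_iff_exists.1 b₁.U_not_le
  have h3 := b₁.comm_mem ha hv
  have h4 : ⁅a, v⁆ ∉ C[J] := fun k => (b₁.reg a ha v hv (e ⟨⟨h3.1, k⟩, h3.2⟩)).elim ha' hv'
  generalize ⁅a, v⁆ = w at h3 h4
  obtain ⟨g₁, k1, c₁, l1, e1⟩ := bl_orb b₁ hx.1 (fun k => hx' (e ⟨hx, k⟩)) h3
  obtain ⟨g₃, k3, c₃, l3, e3⟩ := bl_orb b₁ hy.1 (fun k => hy' (e ⟨hy, k⟩)) h3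
  obtain ⟨g₂, k2, c₂, l2, e2⟩ := bl_orb b (mul_mem hx.1 h3.1)
    (fun k => h4 (((C[J]).mul_mem_cancel_left hx.2).1 k)) (mul_mem (inv_mem hx) hy)
  obtain ⟨g, hg, c, hc, e4⟩ : ∃ g ∈ H, ∃ c ∈ U ⊓ C[K], y = g * x * g⁻¹ * c := by
    have l4 := mul_mem (mul_mem l1 l2) (inv_mem l3)
    refine ⟨g₃⁻¹ * g₂ * g₁, mul_mem (mul_mem (inv_mem (h2 k3)) (h1 k2)) (h2 k1), _, l4, ?_⟩
    have e5 : x * w * (x⁻¹ * y) = y * w := by
      rw [H12.ea_comm b.ea hx.1 h3.1, mul_assoc, mul_inv_cancel_left, H12.ea_comm b.ea h3.1 hy.1]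
    rw [e5, e3, e1] at e2
    have e6 := h0 (h1 k2) _ l1
    have e7 := h0 (h2 k3) _ l4
    calc y = g₃⁻¹ * (g₃ * y * g₃⁻¹ * c₃) * c₃⁻¹ * g₃ := by group
      _ = g₃⁻¹ * g₂ * g₁ * x * g₁⁻¹ * g₂⁻¹ * (g₂ * c₁) * g₂⁻¹ * (c₂ * c₃⁻¹ * g₃) := by rw [e2]; group
      _ = g₃⁻¹ * g₂ * g₁ * x * g₁⁻¹ * g₂⁻¹ * (c₁ * c₂ * c₃⁻¹ * g₃) := by rw [← e6]; group
      _ = _ := by rw [e7]; group
  have h5 : g * x * g⁻¹ ∈ C[J] := (mul_mem_cancel_right (b.cK_le hc)).1 (e4 ▸ hy.2)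
  obtain ⟨a, ha, ea⟩ := wc.exists_cj_eq (K := H ⊓ C1[g * x * g⁻¹])
    (le_inf h1 fun x hx => mem_centralizer_singleton_iff.2 (h5 x hx)) le_top (mem_top g)
    (le_inf (cj_le_of_le_of_mem h1 hg) fun j hj => mem_centralizer_singleton_iff.2 (by
      have := hx.2 _ (mem_cj.1 hj)
      calc j * (g * x * g⁻¹) = g * (g⁻¹ * j * g * x) * g⁻¹ := by group
        _ = _ := by rw [this]; group))
  refine ⟨a⁻¹ * g, mem_inf.2 ⟨cj_eq_self_iff.1 (by rw [← cj_cj, ea, cj_inv_cj]),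
    H.mul_mem (H.inv_mem ha.1) hg⟩,
    c, hc, e4.trans ?_⟩
  calc _ = a⁻¹ * (a * (g * x * g⁻¹)) * c := by group
    _ = _ := by rw [mem_centralizer_singleton_iff.1 ha.2]; group

theorem bl_trans (b : Bl q J U K) (wc : WC 2 J ⊤) (hx : x ∈ oz 2 J) (hx' : x ∉ oz 2 J ⊓ C[K])
    (hy : y ∈ oz 2 J) (hy' : y ∉ oz 2 J ⊓ C[K]) :
    ∃ t ∈ N[J] ⊓ C[oz 2 J ⊓ C[K]], (t * x * t⁻¹)⁻¹ * y ∈ oz 2 J ⊓ C[K] := by
  obtain ⟨u, hu, e1⟩ := b.om x hx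
  obtain ⟨v, hv, e2⟩ := b.om y hy
  obtain ⟨t, ht, c, hc, e⟩ := bl_trans0 b wc hu (fun k => hx' ⟨hx, by simpa using mul_mem k e1⟩) hv
    fun k => hy' ⟨hy, by simpa using mul_mem k e2⟩
  refine ⟨t, ht, mem_inf.2 ⟨mul_mem (inv_mem (conj_mem_of_mem_normalizer
    (le_normalizer_oz le_rfl ht.1) hx)) hy, ?_⟩⟩
  have e3 := ht.2 _ (mem_inf.2 ⟨mul_mem (inv_mem (b.u0_le hu)) hx, e1⟩)
  have : (t * x * t⁻¹)⁻¹ * y = (u⁻¹ * x)⁻¹ * c * (v⁻¹ * y) := by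
    calc _ = (t * u * t⁻¹ * (t * (u⁻¹ * x)) * t⁻¹)⁻¹ * v * (v⁻¹ * y) := by group
      _ = _ := by rw [← e3]; nth_rw 1 [e]; group
  exact this ▸ mul_mem (mul_mem (inv_mem e1) (mem_inf.1 hc).2) e2

section
variable (b : Bl q J U K) (b' : Bl q' J U' K') (nc : ¬ U' ≤ C[U])
include b b' nc

theorem bl_u0 (b₁ : Bl q₁ J U₁ K₁) (hD : J ⊓ C[U₁] = J ⊓ C[U]) : U₁ ⊓ C[J] = U ⊓ C[J] :=
  (b₁.u0_eq' b' fun h => nc ((le_inf b'.le h).trans (hD.le.trans inf_le_right))).trans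
    (b.u0_eq' b' nc).symm

variable (wc : WC 2 J ⊤)
include wc

/-- (W) -/
theorem bl_W {u h : Γ} (hu : u ∈ U ⊓ C[J]) (hh : h ∈ N[yy J U]) : h * u * h⁻¹ ∈ U := by
  have hy : h * u * h⁻¹ ∈ U ⊔ oz 2 J := by
    rw [← b.yy_eq b' nc]
    exact conj_mem_of_mem_normalizer hh (b.le_yy hu.1)
  obtain ⟨v, hv, w, hw, e⟩ := (mem_sup_left_norm (b.le.trans (le_normalizer_oz le_normalizer))).1 hy
  obtain ⟨v₁, hv₁, hc⟩ := b.om w hw
  obtain ⟨k, hk, hk'⟩ := b.cov _ (mul_mem hv hv₁.1)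
  have hg : k * h ∈ N[yy J U] := mul_mem (b.nK_yy hk) hh
  have e1 : (k * h) * u * (k * h)⁻¹ = k * (v * v₁) * k⁻¹ * (v₁⁻¹ * w) := by
    calc (k * h) * u * (k * h)⁻¹ = k * (h * u * h⁻¹) * k⁻¹ := by group
      _ = k * (v * v₁) * k⁻¹ * (k * (v₁⁻¹ * w) * k⁻¹) := by rw [e]; group
      _ = _ := by rw [hc k hk, mul_inv_cancel_right]
  have h1 : (k * h) * u * (k * h)⁻¹ ∈ C[J] :=
    e1 ▸ mul_mem hk' (mul_mem (inv_mem hv₁.2) (oz_le_centralizer J hw))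
  have hJN : J ≤ N[yy J U] := b.nJ_yy
  generalize k * h = g at hg h1 e1
  obtain ⟨a, ha, ea⟩ := wc.exists_cj_eq (K := N[yy J U] ⊓ C1[g * u * g⁻¹])
    (le_inf hJN fun x hx => mem_centralizer_singleton_iff.2 (h1 x hx)) le_top (mem_top g)
    (le_inf (cj_le_of_le_of_mem hJN hg) fun x hx => mem_centralizer_singleton_iff.2 (by
      have := hu.2 _ (mem_cj.1 hx)
      calc x * (g * u * g⁻¹) = g * (g⁻¹ * x * g * u) * g⁻¹ := by group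
        _ = _ := by rw [this]; group))
  have hn : a⁻¹ * g ∈ N[J] := cj_eq_self_iff.1 (by rw [← cj_cj, ea, cj_inv_cj])
  have hnY : a⁻¹ * g ∈ N[yy J U] := mul_mem (inv_mem ha.1) hg
  have hD : J ⊓ C[cj (a⁻¹ * g) U] = J ⊓ C[U] := by
    conv_lhs => rw [← cj_centralizer, ← cj_eq_self hn, ← cj_inf, ← b.inf_C_yy, cj_inf,
      cj_centralizer, cj_eq_self hn, cj_eq_self hnY, b.inf_C_yy]
  have h2 : g * u * g⁻¹ ∈ cj (a⁻¹ * g) U ⊓ C[J] := by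
    refine ⟨?_, h1⟩
    have h3 := mem_centralizer_singleton_iff.1 ha.2
    have : g * u * g⁻¹ = (a⁻¹ * g) * u * (a⁻¹ * g)⁻¹ := by
      calc g * u * g⁻¹ = a⁻¹ * (a * (g * u * g⁻¹)) := by group
        _ = _ := by rw [h3]; group
    exact this ▸ conj_mem_cj hu.1
  rw [bl_u0 b b' nc (b.cj hn) hD] at h2
  have h4 := conj_mem_of_mem_normalizer' (b.nK hk) h2.1
  rw [e1] at h4
  convert h4 using 1
  rw [e]
  calc v * w = k⁻¹ * (k * (v * v₁) * k⁻¹ * (k * (v₁⁻¹ * w) * k⁻¹)) * k := by group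
    _ = _ := by rw [hc k hk, mul_inv_cancel_right]

theorem bl_le (b₁ : Bl q₁ J U₁ K₁) (hD : J ⊓ C[U₁] = J ⊓ C[U]) : U₁ ≤ U := fun u hu => by
  obtain ⟨k, hk, hk'⟩ := b₁.cov u hu
  have h1 : k ∈ N[yy J U] := by
    have := b₁.nK_yy hk
    rwa [yy, hD] at this
  have h2 : k * u * k⁻¹ ∈ U ⊓ C[J] :=
    bl_u0 b b' nc b₁ hD ▸ mem_inf.2 ⟨conj_mem_of_mem_normalizer (b₁.nK hk) hu, hk'⟩
  simpa [mul_assoc] using bl_W b b' nc wc h2 (inv_mem h1)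

end

/-- case I -/
theorem Env2.case_one (h : Env2 S M 𝒜) (b : Bl q (jt 2 S) U K) : False := by
  have eJ : ∀ a ∈ 𝒜, (jt 2 S).map a.toMonoidHom = jt 2 S := fun a ha => by
    rw [jt, H12.map_thompsonSubgroupOf _ _ a.injective, h.inv a ha]
  have hS : IsPGroup 2 (jt 2 S) := h.two.to_le (jt_le S)
  have wc : WC 2 (jt 2 S) ⊤ := h.syl.wc_jt
  generalize jt 2 S = J at b eJ hS wc
  have bm : ∀ a ∈ 𝒜, Bl q J (U.map a.toMonoidHom) (K.map a.toMonoidHom) := fun a ha => by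
    have := b.map a
    rwa [eJ a ha] at this
  obtain rfl : q = 2 := by
    by_contra e
    exact h.xq _ (oz 2 J ⊓ C[K]) (N[J] ⊓ C[oz 2 J ⊓ C[K]]) (H12.ea_le_centralizer (ea_oz J))
      (isPGroup_oz J) (fun a ha => by rw [map_oz a.injective, eJ a ha]) inf_le_left
      (inf_le_inf_right _ (le_normalizer_oz le_rfl)) ((lt_of_le_of_ne b.one_lt (Ne.symm e)).trans_le
        (bl_idx b)) fun x hx hx' y hy hy' => bl_trans b wc hx hx' hy hy'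
  have key : ∀ a ∈ 𝒜, U.map a.toMonoidHom ≤ J ⊓ C[U] := fun a ha => by
    refine le_inf (bm a ha).le ?_
    by_contra e
    obtain ⟨u, hu, hu'⟩ := SetLike.not_le_iff_exists.1 e
    obtain ⟨v, hv, hv'⟩ := SetLike.not_le_iff_exists.1 b.U_not_le
    obtain ⟨z, hz, h1⟩ := two_exists b
    have uJ := (bm a ha).le hu
    have h2 : v * z ∉ C[J] := fun k => hv' (((C[J]).mul_mem_cancel_right hz.2).1 k)
    have h3 : u * v * u⁻¹ = v * z := (two_out b hz h1 hv hv' (conj_mem_of_mem_normalizer (b.nJ uJ) hv)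
      fun k => hv' (by simpa [mul_assoc] using
        conj_mem_of_mem_normalizer' (le_normalizer_centralizer le_normalizer uJ) k)).resolve_left
      fun k => hv' (b.mem_C_of_comm uJ hu' hv (mul_inv_eq_iff_eq_mul.1 k))
    refine h.sgn {x | x ∉ C[J] ∧ ∃ c ∈ 𝒜, x ∈ U.map c.toMonoidHom} u v (v * z) ?_
      ⟨hv', 1, one_mem _, v, hv, rfl⟩ ⟨h2, 1, one_mem _, _, mul_mem hv hz.1, rfl⟩
      (fun k => h1 (left_eq_mul.1 k)) h3 ?_ ?_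
    · rintro c hc _ ⟨k, d, hd, x, hx, rfl⟩
      exact ⟨fun k' => k ((mem_C_map c).1 (by rwa [eJ c hc])), c * d, mul_mem hc hd, x, hx, rfl⟩
    · rw [← conj_mul, h3, hz.2 u uJ, mul_inv_cancel_right, mul_assoc, two_sq b hz.1, mul_one]
    · rintro x ⟨k, c, hc, hx⟩ n1 n2
      by_contra k'
      exact (two_out b hz h1 hv hv' (bl_le b (bm a ha) e wc (bm c hc) (b.tri (bm a ha) e (bm c hc)
        fun e' => k' (mul_inv_eq_iff_eq_mul.2 (e' hx u hu))).symm hx) k).elim n1 n2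
  obtain ⟨Y, eY⟩ : ∃ Y, Y = ⨆ a : 𝒜, U.map a.1.toMonoidHom := ⟨_, rfl⟩
  have h1 : U ≤ Y := eY ▸ le_iSup_of_le 1 (map_id U).ge
  have h2 : Y ≤ J ⊓ C[U] := eY ▸ iSup_le fun a => key _ a.2
  have h3 : Inv 𝒜 Y := fun a ha => eq_of_le_of_card_ge (by
    rw [eY, Subgroup.map_iSup]
    exact iSup_le fun c => le_iSup_of_le (⟨a, ha⟩ * c) (map_map _ _ _).le)
    (card_map_of_injective a.injective).ge
  have h4 : Y ≤ C[Y] := by
    conv_rhs => rw [eY, H12.centralizer_iSup]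
    exact le_iInf fun a => (h3 _ a.2).ge.trans (map_le_centralizer_map _ (h2.trans inf_le_right))
  have hY := hS.to_le (h2.trans inf_le_left)
  have nK := b.nK' h1 h2
  obtain ⟨d, hd, h5, h6⟩ := exists_three (b.card_four rfl) b.nK (b.inf_K rfl)
  exact h.x3 Y h4 hY h3 d (nK hd) h5 (index_four h4 h1 (b.card_four rfl) (nK hd)
    ((commutator_mono h2 (zpowers_le.2 hd)).trans b.dk) h5 h6)

theorem jobCtl2 : JobCtl2.{u} := by
  intro Γ _ _ S M 𝒜 h X g h1 h2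
  refine Good.one ?_ h1 h2
  by_contra e
  obtain ⟨E₀, T₀, -, h0, -⟩ := h.exists_bad e
  obtain ⟨⟨E, T⟩, hb, mx'⟩ := Set.exists_max_image {x : Subgroup Γ × Subgroup Γ | Bad S M x.1 x.2}
    (fun x => sg x.2) (Set.toFinite _) ⟨(E₀, T₀), h0⟩
  have mx : ∀ E' T', Bad S M E' T' → sg T' ≤ sg T := fun E' T' hb' => mx' (E', T') hb'
  change Bad S M E T at hb
  have hES := hb.le.trans hb.hS
  obtain ⟨Φ, h3, h4⟩ : ∃ Φ : Set (MulAut Γ), (∀ φ ∈ Φ, T.map φ.toMonoidHom = T) ∧ ∀ R ≤ T,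
      oz 2 S ≤ R → T ≤ N[R] → (∀ φ ∈ Φ, R.map φ.toMonoidHom = R) → Fa M R := by
    rcases hb.hS.eq_or_lt with rfl | hlt
    · exact ⟨𝒜, h.inv, fun R r1 r2 r3 r4 => h.loc R r1 (fun e => oz_ne_bot h.two h.ne
        (eq_bot_iff.2 (e ▸ r2))) r3 r4⟩
    · obtain ⟨t, ht, ht'⟩ := SetLike.exists_of_lt (lt_inf_normalizer h.two hlt)
      refine ⟨{MulAut.conj t}, by rintro _ rfl; exact cj_eq_self ht.2, fun R r1 r2 r3 r4 => ?_⟩
      exact h.ctrl mx (h.solv_cent r2) (r1.trans (le_inf hb.hS r3)) le_rfl (sg_lt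
        (SetLike.lt_iff_le_and_exists.2 ⟨le_inf hb.hS r3, t, mem_inf.2
          ⟨ht.1, cj_eq_self_iff.1 (r4 _ rfl)⟩, ht'⟩))
  obtain ⟨q, U, K, b, k1, k2, k3, -⟩ := jobBlk Γ E T _ (oz 2 S) Φ (h.two.to_le hES)
    (h.solv_cent hb.oz) hb.syl (le_sup_of_le_left (le_inf (hb.hS.trans h.le) hb.syl.le))
    le_sup_right hb.nle (oz_le_oz hb.hS (hb.oz.trans hb.le)) (h.cent_oz hES) h3
    fun R r1 r2 r3 r4 => (h4 R r1 r2 r3 r4).ce (h.two.to_le hES) (hES.trans h.le) (hb.le.trans r3)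
  by_cases hne : jt 2 S = jt 2 T
  · exact h.case_one (hne ▸ b)
  · obtain ⟨J, U, K, s, c1, c2, c3⟩ := h.case_two mx hb b k1 k2 k3 hne
    by_cases hq : q = 2
    · exact ii2 h (hq ▸ c1)
    · exact ii4 h c1 hq c2 c3

end H26.T4
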