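import Cfsg.Agent.H26.T4TFa

/-! Invariant triple factorization for operators of any order (adapted from `H9.FT`), part 2. -/

set_option autoImplicit false

namespace H26.T4

open Subgroup Cfsg H98 H13 H26.FP H9.FT
open scoped commutatorElement

universe u

variable {P : ∀ (Γ : Type u) [Group Γ], Subgroup Γ → Subgroup Γ → Prop}

variable {Γ : Type u} [Group Γ] [Finite Γ]

section
variable {G A S Q : Subgroup Γ} [Q.Normal]

theorem Mk.dichotomy (h : Mk P G A S Q) (hJ : ¬ jt 2 S ≤ Q)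
    {ι : Type*} {X : ι → Subgroup Γ} (hP : ∀ i, PP (X i) Q) {U : Subgroup Γ}
    (hU : U = ⨆ i, X i) [U.Normal] (hUQ : U ≤ Q) (he : IsElementaryAbelian 2 U)
    (U' : Subgroup Γ) [U'.Normal] (hle : U' ≤ U) :
    ⁅U', res 2 G⁆ = ⊥ ∨ ⁅U, res 2 G⁆ ≤ U' := by
  by_contra hn
  rw [not_or, ← le_bot_iff] at hn
  obtain ⟨R, hA⟩ := not_forall.mp (mt H12.thompsonSubgroupOf_le_iff.mpr hJ)
  obtain ⟨hA, hAQ⟩ := Classical.not_imp.mp hA
  have h1 := h.sec hA.1 hA.2.1 U' ⊥ (hle.trans hUQ) hn.1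
  have h2 := h.sec hA.1 hA.2.1 U U' hUQ hn.2
  rw [stab_bot] at h1
  have h3 := Nat.mul_le_mul (h1.trans (relIndex_mono_right _
    (le_inf (le_stab.mpr (commutator_le_right R U')) hle))) h2
  rw [relIndex_inf_mul_relIndex, inf_eq_left.mpr centralizer_le_stab] at h3
  have h9 := h3.trans (le_cube hP hU (hUQ.trans h.QS) he hA)
  rw [← pow_add, Nat.pow_le_pow_iff_right (one_lt_relIndex hAQ)] at h9
  omega

theorem Mk.eg (h : Mk P G A S Q) (hJ : ¬ jt 2 S ≤ Q)
    (hg : res 2 G ⊔ jt 2 S = G) : EG' A S := by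
  intro V hV hn hAV he hP
  have hVQ := h.le_pCore hV hn he hP
  have hJV := hP.thompson_le hV he (H12.thompsonSubgroupOf_le _)
  have hQ := h.two
  have hKn := h.nK
  have hGn := h.nG
  set K := res 2 G with hK'
  have hQS : Q ≤ S := h.QS
  have hZ : ∀ X ≤ V, ⁅X, K⁆ = ⊥ → X ≤ C[G] := fun X h1 h2 => by
    rw [← hg, H12.centralizer_sup]
    exact le_inf (commutator_eq_bot_iff_le_centralizer.mp h2)
      (h1.trans (le_centralizer_iff.mp hJV))
  by_contra hc
  have hVK : ⁅V, K⁆ ≠ ⊥ := fun e => hc ((hZ V le_rfl e).trans (H12.centralizer_anti h.le))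
  have hKK : ∀ X : Subgroup Γ, X.Normal → X ≤ Q → ⁅⁅X, K⁆, K⁆ = ⁅X, K⁆ := fun X _ hX =>
    commutator_commutator_of_res_eq (hQ.to_le hX) le_normalizer_of_normal (res_res G)
  have hPg : ∀ g : Γ, PP (cj g V) Q := fun g => by
    rw [← cj_eq_self_of_normal g Q]
    exact (pp_map_iff (MulAut.conj g).injective).mpr (hP.mono hQS)
  have hgQ : ∀ g : Γ, cj g V ≤ Q := fun g => cj_le_of_le hVQ (le_normalizer_of_normal (mem_top g))
  obtain ⟨U, hU⟩ : ∃ U, U = ⨆ g : Γ, cj g V := ⟨_, rfl⟩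
  have hUle : ∀ X : Subgroup Γ, X.Normal → V ≤ X → U ≤ X := fun X _ hX =>
    hU ▸ iSup_le fun g => cj_le_of_le hX (le_normalizer_of_normal (mem_top g))
  have hVU : V ≤ U := hU ▸ le_iSup_of_le 1 (cj_one V).ge
  have hUn : U.Normal := normalizer_eq_top_iff.mp (top_le_iff.mp fun g _ =>
    mem_normalizer_of_cj_le (by
      rw [hU, cj, Subgroup.map_iSup]
      exact iSup_le fun g' => le_iSup_of_le (g * g') (cj_cj g g' V).le))
  have hUQ := hUle Q inferInstance hVQ
  have hUe : IsElementaryAbelian 2 U := hU ▸ H12.ea_iSup (fun g => H12.ea_map he _) fun g g' =>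
    (hPg g').comm (hPg g) (hgQ g') (hgQ g) (H12.ea_map he _) (H12.ea_map he _)
  have hD := h.dichotomy hJ hPg hU hUQ hUe
  have hUK : ⁅U, K⁆ ≠ ⊥ := fun e => hVK (le_bot_iff.mp ((commutator_mono hVU le_rfl).trans e.le))
  have h1 : ⁅⁅U, Q⁆, K⁆ = ⊥ := by
    refine (hD ⁅U, Q⁆ (commutator_le_left _ _)).resolve_right fun e => ?_
    have e1 : (V ⊔ ⁅U, Q⁆).Normal := normalizer_eq_top_iff.mp (top_le_iff.mp (by
      rw [← h.top, ← h.syl.sup_res]
      exact sup_le (sup_le (H12.le_normalizer_sup hn le_normalizer_of_normal)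
        (H12.le_normalizer_of_commutator_le (sup_le hVU (commutator_le_left _ _))
          (e.trans le_sup_right))) (H12.le_normalizer_sup hAV le_normalizer_of_normal)))
    have e2 : V = U := le_antisymm hVU (le_of_le_sup_commutator hQ hUQ (H12.ea_le_centralizer hUe)
      hVU (hQS.trans hn) (hUle _ e1 le_sup_left))
    rw [e2] at hJV
    rcases h.mp (C[U]) inferInstance with e3 | e3
    · exact hJ ((le_inf (H12.thompsonSubgroupOf_le _) hJV).trans e3)
    · exact hUK (commutator_eq_bot_iff_le_centralizer.mpr (le_centralizer_iff.mp e3))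
  have h2 : ⁅V, Q⁆ ≤ C[G] := hZ _ (H12.commutator_le_of_le_normalizer (hQS.trans hn))
    (le_bot_iff.mp ((commutator_mono (commutator_mono hVU le_rfl) le_rfl).trans h1.le))
  obtain ⟨R, hA⟩ := not_forall.mp (mt H12.thompsonSubgroupOf_le_iff.mpr hJ)
  obtain ⟨hA, hAQ⟩ := Classical.not_imp.mp hA
  have e4 := one_lt_relIndex hAQ
  have h3 : ¬ ⁅Q, K⁆ ≤ C[U] := fun e => by
    have e1 := commutator_commutator_eq_bot_of_rotate h1 (commutator_eq_bot_iff_le_centralizer.mpr e)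
    rw [commutator_comm K U, commutator_eq_bot_iff_le_centralizer] at e1
    have e2 := h.sec hA.1 hA.2.1 ⁅U, K⁆ ⊥ ((commutator_le_left _ _).trans hUQ)
      (by rwa [hKK U hUn hUQ, le_bot_iff])
    rw [stab_bot] at e2
    have e3 := e2.trans ((relIndex_le_of_maxEA hA ((commutator_le_left _ _).trans (hUQ.trans hQS))
      (H12.ea_mono hUe (commutator_le_left _ _))).trans
      (relIndex_mono_left (le_centralizer_iff.mp e1) R))
    nlinarith
  have := stab_normal (C := Q) (N := C[G])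
  have h4 : ⁅U, Q⁆ ≤ C[G] := le_stab'.mp (hUle _ this (le_stab'.mpr h2))
  have h5 : ⁅Q, Q⁆ ≤ C[U] := by
    have e := commutator_eq_bot_iff_le_centralizer.mpr (h4.trans (H12.centralizer_anti h.Q_le))
    exact commutator_eq_bot_iff_le_centralizer.mp
      (commutator_commutator_eq_bot_of_rotate (by rwa [commutator_comm Q U]) e)
  have h6 : ∀ r ∈ Q, r ^ 2 ∈ C[U] := fun r hr w hw => by
    have e := commutator_le_left U Q (commutator_mem_commutator hw hr)
    rw [← commutatorElement_eq_one_iff_mul_comm, pow_two, commutatorElement_mul_right_eq_mul_conj,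
      mul_assoc ⁅w, r⁆, h4 (commutator_mem_commutator hw hr) r (h.Q_le hr), mul_assoc,
      mul_inv_cancel_right, ← pow_two, hUe.2 _ e]
  have hπ := QuotientGroup.mk'_surjective (C[U] ⊓ Q)
  have : (Q.map (QuotientGroup.mk' (C[U] ⊓ Q))).Normal := Normal.map inferInstance _ hπ
  have h7 := (h.bl' _ hπ le_rfl
    (by rw [comap_centralizer_mk, le_stab]; exact le_inf h5 (commutator_le_left _ _))
    (by rw [comap_centralizer_mk, le_stab]; exact fun e => h3 (e.trans inf_le_left)) hA.1 hA.2.1).2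
  have hRQ : ⁅Q, R⁆ ≤ Q := commutator_le_left _ _
  rw [← map_commutator, ← relIndex_ker, QuotientGroup.ker_mk',
    ← inf_relIndex_right (C[U] ⊓ Q), inf_assoc, inf_eq_right.2 hRQ, inf_relIndex_right] at h7
  have h8 := chain_lt hPg ⁅Q, R⁆ hRQ (hU ▸ (commutator_mono hRQ hRQ).trans h5)
    (hU ▸ fun b hb => h6 b (hRQ hb)) (hU ▸ fun e => by
      rw [relIndex_eq_one.2 e] at h7
      nlinarith)
  rw [← hU] at h8
  have h9 : (C[⁅Q, R⁆]).relIndex U ≤ (C[R]).relIndex U := by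
    rw [← inf_relIndex_right (C[R])]
    refine relIndex_mono_left (le_centralizer_iff.mp (commutator_eq_bot_iff_le_centralizer.mp
      (commutator_commutator_eq_bot_of_rotate ?_ ?_))) _
    · rw [commutator_comm R, commutator_eq_bot_iff_le_centralizer.mpr inf_le_left, commutator_bot_left]
    · exact commutator_eq_bot_iff_le_centralizer.mpr ((commutator_mono inf_le_right le_rfl).trans
        (h4.trans (H12.centralizer_anti (hA.1.trans h.le))))
  have h10 := (Nat.pow_le_pow_left h7 3).trans_lt (h8.trans_le (Nat.pow_le_pow_left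
    (h9.trans (le_cube hPg hU (hUQ.trans hQS) hUe hA)) 2))
  rw [← pow_mul, ← pow_mul] at h10
  exact h10.ne rfl

end

variable (kl : Kl P)
include kl

theorem eg_min {H A T : Subgroup Γ} (op : P Γ H A)
    (sol : Group.IsSolvable H) (hT : IsSyl 2 T H) (hc : CharP 2 H)
    (mp : ∀ F ≤ H, H ≤ N[F] → A ≤ N[F] → T ⊓ F ≤ pCoreOf 2 H ∨ res 2 H ≤ F)
    (h1 : ¬ jt 2 T ≤ pCoreOf 2 H) (h2 : res 2 H ⊔ jt 2 T = H) : EG' A T := by
  obtain ⟨L, hL⟩ : ∃ L, L = H ⊔ A := ⟨_, rfl⟩
  have hι := L.subtype_injective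
  obtain ⟨T, rfl⟩ : ∃ T' : Subgroup L, T'.map L.subtype = T :=
    ⟨_, map_subgroupOf_eq_of_le (hT.le.trans (hL ▸ le_sup_left))⟩
  obtain ⟨A', hA⟩ : ∃ T' : Subgroup L, T'.map L.subtype = A :=
    ⟨_, map_subgroupOf_eq_of_le (hL ▸ le_sup_right)⟩
  obtain ⟨H, rfl⟩ : ∃ T' : Subgroup L, T'.map L.subtype = H :=
    ⟨_, map_subgroupOf_eq_of_le (hL ▸ le_sup_left)⟩
  subst hA
  have top : H ⊔ A' = ⊤ := map_injective hι (by rw [Subgroup.map_sup, ← hL, map_subtype_top])
  replace op := kl.of_map hι op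
  replace hT := hT.of_map_injective hι
  replace hc := hc.of_map_injective hι
  rw [jt, ← H12.map_thompsonSubgroupOf T _ hι] at h1 h2
  rw [← map_pCoreOf_of_injective hι] at h1 mp
  rw [← map_res] at h2 mp
  rw [map_le_map_iff_of_injective hι] at h1
  rw [← Subgroup.map_sup] at h2
  have nH : H.Normal := normal_of_top_le_normalizer (top ▸ sup_le le_normalizer (kl.nor op))
  have : (pCoreOf 2 H).Normal :=
    normal_of_top_le_normalizer (le_normalizer_pCoreOf le_normalizer_of_normal)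
  refine (Mk.eg ⟨kl, op, nH, top, solvable_of_solvable_injective
    (f := (H.equivMapOfInjective _ hι).toMonoidHom) (MulEquiv.injective _), hT, rfl, hc,
    fun F _ => ?_⟩ h1 (map_injective hι h2)).map hι
  refine (mp ((F ⊓ H).map L.subtype) (map_mono inf_le_right)
    (map_le_normalizer_map _ le_normalizer_of_normal)
    (map_le_normalizer_map _ le_normalizer_of_normal)).imp (fun k => ?_) fun k => ?_
  · rw [← map_inf _ _ _ hι, map_le_map_iff_of_injective hι] at k
    exact (le_inf inf_le_left (inf_le_inf le_rfl hT.le |>.trans' (le_inf inf_le_right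
      inf_le_left))).trans k
  · exact ((map_le_map_iff_of_injective hι).1 k).trans inf_le_left

theorem fac {A W : Subgroup Γ} (H : Subgroup Γ) : ∀ T, P Γ H A →
    Group.IsSolvable H → IsSyl 2 T H → A ≤ N[T] → CharP 2 H → Pw A W T →
    Fac H C[W] (H ⊓ N[jt 2 T]) := by
  induction H using WellFoundedLT.induction with
  | ind H ih =>
  intro T op sol hT hA hc hW
  have hJT := jt_le (p := 2) T
  have sub : ∀ K ≤ H, K ≠ H → A ≤ N[K] → CharP 2 K → jt 2 T ≤ K → IsSyl 2 (T ⊓ K) K →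
      Fac K C[W] (H ⊓ N[jt 2 T]) := fun K h0 h1 h2 h3 h4 h5 => by
    have := ih K (lt_of_le_of_ne h0 h1) _ (kl.mono op h0 h2) (solvable_of_solvable_injective
      (f := inclusion h0) (inclusion_injective h0)) h5 (le_normalizer_inf hA h2) h3
      (hW.mono (le_inf hJT h4) inf_le_left)
    rw [jt_eq_of_le (le_inf hJT h4) inf_le_left] at this
    exact this.mono le_rfl le_rfl (inf_le_inf_right _ h0)
  have ovr : ∀ K ≤ H, K ≠ H → A ≤ N[K] → T ≤ K → Fac K C[W] (H ⊓ N[jt 2 T]) :=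
    fun K h0 h1 h2 h3 => sub K h0 h1 h2 (hc.of_isSyl_le hT h3 h0) (hJT.trans h3)
      (by rw [inf_eq_left.mpr h3]; exact hT.of_le h3 h0)
  by_cases h1 : jt 2 T ≤ pCoreOf 2 H
  · refine fun g hg => ⟨1, one_mem _, g, ⟨hg, ?_⟩, (one_mul g).symm⟩
    rw [← jt_eq_of_le h1 hT.pCoreOf_le]
    exact le_normalizer_jt (self_le_normalizer_pCoreOf H) hg
  by_cases h2 : res 2 H ⊔ jt 2 T = H
  swap
  · have l : res 2 H ⊔ jt 2 T ≤ H := sup_le (res_le H) (hJT.trans hT.le)
    have n : H ≤ N[(res 2 H ⊔ jt 2 T : Subgroup Γ)] := hT.sup_res.ge.trans (sup_le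
      (le_normalizer_sup (le_normalizer_res_of_le hT.le) (le_normalizer_jt le_normalizer))
      (le_sup_left.trans le_normalizer))
    intro g hg
    obtain ⟨f, hf, m, hm, rfl⟩ := frat_jt hT l n le_sup_right g hg
    obtain ⟨c, hc, m', hm', rfl⟩ := sub _ l h2
      (le_normalizer_sup (le_normalizer_res (kl.nor op)) (le_normalizer_jt hA)) (hc.normal l n)
      le_sup_right (hT.inf_of_le_normalizer l (hT.le.trans n)) f hf
    exact ⟨c, hc, _, mul_mem hm' hm, mul_assoc _ _ _⟩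
  by_cases h3 : ∀ F ≤ H, H ≤ N[F] → A ≤ N[F] → T ⊓ F ≤ pCoreOf 2 H ∨ res 2 H ≤ F
  · have h4 := le_oz hW.1 (hW.2.1.trans hJT)
      (hW.2.2 T hJT le_rfl (eg_min kl op sol hT hc h3 h1 h2))
    have h5 := (pred_oz T).ncl hc hT le_rfl hT.le
    have h6 := (ppk kl op sol h5 (le_normalizer_ncl_of (kl.nor op)
      (le_normalizer_oz hA))).thompson_le (h5.le_pCoreOf.trans hT.pCoreOf_le) h5.ea
      (hJT.trans hT.le)
    exact (frat_jt hT inf_le_left (le_normalizer_inf le_normalizer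
      (le_normalizer_centralizer h5.norm)) (le_inf (hJT.trans hT.le) h6)).mono le_rfl
      (inf_le_right.trans (centralizer_anti (h4.trans (le_ncl _ _)))) le_rfl
  push Not at h3
  obtain ⟨F, l, n, nA, h3, h4⟩ := h3
  intro g hg
  obtain ⟨f, hf, m, hm, rfl⟩ := frat hT l n g hg
  obtain ⟨c, hc, m', hm', rfl⟩ := ovr _ inf_le_left (fun e => h3 (le_pCoreOf
    hT.isPGroup.to_inf_left (inf_le_left.trans hT.le) (e.ge.trans inf_le_right)))
    (le_normalizer_inf (kl.nor op) (le_normalizer_normalizer (le_normalizer_inf hA nA)))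
    (le_inf hT.le (le_normalizer_inf le_normalizer (hT.le.trans n))) m hm
  obtain ⟨c', hc', m'', hm'', e⟩ := ovr (T ⊔ F) (sup_le hT.le l) (fun e => h4 (by
    rw [← e]
    exact res_sup_le_right hT.isPGroup (hT.le.trans n))) (le_normalizer_sup hA nA) le_sup_left
    (c⁻¹ * f * c) (mem_sup_right (H98.conj_mem_of_mem_normalizer'
      (n ((H.mul_mem_cancel_right hm'.1).1 hm.1)) hf))
  refine ⟨c * c', mul_mem hc hc', m'' * m', mul_mem hm'' hm', ?_⟩
  rw [mul_assoc, ← mul_assoc c', ← e]; group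

theorem tf_core {H A S W : Subgroup Γ} [(H14.opp 2 H).Normal] (op : P Γ H A)
    (sol : Group.IsSolvable H) (hS : IsSyl 2 S H) (hA : A ≤ N[S])
    (hW : Pw A W S) {g : Γ} (hg : g ∈ H) :
    ∃ c ∈ C[W], ∃ n ∈ H ⊓ N[jt 2 S], ∃ o ∈ H14.opp 2 H, g = c * n * o := by
  let π := QuotientGroup.mk' (H14.opp 2 H)
  have hπ := QuotientGroup.mk'_surjective (H14.opp 2 H)
  have hk : π.ker = H14.opp 2 H := QuotientGroup.ker_mk' _
  have hc : (Nat.card π.ker).Coprime 2 := by rw [hk]; exact H14.coprime_card_opp H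
  have hi : Function.Injective (π.comp S.subtype) := (injective_iff_map_eq_one _).2 fun s hs =>
    Subtype.ext (H10.eq_one_of_mem_isPGroup_of_coprime hS.isPGroup s.2
      (hc.coprime_dvd_left (orderOf_dvd_natCard π.ker hs)))
  have := solv_map sol π
  obtain ⟨c, h1, n, ⟨⟨n₀, h2, rfl⟩, h3⟩, e⟩ := fac kl
    _ _ (kl.map op π) this (hS.map π) (map_le_normalizer_map π hA)
    (charP_iff.2 (H2.centralizer_pCore_le (H14.opp_eq_bot_iff.1 (by
      rw [← H14.map_opp_of_coprime_ker π H (hc.coprime_dvd_left (card_dvd_of_le inf_le_left)),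
        Subgroup.map_eq_bot_iff, hk])))) (hW.map hi) _ (mem_map_of_mem π hg)
  rw [← H14.map_centralizer_of_coprime_ker π hπ hc (H12.ea_isPGroup hW.1)] at h1
  rw [SetLike.mem_coe, jt, ← H12.map_thompsonSubgroupOf_of_injOn π hi,
    ← H14.map_normalizer_of_coprime_ker π hπ hc (hS.isPGroup.to_le (jt_le S))] at h3
  obtain ⟨c, h1, rfl⟩ := h1
  obtain ⟨n, h3, e1⟩ := h3
  obtain ⟨o, ho, rfl⟩ := (QuotientGroup.mk'_eq_mk' _).1 e1
  rw [← e1, ← map_mul] at e
  obtain ⟨o', ho', rfl⟩ := (QuotientGroup.mk'_eq_mk' _).1 e.symm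
  exact ⟨c, h1, n, ⟨(mul_mem_cancel_right (H14.opp_le H ho)).1 h2, h3⟩, o', ho', rfl⟩

omit [Group Γ] [Finite Γ] kl in
theorem jobTF2 : JobTF2.{u} := by
  intro P kl Γ _ _ G A S H op hS hA sol h1 h2 h3 h4 g hg
  have l : S ≤ G ⊓ N[jt 2 S] := le_inf hS.le (le_normalizer_jt le_normalizer)
  have nA : A ≤ N[(G ⊓ N[jt 2 S] : Subgroup Γ)] :=
    le_normalizer_inf (kl.nor op) (le_normalizer_normalizer (le_normalizer_jt hA))
  have w1 : ww G S ≤ oz 2 (jt 2 S) := ncl_le (le_oz_jt (ea_oz S) (oz_le S)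
    ((oz_le_centralizer S).trans (centralizer_anti (jt_le S)))) (le_normalizer_oz inf_le_right)
  have w2 : IsElementaryAbelian 2 (ww G S) := H12.ea_mono (ea_oz _) w1
  have w3 : A ≤ N[ww G S] := le_normalizer_ncl_of nA (le_normalizer_oz hA)
  have w4 := ppk kl (kl.mono op inf_le_left nA) sol ⟨ncl_le_of_le ((oz_le S).trans l),
    le_normalizer_ncl _ _, w2, (pred_oz S).red.ncl (hS.of_le l inf_le_left) le_rfl l⟩ w3
  have hW : Pw A (ww G S) S := ⟨w2, w1.trans (oz_le _), fun U k1 k2 k3 =>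
    k3 _ ((w1.trans (oz_le _)).trans k1) ((k2.trans l).trans (le_normalizer_ncl _ _)) w3 w2
      (w4.mono (k2.trans l))⟩
  obtain ⟨L, hL⟩ : ∃ L, L = N[H14.opp 2 H] := ⟨_, rfl⟩
  have hι := L.subtype_injective
  have lH : H ≤ L := hL ▸ H14.self_le_normalizer_opp H
  have lA : A ≤ L := hL ▸ h3.trans (H14.normalizer_le_normalizer_opp H)
  have lW : ww G S ≤ L := ((w1.trans (oz_le _)).trans (jt_le S)).trans (h1.trans lH)
  have e : (H14.opp 2 (H.subgroupOf L)).map L.subtype = H14.opp 2 H := H14.map_opp_subgroupOf lH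
  have : (H14.opp 2 (H.subgroupOf L)).Normal := by
    rw [← comap_map_eq_self_of_injective hι (H14.opp _ _), e]
    exact (normal_subgroupOf_iff_le_normalizer ((H14.opp_le H).trans lH)).2 hL.le
  obtain ⟨c, k1, n, k2, o, k3, e1⟩ := tf_core kl (W := (ww G S).subgroupOf L)
    (kl.of_map (A := A.subgroupOf L) hι (by
      rw [map_subgroupOf_eq_of_le lH, map_subgroupOf_eq_of_le lA]; exact kl.mono op h2 h3))
    (solvable_of_solvable_injective (f := (subgroupOfEquivOfLe lH).toMonoidHom)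
      (MulEquiv.injective _)) ((hS.of_le h1 h2).subgroupOf lH)
    (comap_le_normalizer_comap _ hA) (Pw.of_map hι (by
      rwa [map_subgroupOf_eq_of_le lA, map_subgroupOf_eq_of_le lW,
        map_subgroupOf_eq_of_le (h1.trans lH)])) (g := ⟨g, lH hg⟩) hg
  refine ⟨c * n, mul_mem (centralizer_le_normalizer _ ?_) (le_normalizer_ncl _ _ ⟨h2 k2.1, ?_⟩),
    o, e ▸ mem_map_of_mem _ k3, congrArg Subtype.val e1⟩
  · rwa [centralizer_subgroupOf lW] at k1
  · have := le_normalizer_map L.subtype (mem_map_of_mem _ k2.2)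
    rwa [jt, H12.map_thompsonSubgroupOf _ _ hι, map_subgroupOf_eq_of_le (h1.trans lH)] at this

end H26.T4
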