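import Cfsg.Agent.H7.HKSSpec3
import Cfsg.Agent.H3.HkKit2
import Cfsg.Agent.H72.HKS1
import Cfsg.Agent.H44.HkK
import Cfsg.Agent.H98.Sylow

/-! HKS tower, job F0: the frame of the four-group case. -/

set_option autoImplicit false
set_option linter.unusedSectionVars false

namespace H26.HK

open MulAction Cfsg Subgroup H89.K H65 H7.HKS H98 H44.HK H3.HK2 H72.HKS

universe u

section basic

variable {G Ω : Type u} [Group G] [MulAction G Ω] {U : Ω → Subgroup G} {a b : Ω} {t v w g : G}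

theorem sq_of_ord (h : orderOf t = 2) : t * t = 1 := by rw [← pow_two, ← h, pow_orderOf_eq_one]

theorem ne_of_ord (h : orderOf t = 2) : t ≠ 1 := fun e => by rw [e, orderOf_one] at h; omega

theorem ord_of_sq (h : t * t = 1) (h1 : t ≠ 1) : orderOf t = 2 :=
  orderOf_eq_prime (by rw [pow_two, h]) h1

theorem ord_conj (g t : G) : orderOf (g * t * g⁻¹) = orderOf t := (MulAut.conj g).orderOf_eq t

theorem iv_sub (h : Iv t a b) : ({t} : Set G) ⊆ St G a b := by simpa using h.1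

theorem iv_symm (h : Iv t a b) : Iv t b a := ⟨⟨h.1.2, h.1.1⟩, h.2⟩

theorem iv_conj (g : G) (h : Iv t a b) : Iv (g * t * g⁻¹) (g • a) (g • b) :=
  ⟨conj_mem_St g h.1, (ord_conj g t).trans h.2⟩

theorem fr_symm (h : Fr t v a b) : Fr v t a b := ⟨h.2.1, h.1, h.2.2.1.symm, h.2.2.2.symm⟩

theorem fr_swap (h : Fr t v a b) : Fr t v b a := ⟨iv_symm h.1, iv_symm h.2.1, h.2.2⟩

theorem fr_conj (g : G) (h : Fr t v a b) : Fr (g * t * g⁻¹) (g * v * g⁻¹) (g • a) (g • b) :=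
  ⟨iv_conj g h.1, iv_conj g h.2.1, fun e => h.2.2.1 (by simpa using e), by
    simp only [conj_mul, h.2.2.2]⟩

theorem fr_mul_iv (h : Fr t v a b) : Iv (t * v) a b := by
  have t2 := sq_of_ord h.1.2
  have v2 := sq_of_ord h.2.1.2
  refine ⟨mul_mem h.1.1 h.2.1.1, ord_of_sq ?_ fun e => h.2.2.1 ?_⟩
  · rw [mul_assoc, ← mul_assoc v, ← h.2.2.2, mul_assoc, v2, mul_one, t2]
  · exact mul_right_cancel (e.trans v2.symm)

/-- the pair `t`, `t v` -/
theorem fr_mul (h : Fr t v a b) : Fr t (t * v) a b :=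
  ⟨h.1, fr_mul_iv h, fun e => ne_of_ord h.2.1.2 (by simpa using e), by
    rw [mul_assoc, ← h.2.2.2]⟩

theorem nr_of_comm (h : g * t = t * g) : g ∈ normalizer ({t} : Set G) :=
  centralizer_le_normalizer _ (mem_c1.2 h)

theorem mem_fx1 {c : Ω} : c ∈ Fx Ω {t} ↔ t • c = c := by simp

theorem mem_fx2 {c : Ω} : c ∈ Fx Ω {t, v} ↔ t • c = c ∧ v • c = c := by simp

theorem mem_c2 : g ∈ centralizer ({t, v} : Set G) ↔ g * t = t * g ∧ g * v = v * g := by
  simp only [mem_centralizer_iff, Set.mem_insert_iff, Set.mem_singleton_iff, forall_eq_or_imp,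
    forall_eq]
  exact and_congr eq_comm eq_comm

/-- transport of `L_t` -/
theorem conj_mem_LX (h : SR U) (g : G) {l : G} (hl : l ∈ LX U {t}) :
    g * l * g⁻¹ ∈ LX U {g * t * g⁻¹} := by
  have : LX U {t} ≤ (LX U {g * t * g⁻¹}).comap (MulAut.conj g).toMonoidHom :=
    iSup₂_le fun c hc u hu => CU_le_LX (c := g • c) (mem_fx1.2 (conj_smul_eq.2 (mem_fx1.1 hc)))
      ⟨h.conj g c u hu.1, mem_c1.2 (by
        change g * u * g⁻¹ * _ = _ * (g * u * g⁻¹)
        rw [conj_mul, conj_mul, mem_c1.1 hu.2])⟩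
  exact this hl

theorem slt_conj (h : SR U) (g : G) (hs : SLt U t) : SLt U (g * t * g⁻¹) := conj_mem_LX h g hs

/-- In a field with `q ≡ 3 (mod 4)` elements there is no automorphism of order two. -/
theorem aut_triv {F : Type} [Field F] [Fintype F] (h : Fintype.card F % 4 = 3) (σ : F ≃+* F)
    (h2 : ∀ c, σ (σ c) = c) (c : F) : σ c = c := by
  by_contra hc
  have e0 : c - σ c ≠ 0 := sub_ne_zero.2 (Ne.symm hc)
  have e1 : σ (c - σ c) = -(c - σ c) := by rw [map_sub, h2]; ring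
  have n1 : ¬ IsSquare (-1 : F) := by rw [FiniteField.isSquare_neg_one_iff]; simpa using h
  have key : ∀ e : F, e ≠ 0 → σ e = -e → ¬ IsSquare e := fun e e0 e1 ⟨r, hr⟩ => n1 ⟨σ r / r, by
    have r0 : r ≠ 0 := by rintro rfl; exact e0 (by simpa using hr)
    rw [hr, map_mul] at e1
    field_simp
    linear_combination -e1⟩
  have h2' : ringChar F ≠ 2 := fun e => by
    have := FiniteField.even_card_of_char_two e
    omega
  classical
  have q1 := quadraticChar_neg_one_iff_not_isSquare.2 (key _ e0 e1)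
  have q2 := quadraticChar_neg_one_iff_not_isSquare.2
    (key _ (neg_ne_zero.2 e0) (by rw [map_neg, e1]))
  rw [← neg_one_mul, map_mul, q1, quadraticChar_neg_one_iff_not_isSquare.2 n1] at q2
  omega

end basic

variable {G Ω : Type u} [Group G] [Finite G] [MulAction G Ω] {U : Ω → Subgroup G} {a b : Ω}
  {t v w g : G}

theorem two_zp (h : t * t = 1) : IsPGroup 2 (zpowers t) :=
  isPGroup_zpowers (k := 1) (by rw [pow_one, pow_two, h])

theorem exists_central {S : Subgroup G} (hS : IsPGroup 2 S) (h1 : t ∈ S) (h2 : t ≠ 1) :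
    ∃ z ∈ S, orderOf z = 2 ∧ ∀ s ∈ S, s * z = z * s := by
  have : Nontrivial S := (nontrivial_iff_ne_bot _).2 fun e => h2 (by simpa [e] using h1)
  have := hS.center_nontrivial
  obtain ⟨n, hn, hc⟩ := (hS.to_subgroup (center S)).nontrivial_iff_card.1 this
  obtain ⟨z, hz⟩ := exists_prime_orderOf_dvd_card' (G := center S) 2 (hc ▸ dvd_pow_self 2 hn.ne')
  refine ⟨z.1.1, z.1.2, by rw [orderOf_coe, orderOf_coe, hz], fun s hs => ?_⟩
  exact congrArg Subtype.val (mem_center_iff.1 z.2 ⟨s, hs⟩)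

theorem card_U (h : Rg U) (a b : Ω) : Nat.card (U a) = Nat.card (U b) := by
  have := kit1.card h a
  have := kit1.card h b
  omega

theorem three_le (h : C3 U) (hab : a ≠ b) (ht : Iv t a b) : 3 ≤ (Fx Ω {t}).ncard := by
  rw [(kit1.fx h.toRg hab (iv_sub ht)).2.1]
  have := (one_lt_card_iff_ne_bot _).2 (h.fx3 hab ht)
  omega

theorem odd_CU (h : Rg U) (X : Set G) (a : Ω) : Odd (Nat.card (CU U X a)) :=
  (h.odd a).of_dvd_nat (card_dvd_of_le inf_le_left)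

theorem mod_CU (h : Core U) (hab : a ≠ b) (ht : Iv t a b) :
    Nat.card (CU U {t} a) % 4 = Nat.card (U a) % 4 := by
  have h1 := (kit1.par h.pre).2.2 t (sq_of_ord ht.2)
  rw [(kit1.fx h.toRg hab (iv_sub ht)).2.1, kit1.card h.toRg a] at h1
  unfold Nat.ModEq at h1
  omega

theorem f_ex (h : C3 U) (nr : ¬ R1 G Ω) (hab : a ≠ b) (ht : Iv t a b) : ∃ v, Fr t v a b := by
  simp only [R1, not_forall, not_not] at nr
  obtain ⟨c, d, t₀, v₀, hcd, f⟩ := nr
  obtain ⟨g, rfl, rfl⟩ := h.t2.two hcd hab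
  have f1 := fr_conj g f
  generalize g * t₀ * g⁻¹ = t₁, g * v₀ * g⁻¹ = v₁ at f1
  obtain ⟨S, hS, tS⟩ := exists_isSyl_le (two_zp (sq_of_ord ht.2)) (zpowers_le.2 ht.1)
  have n1 : zpowers t₁ ≤ normalizer (zpowers v₁ : Set G) := zpowers_le.2
    (centralizer_le_normalizer _ (by
      rw [mem_centralizer_iff]
      rintro _ ⟨i, rfl⟩
      exact ((show Commute v₁ t₁ from f1.2.2.2.symm).zpow_left i).eq))
  obtain ⟨k, hk, e⟩ := hS.exists_cj_le
    ((two_zp (sq_of_ord f1.1.2)).to_sup_of_normal_right' (two_zp (sq_of_ord f1.2.1.2)) n1)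
    (sup_le (zpowers_le.2 f1.1.1) (zpowers_le.2 f1.2.1.1))
  have f2 := fr_conj k f1
  rw [hk.1, hk.2] at f2
  have m1 := e (conj_mem_cj (mem_sup_left (mem_zpowers t₁)))
  have m2 := e (conj_mem_cj (mem_sup_right (mem_zpowers v₁)))
  obtain ⟨z, zS, oz, cz⟩ := exists_central hS.isPGroup (tS (mem_zpowers t)) (ne_of_ord ht.2)
  by_cases e1 : t = z
  · subst e1
    by_cases e2 : t = k * t₁ * k⁻¹
    · exact ⟨_, e2 ▸ f2⟩
    · exact ⟨_, ht, f2.1, e2, (cz _ m1).symm⟩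
  · exact ⟨z, ht, ⟨hS.le zS, oz⟩, e1, cz _ (tS (mem_zpowers t))⟩

theorem f_neg (h : Rg U) (m0 : M0 U) (hab : a ≠ b) (f : Fr t v a b) {u : G}
    (hu : u ∈ CU U {t} a) : v * u * v = u⁻¹ := by
  have v2 := sq_of_ord f.2.1.2
  obtain ⟨i, -, c, hc, e1, e2, rfl⟩ := odd_dec (odd_CU h {t} a)
    (norm_CU h.sr (nr_of_comm f.2.2.2.symm) f.2.1.1.1) v2 hu
  have : c ∈ CU U {t, v} a := ⟨hc.1, mem_c2.2 ⟨mem_c1.1 hc.2, e2⟩⟩
  rw [m0 a b t v hab f, mem_bot] at this
  rwa [this, mul_one, ← e1, mul_right_inj, eq_comm, inv_eq_iff_mul_eq_one]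

theorem f_nof (h : Rg U) (m0 : M0 U) (ht : orderOf t = 2) (v2 : v * v = 1) (c : v * t = t * v)
    (h3 : 3 ≤ (Fx Ω {v, t}).ncard) : v = 1 ∨ v = t := by
  by_contra hn
  rw [not_or] at hn
  have := h.t2.finite
  obtain ⟨c, hc, d, hd, hcd⟩ := (Set.one_lt_ncard (Set.toFinite _)).1
    (show 1 < (Fx Ω {v, t}).ncard by omega)
  rw [mem_fx2] at hc hd
  have f : Fr v t c d := ⟨⟨⟨hc.1, hd.1⟩, ord_of_sq v2 hn.1⟩, ⟨⟨hc.2, hd.2⟩, ht⟩, hn.2, by assumption⟩
  rw [(kit1.fx h hcd (X := {v, t}) (Set.insert_subset f.1.1 (iv_sub f.2.1))).2.1, m0 c d v t hcd f,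
    card_bot] at h3
  omega

theorem f_tl (h : C3 U) (al : AL U) (m0 : M0 U) (nr : ¬ R1 G Ω) (hab : a ≠ b) (ht : Iv t a b) :
    TL U {t} a b := by
  refine (al a b t hab ht).resolve_left fun ⟨h7, E, e⟩ => ?_
  obtain ⟨v, f⟩ := f_ex h nr hab ht
  have := (((kit2.aa h.toRg hab (iv_sub ht) e).2.2.2.2 v f.2.1.1 (mem_c1.2 f.2.2.2.symm)).2.2
    (sq_of_ord f.2.1.2) 1 (by
      rw [m0 a b v t hab (fr_symm f), card_bot])).1
  omega

theorem f_wie (h : Rg U) (f : Fr t v a b) :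
    Nat.card (U a) * Nat.card ↥(U a ⊓ centralizer {t, v}) ^ 2 =
      Nat.card ↥(U a ⊓ centralizer {t}) * Nat.card ↥(U a ⊓ centralizer {v}) *
        Nat.card ↥(U a ⊓ centralizer {t * v}) ∧
      ∀ w ∈ U a, ∃ w₁ ∈ U a ⊓ centralizer {t}, ∃ w₂ ∈ U a ⊓ centralizer {v},
        ∃ w₃ ∈ U a ⊓ centralizer {t * v}, w = w₁ * w₂ * w₃ :=
  let ⟨h1, h2⟩ := kit1.wie (U a) t v (h.odd a) (nr_of_conj h.conj a f.1.1.1)
    (nr_of_conj h.conj a f.2.1.1.1) (sq_of_ord f.1.2) (sq_of_ord f.2.1.2) f.2.2.2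
  ⟨h1, fun w hw => h2 w hw (h.nil a)⟩

theorem f_sl (h : C3 U) (m0 : M0 U) (hab : a ≠ b) (ht : Iv t a b) {F : Type} [Field F] [Fintype F]
    {x y : F → G} (L : LD x y (CU U {t} a) (CU U {t} b) a b) :
    (SLt U t ∧ sl2h x y (-1) = t) ∨ (¬ SLt U t ∧ sl2h x y (-1) = 1) := by
  have lx := kit2.lx h.toRg hab (iv_sub ht) L
  have cL := (kit1.fx h.toRg hab (iv_sub ht)).2.2.2.1
  obtain ⟨-, -, -, hst, -, -, -, hc, -⟩ := kit2.bas h.toRg.sr hab inf_le_left inf_le_left L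
  have n1 : (-1 : F) ≠ 0 := neg_ne_zero.2 one_ne_zero
  have m : sl2h x y (-1) ∈ LX U {t} := lx ▸
    (h_mem (fun c => mem_sup_left (xm L c)) (fun c => mem_sup_right (ym L c)) _).2
  have sq : sl2h x y (-1) * sl2h x y (-1) = 1 := by
    rw [L.rel.h_mul' n1 n1, neg_mul_neg, one_mul, L.rel.h_one]
  by_cases z1 : sl2h x y (-1) = 1
  · refine .inr ⟨fun s => ?_, z1⟩
    rcases (kit2.grp h.toRg.sr hab inf_le_left inf_le_left L).2.2.1 t (lx ▸ s)
      (fun l hl => (mem_c1.1 (cL (lx ▸ hl))).symm) with e | e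
    exacts [ne_of_ord ht.2 e, ne_of_ord ht.2 (e.trans z1)]
  by_cases z2 : sl2h x y (-1) = t
  · exact .inl ⟨by rw [SLt]; nth_rw 2 [← z2]; exact m, z2⟩
  refine (h.fx3 hab ht (eq_bot_iff.2 fun u hu => ?_)).elim
  have := f_neg h.toRg m0 hab ⟨ht, ⟨hst _ n1, ord_of_sq sq z1⟩, Ne.symm z2,
    (mem_c1.1 (cL m)).symm⟩ hu
  rw [mul_assoc, hc u (mem_sup_left hu), ← mul_assoc, sq, one_mul, eq_inv_iff_mul_eq_one] at this
  exact odd_sq h.toRg.sr hu.1 this

/-- An involution of type SL is the only involution centralising a suitable Sylow subgroup. -/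
theorem central (k3 : Kit3.{u}) (h : C3 U) (m0 : M0 U) (hab : a ≠ b) (ht : Iv t a b)
    (tl : TL U {t} a b) (s : SLt U t) : ∃ S, IsSyl 2 S ⊤ ∧ (∀ s ∈ S, s * t = t * s) ∧
      ∀ z : G, z * z = 1 → z ≠ 1 → (∀ s ∈ S, s * z = z * s) → z = t := by
  obtain ⟨F, _, _, x, y, L⟩ := tl
  obtain ⟨-, -, -, cL, nL, -⟩ := kit1.fx h.toRg hab (iv_sub ht)
  have z1 : sl2h x y (-1) ≠ 1 := by
    rcases f_sl h m0 hab ht L with e | e
    · rw [e.2]; exact ne_of_ord ht.2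
    · exact (e.1 s).elim
  obtain ⟨S, hS, tS⟩ := exists_isSyl_le (two_zp (sq_of_ord ht.2))
    (zpowers_le.2 (mem_c1.2 (rfl : t * t = t * t)))
  obtain ⟨S₀, hS₀, SS⟩ := exists_isSyl_le hS.isPGroup le_top
  have hQ := hS.inf_of_le_normalizer cL (hS.le.trans ((centralizer_le_normalizer _).trans nL))
  have key : ∀ z : G, z * z = 1 → z ≠ 1 → (∀ s ∈ S₀, s * z = z * s) → z = t := fun z z2 zn cz => by
    have c := (cz t (SS (tS (mem_zpowers t)))).symm
    have tr := (k3.slc h.toRg hab (iv_sub ht) L z1).1 _ inf_le_right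
      (Nat.odd_iff.2 (by have := hQ.not_dvd_relIndex; omega)) z (nr_of_comm c)
      (fun c _ => by rw [z2, one_smul]) fun g hg => (cz g (SS hg.1)).symm
    refine (f_nof h.toRg m0 ht.2 z2 c ((three_le h hab ht).trans_eq ?_)).resolve_left zn
    congr 1
    ext c
    rw [mem_ins]
    exact ⟨fun hc => ⟨tr c hc, hc⟩, And.right⟩
  refine ⟨S₀, hS₀, ?_, key⟩
  obtain ⟨z, -, oz, cz⟩ := exists_central hS₀.isPGroup (SS (tS (mem_zpowers t))) (ne_of_ord ht.2)
  rwa [key _ (sq_of_ord oz) (ne_of_ord oz) cz] at cz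

theorem f_n (h : C3 U) (m0 : M0 U) (hab : a ≠ b) (f : Fr t v a b) (tl : TL U {t} a b)
    (s : SLt U t) : ∃ g ∈ LX U {t}, g * v * g⁻¹ = t * v := by
  obtain ⟨F, _, _, x, y, L⟩ := tl
  have z : sl2h x y (-1) = t := ((f_sl h m0 hab f.1 L).resolve_right fun e => e.1 s).2
  have v2 := sq_of_ord f.2.1.2
  refine ⟨sl2n x y 1, kit2.lx h.toRg hab (iv_sub f.1) L ▸ nm L 1, ?_⟩
  have e : (sl2n x y 1)⁻¹ = v * sl2n x y 1 * v := by
    rw [sl2n, mul_inv_rev, mul_inv_rev, ← f_neg h.toRg m0 hab f (xm L 1),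
      ← f_neg h.toRg m0 hab.symm (fr_swap f) (ym L _)]
    simp only [mul_assoc]
    rw [← mul_assoc v v, ← mul_assoc v v, v2, one_mul, one_mul]
  rw [e, ← z, ← L.rel.n_one_sq]
  simp only [mul_assoc]
  rw [← mul_assoc v v, v2, one_mul]

/-- Being inner is decided by the common fixed points. -/
theorem exists_d (k3 : Kit3.{u}) (h : C3 U) (m0 : M0 U) (hab : a ≠ b) (ht : Iv t a b)
    (tl : TL U {t} a b) : ∃ d : normalizer ({t} : Set G) →* ℤˣ, ∀ (g : G) (c : g * t = t * g),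
      g * g = 1 → g ≠ 1 → g ≠ t → (Inn U {t} g ↔ d ⟨g, nr_of_comm c⟩ = 1) ∧
        (d ⟨g, nr_of_comm c⟩ = 1 ↔ ((Fx Ω {g, t}).Nonempty ↔ Nat.card (U a) % 4 = 1)) := by
  obtain ⟨F, _, _, x, y, L⟩ := tl
  obtain ⟨d, φ, h1, -, h3⟩ := k3.out h.toRg hab (iv_sub ht) L
  obtain ⟨⟨k, o⟩, cF, -⟩ := kit2.bas h.toRg.sr hab inf_le_left inf_le_left L
  have md := mod_CU h.toCore hab ht
  rw [show Nat.card (CU U {t} a) = _ from cF] at md
  refine ⟨d, fun g c g2 g1 gt => ?_⟩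
  have n3 : ¬ 3 ≤ (Fx Ω {g, t}).ncard := fun e => (f_nof h.toRg m0 ht.2 g2 c e).elim g1 gt
  have := h1 ⟨g, nr_of_comm c⟩
  rcases h3 ⟨g, nr_of_comm c⟩ (fun c _ => by rw [g2, one_smul]) (fun tr => n3 (by
    refine (three_le h hab ht).trans_eq ?_
    congr 1
    ext c
    rw [mem_ins]
    exact ⟨fun hc => ⟨tr c hc, hc⟩, And.right⟩)) with e | e | e
  · exact (n3 (le_trans (by omega) e.2.1)).elim
  · have ne : (Fx Ω {g, t}).Nonempty := Set.nonempty_of_ncard_ne_zero (e.2.1 ▸ two_ne_zero)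
    exact ⟨by rw [← this, e.1]; simp, by rw [e.2.2, md]; simp [ne]⟩
  · have ne : ¬ (Fx Ω {g, t}).Nonempty := Set.not_nonempty_iff_eq_empty.2 e.2.1
    exact ⟨by rw [← this, e.1]; simp, by rw [e.2.2, md]; simp only [ne, false_iff]; omega⟩

theorem f_inc (k3 : Kit3.{u}) (h : C3 U) (m0 : M0 U)
    (tl : ∀ {a b : Ω} {t : G}, a ≠ b → Iv t a b → TL U {t} a b) (hab : a ≠ b) (f : Fr t v a b)
    (w2 : w * w = 1) (sw : Sw w a b) (wt : w * t = t * w) (wv : w * v = v * w) :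
    (Inn U {t} w ↔ Inn U {v} w) ↔ Inn U {t * v} w := by
  have ne : ∀ s ∈ St G a b, w ≠ s := fun s hs e => hab (by rw [← sw.1, e, hs.1])
  have w1 := ne 1 (one_mem _)
  have key : ∀ s, Iv s a b → w * s = s * w →
      (Inn U {s} w ↔ ((Fx Ω {w, s}).Nonempty ↔ Nat.card (U a) % 4 = 1)) := fun s hs c => by
    obtain ⟨d, hd⟩ := exists_d k3 h m0 hab hs (tl hab hs)
    exact (hd w c w2 w1 (ne s hs.1)).1.trans (hd w c w2 w1 (ne s hs.1)).2
  have wtv : w * (t * v) = t * v * w := by rw [← mul_assoc, wt, mul_assoc, wv, mul_assoc]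
  rw [key t f.1 wt, key v f.2.1 wv, key _ (fr_mul_iv f) wtv]
  have pr := (kit1.par h.pre).2.2 w w2
  rw [kit1.card h.toRg a] at pr
  unfold Nat.ModEq at pr
  obtain ⟨k, hk⟩ := h.odd a
  by_cases h1 : 1 < (Fx Ω {w}).ncard
  · have := h.t2.finite
    obtain ⟨c, hc, e, he, hce⟩ := (Set.one_lt_ncard (Set.toFinite _)).1 h1
    have iw : Iv w c e := ⟨⟨mem_fx1.1 hc, mem_fx1.1 he⟩, ord_of_sq w2 w1⟩
    obtain ⟨d, hd⟩ := exists_d k3 h m0 hce iw (tl hce iw)
    have k2 : ∀ s (hs : Iv s a b) (c : w * s = s * w),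
        ((Fx Ω {w, s}).Nonempty ↔ Nat.card (U a) % 4 = 1) ↔ d ⟨s, nr_of_comm c.symm⟩ = 1 :=
      fun s hs c => by
        rw [(hd s c.symm (sq_of_ord hs.2) (ne_of_ord hs.2) (ne s hs.1).symm).2, Set.pair_comm,
          card_U h.toRg a]
    rw [k2 t f.1 wt, k2 v f.2.1 wv, k2 _ (fr_mul_iv f) wtv,
      show (⟨t * v, nr_of_comm wtv.symm⟩ : normalizer ({w} : Set G)) =
        ⟨t, nr_of_comm wt.symm⟩ * ⟨v, nr_of_comm wv.symm⟩ from rfl, map_mul]
    generalize d ⟨t, _⟩ = p, d ⟨v, _⟩ = q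
    revert p q
    decide
  · have := h.t2.finite
    have h0 : Fx Ω {w} = ∅ := (Set.ncard_eq_zero (Set.toFinite _)).1 (by omega)
    have k2 : ∀ s : G, ¬ (Fx Ω {w, s}).Nonempty := fun s ⟨c, hc⟩ =>
      Set.notMem_empty c (h0 ▸ mem_fx1.2 (mem_fx2.1 hc).1)
    rw [h0, Set.ncard_empty] at pr
    have : ¬ Nat.card (U a) % 4 = 1 := by omega
    simp [k2, this]

/-- For `q ≡ 3 (mod 4)` a `2`-element acts on the root group as `±1`. -/
theorem act_pm (h : Rg U) {X : Set G} (hab : a ≠ b) {F : Type} [Field F] [Fintype F]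
    {x y : F → G} (L : LD x y (CU U X a) (CU U X b) a b) (h3 : Fintype.card F % 4 = 3) (k : ℕ) :
    ∀ g ∈ St G a b, g ∈ normalizer X → g ^ 2 ^ k = 1 →
      ∃ ε : F, ε * ε = 1 ∧ ∀ c, g * x c * g⁻¹ = x (ε * c) := by
  induction k with
  | zero => intro g _ _ e; exact ⟨1, mul_one _, fun c => by simp [show g = 1 by simpa using e]⟩
  | succ k ih =>
    intro g hg hn e
    obtain ⟨ε, e2, hε⟩ := ih (g * g) (mul_mem hg hg) (mul_mem hn hn)
      (by rw [← pow_two, ← pow_mul, ← pow_succ', e])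
    obtain ⟨l, σ, l0, hl, -⟩ := kit2.semi h.sr hab inf_le_left inf_le_left L g hg
      (norm_CU h.sr hn hg.1) (norm_CU h.sr hn hg.2)
    have e1 : ∀ c, l * σ l * σ (σ c) = ε * c := fun c => L.inj (by
      rw [← hε, mul_assoc l, ← map_mul, ← hl, ← hl]; group)
    have e3 : l * σ l = ε := by simpa using e1 1
    have ε0 : ε ≠ 0 := by rintro rfl; simp at e2
    have e4 := aut_triv h3 σ fun c => mul_left_cancel₀ ε0 (by rw [← e1 c, e3])
    refine ⟨l, ?_, fun c => by rw [hl, e4]⟩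
    rw [e4] at e3
    rcases mul_self_eq_one_iff.1 e2 with e | e
    · rw [e3, e]
    · exact absurd (FiniteField.isSquare_neg_one_iff.1 ⟨l, (e3.trans e).symm⟩) (by simpa using h3)

theorem f_m1 (h : C3 U) (e8 : NoE8 G Ω)
    (tl : ∀ {a b : Ω} {t : G}, a ≠ b → Iv t a b → TL U {t} a b) (hab : a ≠ b) (f : Fr t v a b)
    (h3 : Nat.card (U a) % 4 = 3) (hg : g ∈ St G a b) (two : Two g) (gt : g * t = t * g)
    (gv : g * v = v * g) : g = 1 ∨ g = t ∨ g = v ∨ g = t * v := by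
  obtain ⟨k, hk⟩ := two
  have key : ∀ s, Iv s a b → g * s = s * g → ∀ u ∈ CU U {s} a, Commute (g * g) u :=
    fun s hs c u hu => by
      obtain ⟨F, _, _, x, y, L⟩ := tl hab hs
      have cF := (kit2.bas h.toRg.sr hab inf_le_left inf_le_left L).2.1
      obtain ⟨ε, e2, hε⟩ := act_pm h.toRg hab L
        (by rw [← cF, ← h3]; exact mod_CU h.toCore hab hs) k g hg (nr_of_comm c) hk
      obtain ⟨c, rfl⟩ := (L.rx u).1 hu
      rw [commute_iff_eq, ← mul_inv_eq_iff_eq_mul]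
      calc g * g * x c * (g * g)⁻¹ = g * (g * x c * g⁻¹) * g⁻¹ := by group
        _ = x c := by rw [hε, hε, ← mul_assoc, e2, one_mul]
  refine e8 a b t v g hab f hg (h.t2.faith _ fun c => ?_) gt gv
  have gg := mul_mem hg hg
  by_cases ca : c = a
  · rw [ca, gg.1]
  obtain ⟨u, hu, rfl⟩ := h.tr hab.symm ca
  obtain ⟨u₁, h1, u₂, h2, u₃, h3, rfl⟩ := (f_wie h.toRg f).2 u hu
  exact fix_of_comm (((key t f.1 gt _ h1).mul_right (key v f.2.1 gv _ h2)).mul_right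
    (key _ (fr_mul_iv f) (by rw [← mul_assoc, gt, mul_assoc, gv, mul_assoc]) _ h3)).eq.symm gg.2

theorem jobF0 (k3 : Kit3.{u}) : JobF0.{u} := by
  intro G Ω _ _ _ U h al e8 m0 nr
  have tl : ∀ {a b : Ω} {t : G}, a ≠ b → Iv t a b → TL U {t} a b := f_tl h al m0 nr
  exact
    { h with
      noE8 := e8
      m0 := m0
      ex := f_ex h nr
      tl := fun hab ht => ⟨tl hab ht, mod_CU h.toCore hab ht⟩
      nof := fun _ ht _ => f_nof h.toRg m0 ht.2
      neg := fun hab f _ => f_neg h.toRg m0 hab f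
      prod := fun {a b t v} hab f => by
        have := (f_wie h.toRg f).1
        rwa [show U a ⊓ centralizer {t, v} = ⊥ from m0 a b t v hab f, card_bot, one_pow,
          mul_one] at this
      sl := fun hab ht => f_sl h m0 hab ht
      slJ := fun g _ => slt_conj h.toRg.sr g
      slc := fun {a b t} hab ht s => by
        obtain ⟨S, hS, c, un⟩ := central k3 h m0 hab ht (tl hab ht) s
        refine ⟨?_, fun v hv sv => ?_, fun v f => f_n h m0 hab f (tl hab ht) s⟩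
        · have h1 := hS.not_dvd_relIndex
          rw [relIndex_top_right] at h1
          exact Odd.of_dvd_nat (Nat.odd_iff.2 (by omega))
            (index_dvd_of_le (show S ≤ centralizer {t} from fun s hs => mem_c1.2 (c s hs)))
        · obtain ⟨T, hT, c', -⟩ := central k3 h m0 hab hv (tl hab hv) sv
          obtain ⟨g, -, e⟩ := hT.exists_cj_le hS.isPGroup le_top
          have o := (ord_conj g⁻¹ v).trans hv.2
          refine (isConj_iff.2 ⟨g⁻¹, un _ (sq_of_ord o) (ne_of_ord o) fun s hs => ?_⟩).symm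
          have := c' _ (e (conj_mem_cj hs))
          calc s * (g⁻¹ * v * g⁻¹⁻¹) = g⁻¹ * (g * s * g⁻¹ * v) * g := by group
            _ = _ := by rw [this]; group
      inc := fun hab f => f_inc k3 h m0 tl hab f
      m1 := fun hab f h3 _ hg => f_m1 h e8 tl hab f h3 hg }

end H26.HK
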