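import Cfsg.Agent.H78.TEDef
import Cfsg.Agent.H68.OutE6

/-! STD-2E6, slot `TC`: Bruhat decomposition, torus and automorphisms of `²E₆(q)`. -/

set_option autoImplicit false
set_option linter.unusedSectionVars false
set_option linter.style.haveILetI false

namespace H26.TE

open Cfsg.Lie H63 H65 H64 H64.SG H68 H68.GA H46.SF Subgroup H78.TE

theorem lie_std {G : Type*} [Group G] [Finite G] {p : ℕ} [Fact p.Prime] (L : H54.LieS p G)
    (θ : MulAut G) : ∃ y : G, Std L.T (MulAut.conj y * θ) := by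
  obtain ⟨g, hg⟩ := MulAction.exists_smul_eq G L.sylow (θ • L.sylow)
  exact GA.exists_conj_fix (T := L.T) L.top (θ := θ) (g := g)
    (congrArg (fun Q : Sylow p G => (Q : Subgroup G)) hg).symm

theorem grd_stdU {Φ ι : Type*} {R : WData Φ ι} {G : Type*} [Group G] {T : H54.GRD R G} [Finite Φ]
    (hT : T.Gp = ⊤) {θ : MulAut G} (h : T.U.map θ.toMonoidHom = T.U) :
    ∃ y ∈ T.U, Std T (MulAut.conj y * θ) := by
  obtain ⟨y, hy⟩ := GA.exists_conj_fix (T := T) hT (θ := θ) (g := 1) (h.trans (H98.cj_one _).symm)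
  have h1 : y ∈ T.B := by
    rw [← GA.normalizer_U hT, ← H98.cj_eq_self_iff]
    have := hy.1
    rwa [show (θ.trans (MulAut.conj y)).toMonoidHom =
      (MulAut.conj y).toMonoidHom.comp θ.toMonoidHom from rfl, ← Subgroup.map_map, h] at this
  obtain ⟨k, hk, u, hu, rfl⟩ := T.mem_B'.1 h1
  refine ⟨u, hu, ?_⟩
  have := mul_mem ((conj_mem_StdA hT (g := k⁻¹)).2 (inv_mem hk))
    (show MulAut.conj (k * u) * θ ∈ StdA T from hy)
  rwa [← mul_assoc, ← map_mul, inv_mul_cancel_left] at this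

section

variable {K : Type} [Field K] [Fintype K] [CharP K 2] {q : ℕ} (hq : IsPrimePow q)
  (hK : Fintype.card K = q ^ 2)

theorem std_df {θ : MulAut (twistedE6 K q)} (hθ : Std (isTw_E6 hq hK).grdK θ) :
    ∃ c ∈ (smE6 hq hK).F, ∃ f : RingAut K, ∀ g, (θ g).1 = dfG c f g := by
  have := (simple_E6 hq hK).1
  have hA := isTw_E6 hq hK
  obtain ⟨c, hc, f, e⟩ := dat_E6 hq hK hθ
  obtain ⟨α, hα⟩ := SM.exists_dfA f (twistedE6_eq_Fix hq hK) hc
  have h4 : Std hA.grdK α :=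
    ⟨map_eq_of_mem _ fun g hg => hA.mem_grdK_U.2 (by rw [hα]; exact dfG_gen _ _ (hA.mem_grdK_U.1 hg)),
      map_eq_of_mem _ fun g hg => hA.mem_grdK_V.2 (by rw [hα]; exact dfG_gen _ _ (hA.mem_grdK_V.1 hg))⟩
  obtain rfl : α = θ := Std.ext hA.grdK_Gp h4 hθ fun o g hg =>
    Subtype.ext ((hα _).trans (e o g ⟨hA.mem_grdK_X_p.1 hg, hA.le_fix g.2⟩).2.symm)
  exact ⟨c, hc, f, hα⟩

include hq hK in
theorem rho_eq (r : Rt E6) : twE6.ρ r = gm r :=
  Fin.ext (((smE6 hq hK).ρ_val r).trans ((congrFun (smE6_ρ hq hK) r).trans (gm_val r).symm))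

theorem mem_gY {S : Set (Rt E6)} {g : YY K} :
    g ∈ gY K S ↔ (g : GL E6.Idx K) ∈ gen (XR E6 (xU E6 K)) S := by
  rw [← map_gen_xG]
  exact (mem_map_iff_mem (E6.group K).subtype_injective).symm

theorem hh_val (r : ℕ) (t : K) :
    ((hh E6 (xG E6 K) r t : YY K) : GL E6.Idx K) = hh E6 (xU E6 K) r t :=
  map_hh_eq (E6.group K).subtype r t

theorem tor_tl (a b c d e f : Kˣ) : (mat E6 K).tor (tl E6 [a, b, c, d, e, f]) =
    (hh E6 (xG E6 K) 56 a * hh E6 (xG E6 K) 36 f * (hh E6 (xG E6 K) 42 c * hh E6 (xG E6 K) 37 e) *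
      hh E6 (xG E6 K) 46 b * hh E6 (xG E6 K) 39 d : YY K) := by
  have : tl E6 [a, b, c, d, e, f] = Pi.mulSingle ⟨0, by decide⟩ a * Pi.mulSingle ⟨5, by decide⟩ f *
      (Pi.mulSingle ⟨2, by decide⟩ c * Pi.mulSingle ⟨4, by decide⟩ e) * Pi.mulSingle ⟨1, by decide⟩ b *
      Pi.mulSingle ⟨3, by decide⟩ d := by
    funext i
    fin_cases i <;> simp [tl, Fin.ext_iff]
  rw [this]
  simp only [map_mul, coe_mul, hh_val]
  have k : ∀ i (c : Kˣ), (mat E6 K).tor (Pi.mulSingle i c) = hh E6 (xU E6 K) (E6.simple i) c :=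
    torM_single
  simp only [k]
  rfl

end

theorem jobTC : JobTC := by
  intro F K _ _ _ _ _ _ T kb tb
  haveI := Fintype.ofFinite K
  haveI := Fintype.ofFinite F
  have hq : IsPrimePow (Nat.card F) := by
    rw [Nat.card_eq_fintype_card]; exact FiniteField.isPrimePow_card F
  have hK : Fintype.card K = Nat.card F ^ 2 := by rw [← T.card, Nat.card_eq_fintype_card]
  obtain ⟨e, he⟩ := tb.iso
  have hA := isTw_E6 hq hK
  have he' : ∀ g : T.X, (e.symm g : GL E6.Idx K) = (g : YY K) := fun g => by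
    rw [← he, MulEquiv.apply_symm_apply]
  have mU : ∀ g, e g ∈ T.U ↔ g ∈ hA.grdK.U := fun g => by
    rw [kb.gtY SU (by decide +kernel), gY_SU, hA.mem_grdK_U, ← he]
    exact mem_gY
  have sd : ∀ (β : MulAut T.X) y, Std hA.grdK (MulAut.conj y * MulAut.congr e.symm β) →
      ∃ d τ, T.Sd (MulAut.conj (e y) * β) d τ := fun β y h => by
    obtain ⟨c, hc, f, hf⟩ := std_df hq hK h
    refine ⟨c, f, fun i => ?_, fun g => Subtype.ext ?_⟩
    · obtain ⟨a, b, c', d, e', f', rfl⟩ := exists_tl_E6 c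
      obtain ⟨h1, h2, rfl, rfl⟩ := (tl_mem_F_E6 hq hK).1 hc
      have k : ∀ u : Kˣ, ((u ^ Nat.card F : Kˣ) : K) = T.σ u := fun u => by
        rw [tb.frob, Units.val_pow_eq_pow_val]
      fin_cases i
      · exact k a
      · exact (congrArg Units.val h1).symm.trans (k b)
      · exact k c'
      · exact (congrArg Units.val h2).symm.trans (k d)
      · exact (T.ss c').symm.trans (congrArg T.σ (k c').symm)
      · exact (T.ss a).symm.trans (congrArg T.σ (k a).symm)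
    · have := hf (e.symm g)
      rw [he'] at this
      refine Eq.trans ?_ this
      rw [← he]
      simp
  refine ⟨fun g => ?_, fun h d hm => ?_, fun β => ?_, fun β hβ => ?_⟩
  · obtain ⟨a, ha, m, hm, w, hw, b, hb, ac, eg⟩ := hA.normal_form (e.symm g).2
    choose d d0 hd using (mat E6 K).exists_conj (Tw.Wf_le_W hw) hm.1 ac
    refine ⟨e ⟨a, ha.2⟩, (mU _).2 (hA.mem_grdK_U.2 ha.1), e ⟨b, hb.2⟩,
      (mU _).2 (hA.mem_grdK_U.2 (Um_le_U _ hb.1)), e ⟨m, hm.2⟩,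
      ⟨w, (rd E6).toW_W.ge (Tw.Wf_le_W hw)⟩, d, ⟨fun r => ?_, fun s => ⟨d0 s, fun t => ?_⟩⟩, ?_⟩
    · rw [← rho_eq hq hK, ← rho_eq hq hK]
      exact Tw.apply_ρ hw r
    · refine Subtype.ext ?_
      rw [coe_mul, coe_mul, coe_inv, he]
      exact hd s t
    · rw [← map_mul, ← map_mul, ← MulEquiv.symm_apply_eq]
      exact Subtype.ext eg
  · have cj : ∀ (s : Rt E6) t, (e.symm h : GL E6.Idx K) * xU E6 K s t * (e.symm h : GL E6.Idx K)⁻¹ =
        xU E6 K s (d s * t) := fun s t => by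
      rw [he']
      exact congrArg Subtype.val ((hm.2 s).2 t)
    have ac : Ac (mat E6 K).T (e.symm h : GL E6.Idx K) 1 := fun r x => by
      rw [(mat E6 K).mem_X, (mat E6 K).mem_X]
      refine ⟨?_, fun ⟨t, ht⟩ => ⟨(d r)⁻¹ * t, ?_⟩⟩
      · rintro ⟨t, rfl⟩
        exact ⟨_, cj r t⟩
      · have := cj r ((d r)⁻¹ * t)
        rw [mul_inv_cancel_left₀ (hm.2 r).1] at this
        exact (MulAut.conj (e.symm h : GL E6.Idx K)).injective (ht.trans this.symm)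
    have hH : e.symm h ∈ hA.grdK.H := (conj_mem_StdA hA.grdK_Gp).1
      ⟨map_eq_of_mem _ fun g hg => hA.mem_grdK_U.2 (ac.conj_gen (fun _ a => a) (hA.mem_grdK_U.1 hg)),
        map_eq_of_mem _ fun g hg => hA.mem_grdK_V.2 (ac.conj_gen (fun _ a => a) (hA.mem_grdK_V.1 hg))⟩
    obtain ⟨c, hc, ec⟩ := (H_inf_Fix_E6 hq hK).le ⟨hA.mem_grdK_H.1 hH, hA.le_fix (e.symm h).2⟩
    obtain ⟨a, b, c', d', e', f', rfl⟩ := exists_tl_E6 c
    obtain ⟨h1, h2, rfl, rfl⟩ := (tl_mem_F_E6 hq hK).1 hc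
    have k : ∀ u : Kˣ, u ^ Nat.card F = u → ∃ v : F, v ≠ 0 ∧ T.ι v = u := fun u hu => by
      obtain ⟨v, hv⟩ := (T.fix u).1 (by rw [tb.frob, ← Units.val_pow_eq_pow_val, hu])
      exact ⟨v, fun e => u.ne_zero (by rw [← hv, e, map_zero]), hv⟩
    obtain ⟨b', b0, hb⟩ := k b h1
    obtain ⟨d'', d0, hd⟩ := k d' h2
    refine ⟨a, c', b', d'', a.ne_zero, c'.ne_zero, b0, d0, Subtype.ext ?_⟩
    rw [← he', ← ec, tor_tl, hb, hd, tb.frob, tb.frob, Units.val_pow_eq_pow_val,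
      Units.val_pow_eq_pow_val]
  · haveI := Fact.mk Nat.prime_two
    obtain ⟨y, hy⟩ := lie_std (hA.lieS 2) (MulAut.congr e.symm β)
    exact ⟨e y, sd β y hy⟩
  · obtain ⟨y, h1, hy⟩ := grd_stdU hA.grdK_Gp (θ := MulAut.congr e.symm β) (map_eq_of_mem _ fun g hg => by
      rw [← mU] at hg ⊢
      simpa using hβ.le (mem_map_of_mem _ hg))
    exact ⟨e y, (mU y).2 h1, sd β y hy⟩

end H26.TE
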