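import Cfsg.Agent.H64.SFBasic
import Cfsg.Agent.H26.TGP3d

/-! STD-F4: the relations of `F₄(R)` from the short family and its mirror image (slot FY). -/

set_option autoImplicit false
set_option linter.unusedSectionVars false
set_option synthInstance.maxSize 2000

namespace H26.SF

open H64.SF Subgroup
open H64.SG (Cz Cs Ns mem_Cz mem_Cs)
open H67.SA (cm)
open H59.SO (B1 map_cm)
open H86.WR (XF US)
open H46.SF (sh)
open H63.TG (Rg)
open H68 (rhoF4)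

universe u

section Gen
variable {G : Type u} [Group G] {a b c k m t u v w p r n₁ n₂ n₃ : G}

theorem cm_ml (a b c : G) : cm (a * b) c = a * cm b c * a⁻¹ * cm a c := by simp only [cm]; group
theorem cm_mr (a b c : G) : cm a (b * c) = cm a b * (b * cm a c * b⁻¹) := by simp only [cm]; group
theorem cj_cm (g a b : G) : g * cm a b * g⁻¹ = cm (g * a * g⁻¹) (g * b * g⁻¹) := by
  simp only [cm]; group
theorem cm_inv (a b : G) : (cm a b)⁻¹ = cm b a := by simp only [cm]; group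
theorem cj_of (h : Commute a b) : a * b * a⁻¹ = b := by rw [h.eq, mul_inv_cancel_right]
theorem cj_eq (h : cm a b = c) : a * b * a⁻¹ = c * b := by rw [← h]; simp only [cm]; group
theorem cm_one (h : Commute a b) : cm a b = 1 := by rw [cm, cj_of h, mul_inv_cancel]
theorem comm_cm (h : Commute c a) (h' : Commute c b) : Commute c (cm a b) :=
  ((h.mul_right h').mul_right h.inv_right).mul_right h'.inv_right

theorem fix_l (h : Commute u a) (e : cm u b = v) (h1 : Commute v a) (h2 : Commute v b) :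
    Commute (cm a b) u := by
  have : u * cm a b * u⁻¹ = cm a b := by
    rw [cj_cm, cj_of h, cj_eq e, cm_mr, cm_one h1.symm, one_mul, cj_of (comm_cm h1 h2)]
  exact (mul_inv_eq_iff_eq_mul.1 this).symm

theorem fix_r (h : Commute u b) (e : cm u a = v) (h1 : Commute v a) (h2 : Commute v b) :
    Commute (cm a b) u := by
  rw [← cm_inv]; exact (fix_l h e h2 h1).inv_left

theorem hex (e : cm w p = r) (h1 : b * w * b⁻¹ = u * v * w) (h2 : Commute b p)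
    (h3 : b * r * b⁻¹ = m * r) (h4 : Commute v r) (h5 : cm v p = n₁) (h6 : cm u r = n₂)
    (h7 : Commute u n₁) (h8 : cm u p = n₃) (h9 : Commute r (n₁ * n₃)) : m = n₂ * (n₁ * n₃) := by
  rw [← mul_left_inj r, mul_assoc n₂, ← h9.eq, ← mul_assoc, ← mul_assoc]
  rw [← h3, ← e, cj_cm, h1, cj_of h2, mul_assoc u, cm_ml, cm_ml, e, cj_of h4, h5, h8, ← conj_mul,
    cj_eq h6, cj_of h7]

theorem excl (e : k = m * t) (h1 : a * k * a⁻¹ = k⁻¹) (h2 : Commute a m) (h3 : m * m = 1)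
    (h4 : t * t = 1) : a * t * a⁻¹ = t * (t * m * t⁻¹ * m) := by
  have i := inv_eq_of_mul_eq_one_right h3
  have j := inv_eq_of_mul_eq_one_right h4
  rw [e, ← conj_mul, cj_of h2, mul_inv_rev, i, j] at h1
  calc a * t * a⁻¹ = m⁻¹ * (m * (a * t * a⁻¹)) := by group
    _ = t⁻¹ * (t * m * t⁻¹ * m) := by rw [h1, i, j, ← mul_assoc, ← mul_assoc, ← mul_assoc, ← mul_assoc,
        h4, one_mul]
    _ = _ := by rw [j]

end Gen

/-- Words that carry `(29, 41)` to the other obtuse pairs. -/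
def tab : List (ℕ × ℕ × List ℕ) :=
  [(3, 41, [47]), (3, 42, [46, 24]), (3, 43, [45, 26]), (3, 45, [43, 31]), (3, 46, [42, 32]), (3,
  47, [41, 29]), (7, 30, [47, 33]), (7, 31, [46, 33, 24]), (7, 32, [45, 33, 26]), (7, 45, [39,
  31]), (7, 46, [38, 32]), (7, 47, [37, 29]), (8, 25, [47, 34]), (8, 26, [46, 34, 24]), (8, 32,
  [44, 33, 26]), (8, 43, [40, 26]), (8, 46, [36, 32]), (8, 47, [35, 29]), (9, 22, [47, 35]), (9,
  24, [41, 40, 24]), (9, 31, [44, 33, 24]), (9, 42, [40, 24]), (9, 45, [36, 31]), (9, 47, [34,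
  29]), (10, 21, [43, 40]), (10, 23, [42, 40]), (10, 30, [44, 33]), (10, 41, [40]), (10, 45, [35,
  31]), (10, 46, [34, 32]), (11, 17, [47, 37]), (11, 24, [41, 39, 24]), (11, 26, [44, 34, 24]),
  (11, 42, [39, 24]), (11, 43, [38, 26]), (11, 47, [33, 29]), (12, 16, [45, 39]), (12, 23, [42,
  39]), (12, 25, [44, 34]), (12, 41, [39]), (12, 43, [37, 26]), (12, 46, [33, 32]), (13, 15, [46,
  38]), (13, 21, [43, 38]), (13, 22, [44, 35]), (13, 41, [38]), (13, 42, [37, 24]), (13, 45, [33,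
  31]), (14, 15, [46, 36]), (14, 16, [45, 36]), (14, 17, [37, 36]), (14, 41, [36]), (14, 42, [35,
  24]), (14, 43, [34, 26]), (18, 6, [44, 29]), (18, 24, [46, 29]), (18, 26, [45, 29]), (18, 31,
  [43, 29]), (18, 32, [42, 29]), (18, 47, [29]), (19, 5, [44, 32]), (19, 23, [47, 32]), (19, 25,
  [45, 32]), (19, 30, [43, 32]), (19, 32, [41, 32]), (19, 46, [32]), (20, 4, [44, 31]), (20, 21,
  [47, 31]), (20, 22, [46, 31]), (20, 30, [42, 31]), (20, 31, [41, 31]), (20, 45, [31]), (27, 2,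
  [44, 26]), (27, 16, [47, 26]), (27, 17, [46, 26]), (27, 25, [42, 26]), (27, 26, [41, 26]), (27,
  43, [26]), (28, 1, [44, 24]), (28, 15, [47, 24]), (28, 17, [45, 24]), (28, 22, [43, 24]), (28,
  24, [41, 24]), (28, 42, [24]), (29, 0, [44]), (29, 15, [46]), (29, 16, [45]), (29, 21, [43]),
  (29, 23, [42]), (29, 41, []), (33, 4, [43, 40, 26]), (33, 5, [42, 40, 24]), (33, 6, [41, 40]),
  (33, 30, [36, 29]), (33, 31, [35, 32]), (33, 32, [34, 31]), (34, 2, [40, 33, 26]), (34, 5, [42,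
  39, 24]), (34, 6, [41, 39]), (34, 25, [38, 29]), (34, 26, [37, 32]), (34, 32, [33, 26]), (35, 1,
  [40, 33, 24]), (35, 4, [47, 33, 24]), (35, 6, [41, 38]), (35, 22, [39, 29]), (35, 24, [37, 31]),
  (35, 31, [33, 24]), (36, 0, [40, 33]), (36, 4, [46, 33]), (36, 5, [45, 33]), (36, 21, [39, 32]),
  (36, 23, [38, 31]), (36, 30, [33]), (37, 1, [39, 34, 24]), (37, 2, [47, 34, 24]), (37, 6, [41,
  36]), (37, 17, [40, 29]), (37, 24, [35, 26]), (37, 26, [34, 24]), (38, 0, [39, 34]), (38, 2,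
  [46, 34]), (38, 5, [43, 34]), (38, 16, [40, 32]), (38, 23, [36, 26]), (38, 25, [34]), (39, 0,
  [38, 35]), (39, 1, [45, 35]), (39, 4, [42, 35]), (39, 15, [40, 31]), (39, 21, [36, 24]), (39,
  22, [35]), (40, 0, [44, 36]), (40, 1, [43, 37]), (40, 2, [42, 37]), (40, 15, [39, 26]), (40, 16,
  [38, 24]), (40, 17, [37]), (44, 0, [47, 29]), (44, 1, [46, 32]), (44, 2, [45, 31]), (44, 4, [43,
  26]), (44, 5, [42, 24]), (44, 6, [41])]

theorem tab_spec : ∀ p ∈ tab, Wd p.2.2 ∧ act p.2.2 29 = p.1 ∧ act p.2.2 41 = p.2.1 := by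
  decide +kernel

theorem tab_all : ∀ s < 48, ∀ l < 48, sh s = true → sh l = false → ip s l < 0 →
    ∃ p ∈ tab, p.1 = s ∧ p.2.1 = l := by decide +kernel

theorem ip_ss : ∀ r < 48, ∀ s < 48, sh r = true → sh s = true →
    (0 ≤ ip r s → r = s ∨ ip r s = 2 ∨ ip r s = 0) ∧ (ip r s < 0 → s ≠ 47 - r → ip r s = -2) := by
  decide +kernel

theorem ip_sl : ∀ r < 48, ∀ s < 48, sh r = true → sh s = false → 0 ≤ ip r s →
    ip r s = 4 ∨ ip r s = 0 := by decide +kernel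

theorem ad_rho : ∀ r < 48, ∀ s < 48, sh r = false → sh s = false → ip r s < 0 → s ≠ 47 - r →
    ip (rhoF4 r) (rhoF4 s) = -2 ∧ ad (rhoF4 r) (rhoF4 s) = rhoF4 (ad r s) := by decide +kernel

variable {F : Type} [Field F] [Finite F] [CharP F 2] {G : Type u} [Group G] {R R' : Type}
  [CommRing R] [CommRing R'] {e : XF F →* G} {t : G} {ι : F →+* R} {σ : RingAut R} {η : R}
  {ι' : F →+* R'} {σ' : RingAut R'} {η' : R'} {φ : RingAut F} {y : ℕ → R → G} {z : ℕ → R' → G}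

variable (e t ι σ η ι' σ' η' φ y z) in
/-- The short family `y` and the long family `z`. -/
structure YZ : Prop where
  rg : Rg ι σ η
  rg' : Rg ι' σ' η'
  ya : ∀ r, S r → ∀ a b, y r a * y r b = y r (a + b)
  za : ∀ r, L r → ∀ a b, z r a * z r b = z r (a + b)
  yi : ∀ r, S r → ∀ a, y r a = 1 → a = 0
  zi : ∀ r, L r → ∀ a, z r a = 1 → a = 0
  yx : ∀ r, S r → ∀ c, y r (ι c) = e (x F r c)
  zx : ∀ r, L r → ∀ c, z r (ι' c) = e (x F r (φ c))
  yt : ∀ r, S r → ∀ a, t * y r a * t⁻¹ = y r (σ a)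
  zt : ∀ r, L r → ∀ a, t * z r a * t⁻¹ = z r (σ' a)
  yy : ∀ r s, S r → S s → 0 ≤ ip r s → ∀ a b, Commute (y r a) (y s b)
  zz : ∀ r s, L r → L s → 0 ≤ ip r s → ∀ a b, Commute (z r a) (z s b)
  yz : ∀ r s, S r → L s → 0 ≤ ip r s → ∀ a b, Commute (y r a) (z s b)
  y1 : ∀ r s, S r → S s → ip r s = -2 → ∀ a b, cm (y r a) (y s b) = y (ad r s) (a * b)
  z1 : ∀ r s, L r → L s → ip r s < 0 → s ≠ 47 - r → ∀ a b, cm (z r a) (z s b) = z (ad r s) (a * b)
  ny : ∀ r, S r → ∀ s < 48, ∀ a, e (n F s) * y r a * (e (n F s))⁻¹ = y (rf s r) a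
  nz : ∀ r, L r → ∀ s < 48, ∀ a, e (n F s) * z r a * (e (n F s))⁻¹ = z (rf s r) a

theorem sy_yy {θ : MulAut G} (h : SY e θ false ι σ η y) {r s : ℕ} (hr : S r) (hs : S s)
    (k : 0 ≤ ip r s) (a b : R) : Commute (y r a) (y s b) := by
  rcases (ip_ss r hr.1 s hs.1 hr.2 hs.2).1 k with rfl | k | k
  · rw [Commute, SemiconjBy, h.add r hr, h.add r hr, add_comm]
  · exact h.c60 r s hr hs k a b
  · obtain ⟨c, hc⟩ := H26.TG.Rg.tr h.rg (a * σ b)
    have := h.c90 r s hr hs k a b c (by rw [hc, map_mul, h.rg.ss])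
    rw [if_neg (by simp), x_zero ((ad_lt r hr.1 s hs.1).2.1 ⟨hr.2, hs.2, k⟩).1, map_one] at this
    exact H67.SA.cm_eq_one.1 this

theorem yz_of {e' : XF F →* G} {y' : ℕ → R' → G} (m : Mir e e')
    (h : SY e (MulAut.conj t) false ι σ η y) (h' : SY e' (MulAut.conj t) false ι' σ' η' y')
    (c4 : Cr y y' 4) (c0 : Cr y y' 0) :
    ∃ φ, YZ e t ι σ η ι' σ' η' φ y fun l => y' (rhoF4 l) := by
  obtain ⟨φ, ψ, -, h1, -, h3⟩ := m.ex
  have sr : ∀ {l}, L l → S (rhoF4 l) := fun {l} hl =>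
    ⟨(rho_lt l hl.1).1, by rw [(rho_lt l hl.1).2.2.1, hl.2]; rfl⟩
  exact ⟨φ,
  { rg := h.rg, rg' := h'.rg, ya := h.add, za := fun r hr => h'.add _ (sr hr), yi := h.inj
    zi := fun r hr => h'.inj _ (sr hr)
    yx := h.yx
    zx := fun r hr c => by rw [h'.yx _ (sr hr), h1 _ (sr hr), (rho_lt r hr.1).2.1]
    yt := h.ty
    zt := fun r hr => h'.ty _ (sr hr)
    yy := fun r s hr hs k => sy_yy h hr hs k
    zz := fun r s hr hs k => sy_yy h' (sr hr) (sr hs) ((ip_rho r hr.1 s hs.1).1.2 k)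
    yz := fun r s hr hs k => (ip_sl r hr.1 s hs.1 hr.2 hs.2 k).elim (c4 r s hr hs) (c0 r s hr hs)
    y1 := fun r s hr hs k a b => by simpa using h.c120 r s hr hs k a b
    z1 := fun r s hr hs k k' a b => by
      obtain ⟨k1, k2⟩ := ad_rho r hr.1 s hs.1 hr.2 hs.2 k k'
      simpa [k2] using h'.c120 _ _ (sr hr) (sr hs) k1 a b
    ny := fun r hr s hs a => by simpa using h.nw r hr s hs a
    nz := fun r hr s hs a => by
      have := h'.nw _ (sr hr) _ (rho_lt s hs).1 a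
      rw [h3 _ (rho_lt s hs).1, (rho_lt s hs).2.1, (ip_rho s hs r hr.1).2.2] at this
      simpa using this }⟩

theorem sq_zero (h : Rg ι σ η) {u : R} (k : u * u = 0) : u = 0 := by
  have A : ∀ c, ι c * ι c = 0 → ι c = 0 := fun c k => by
    rw [← map_mul, map_eq_zero_iff ι h.inj, mul_self_eq_zero] at k
    rw [k, map_zero]
  obtain ⟨c, hc⟩ := H26.TG.Rg.tr h u
  have k1 : σ u * σ u = 0 := by rw [← map_mul, k, map_zero]
  have k2 := A c (by rw [hc]; linear_combination k + k1 + H26.TG.Rg.two h (u * σ u))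
  obtain ⟨d, rfl⟩ := (h.fix u).1 (by linear_combination k2 - hc - H26.TG.Rg.two h u)
  exact A d k

namespace YZ

variable (h : YZ e t ι σ η ι' σ' η' φ y z) {r s l : ℕ}
include h

theorem y0 (hr : S r) : y r 0 = 1 := by
  have := h.ya r hr 0 0
  rwa [add_zero, mul_eq_left] at this
theorem z0 (hr : L r) : z r 0 = 1 := by
  have := h.za r hr 0 0
  rwa [add_zero, mul_eq_left] at this
theorem ysq (hr : S r) (a : R) : y r a * y r a = 1 := by
  rw [h.ya r hr, H26.TG.Rg.two h.rg, h.y0 hr]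
theorem zsq (hr : L r) (a : R') : z r a * z r a = 1 := by
  rw [h.za r hr, H26.TG.Rg.two h.rg', h.z0 hr]
theorem xz (hr : L r) (c : F) : e (x F r c) = z r (ι' (φ.symm c)) := by
  rw [h.zx r hr, RingEquiv.apply_symm_apply]

theorem yX (hr : S r) (hs : s < 48) (k : 0 ≤ ip r s) (a : R) (c : F) :
    Commute (y r a) (e (x F s c)) := by
  cases q : sh s
  · rw [h.xz ⟨hs, q⟩]; exact h.yz r s hr ⟨hs, q⟩ k _ _
  · rw [← h.yx s ⟨hs, q⟩]; exact h.yy r s hr ⟨hs, q⟩ k _ _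

theorem zX (hr : L r) (hs : s < 48) (k : 0 ≤ ip r s) (a : R') (c : F) :
    Commute (z r a) (e (x F s c)) := by
  cases q : sh s
  · rw [h.xz ⟨hs, q⟩]; exact h.zz r s hr ⟨hs, q⟩ k _ _
  · rw [← h.yx s ⟨hs, q⟩]; exact (h.yz s r ⟨hs, q⟩ hr (ip_comm r s ▸ k) _ _).symm

/-- For numerals. -/
theorem YY (r s : ℕ) (a b : R) (k : S r ∧ S s ∧ 0 ≤ ip r s := by decide) :
    Commute (y r a) (y s b) := h.yy r s k.1 k.2.1 k.2.2 a b
theorem ZZ (r s : ℕ) (a b : R') (k : L r ∧ L s ∧ 0 ≤ ip r s := by decide) :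
    Commute (z r a) (z s b) := h.zz r s k.1 k.2.1 k.2.2 a b
theorem YL (r s : ℕ) (a : R) (b : R') (k : S r ∧ L s ∧ 0 ≤ ip r s := by decide) :
    Commute (y r a) (z s b) := h.yz r s k.1 k.2.1 k.2.2 a b
theorem Y1 (r s v : ℕ) (a b : R) (k : S r ∧ S s ∧ ip r s = -2 ∧ ad r s = v := by decide) :
    cm (y r a) (y s b) = y v (a * b) := k.2.2.2 ▸ h.y1 r s k.1 k.2.1 k.2.2.1 a b
theorem Z1 (r s v : ℕ) (a b : R')
    (k : L r ∧ L s ∧ ip r s < 0 ∧ s ≠ 47 - r ∧ ad r s = v := by decide) :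
    cm (z r a) (z s b) = z v (a * b) := k.2.2.2.2 ▸ h.z1 r s k.1 k.2.1 k.2.2.1 k.2.2.2.1 a b

theorem uni0 {a : R} {b : R'} (k : y 44 a * z 47 b = 1) : a = 0 ∧ b = 0 := by
  have k1 : z 47 b = (y 44 a)⁻¹ := eq_inv_of_mul_eq_one_right k
  have := h.Z1 47 23 46 b 1
  rw [k1, cm_one (h.YL 44 23 a 1).inv_left, mul_one] at this
  obtain rfl := h.zi 46 (by decide) b this.symm
  rw [h.z0 (by decide), mul_one] at k
  exact ⟨h.yi 44 (by decide) a k, rfl⟩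

theorem mM (a a' : R) (b b' : R') :
    y 44 a * z 47 b * (y 44 a' * z 47 b') = y 44 (a + a') * z 47 (b + b') := by
  rw [(h.YL 44 47 a' b).symm.mul_mul_mul_comm, h.ya 44 (by decide), h.za 47 (by decide)]

theorem sqM (a : R) (b : R') : y 44 a * z 47 b * (y 44 a * z 47 b) = 1 := by
  rw [h.mM, H26.TG.Rg.two h.rg, H26.TG.Rg.two h.rg', h.y0 (by decide), h.z0 (by decide), mul_one]

theorem uni {a a' : R} {b b' : R'} (k : y 44 a * z 47 b = y 44 a' * z 47 b') : a = a' ∧ b = b' := by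
  obtain ⟨h1, h2⟩ := h.uni0 (a := a + a') (b := b + b') (by rw [← h.mM, k, h.sqM])
  exact ⟨by linear_combination h1 - H26.TG.Rg.two h.rg a',
    by linear_combination h2 - H26.TG.Rg.two h.rg' b'⟩

theorem tM (a : R) (b : R') : t * (y 44 a * z 47 b) * t⁻¹ = y 44 (σ a) * z 47 (σ' b) := by
  rw [← conj_mul, h.yt 44 (by decide), h.zt 47 (by decide)]

theorem cM (a : R) (b : R') (a' : R) (b' : R') :
    Commute (y 29 a') (y 44 a * z 47 b) ∧ Commute (z 41 b') (y 44 a * z 47 b) :=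
  ⟨(h.YY 29 44 _ _).mul_right (h.YL 29 47 _ _), (h.YL 44 41 _ _).symm.mul_right (h.ZZ 41 47 _ _)⟩

theorem k_comm (a : R) (b : R') : ∀ r ∈ [24, 26, 31, 32, 33, 34, 35, 36, 37, 38, 39, 40, 42, 43, 44,
    45, 46, 47], ∀ c, Commute (cm (y 29 a) (z 41 b)) (e (x F r c)) := by
  have A : ∀ r, r < 48 ∧ 0 ≤ ip 29 r ∧ 0 ≤ ip 41 r → ∀ c,
      Commute (cm (y 29 a) (z 41 b)) (e (x F r c)) := fun r k c =>
    (comm_cm (h.yX (by decide) k.1 k.2.1 a c).symm (h.zX (by decide) k.1 k.2.2 b c).symm).symm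
  have B : ∀ r, L r ∧ 0 ≤ ip 29 r ∧ ip r 41 < 0 ∧ 41 ≠ 47 - r ∧ L (ad r 41) ∧ 0 ≤ ip 29 (ad r 41) ∧
      0 ≤ ip (ad r 41) 41 → ∀ c, Commute (cm (y 29 a) (z 41 b)) (e (x F r c)) :=
    fun r ⟨k1, k2, k3, k4, k5, k6, k7⟩ c => by
      rw [h.xz k1]
      exact fix_l (h.yz 29 r (by decide) k1 k2 _ _).symm (h.z1 r 41 k1 (by decide) k3 k4 _ _)
        (h.yz 29 _ (by decide) k5 k6 _ _).symm (h.zz _ 41 k5 (by decide) k7 _ _)
  have C : ∀ r, S r ∧ 0 ≤ ip r 41 ∧ ip r 29 = -2 ∧ S (ad r 29) ∧ 0 ≤ ip (ad r 29) 29 ∧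
      0 ≤ ip (ad r 29) 41 → ∀ c, Commute (cm (y 29 a) (z 41 b)) (e (x F r c)) :=
    fun r ⟨k1, k2, k3, k4, k5, k6⟩ c => by
      rw [← h.yx r k1]
      exact fix_r (h.yz r 41 k1 (by decide) k2 _ _) (h.y1 r 29 k1 (by decide) k3 _ _)
        (h.yy _ 29 k4 (by decide) k5 _ _) (h.yz _ 41 k4 (by decide) k6 _ _)
  intro r hr
  simp only [List.mem_cons, List.not_mem_nil, or_false] at hr
  rcases hr with rfl | rfl | rfl | rfl | rfl | rfl | rfl | rfl | rfl | rfl | rfl | rfl | rfl | rfl |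
    rfl | rfl | rfl | rfl
  all_goals first | exact A _ (by decide) | exact B _ (by decide) | exact C _ (by decide)

theorem xx (c d : F) : cm (y 29 (ι c)) (z 41 (ι' d)) =
    y 44 (ι (c * φ d)) * z 47 (ι' (φ.symm (c ^ 2 * φ d))) := by
  rw [h.yx 29 (by decide), h.zx 41 (by decide), h.yx 44 (by decide), ← h.xz (by decide), ← map_cm,
    c2' 29 41 44 47, map_mul]

theorem US_M {ζ : XF F} (k : ζ ∈ US F [44, 47]) : ∃ a b, e ζ = y 44 a * z 47 b := by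
  let K : Subgroup (XF F) :=
    { carrier := {ζ | ∃ a b, e ζ = y 44 a * z 47 b}
      one_mem' := ⟨0, 0, by rw [h.y0 (by decide), h.z0 (by decide), map_one, mul_one]⟩
      mul_mem' := fun ⟨a, b, k⟩ ⟨a', b', k'⟩ => ⟨_, _, by rw [map_mul, k, k', h.mM]⟩
      inv_mem' := fun ⟨a, b, k⟩ => ⟨a, b, by
        rw [map_inv, k, inv_eq_of_mul_eq_one_right (h.sqM a b)]⟩ }
  refine US_le (K := K) (fun r hr _ c => ?_) k
  simp only [List.mem_cons, List.not_mem_nil, or_false] at hr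
  rcases hr with rfl | rfl
  · exact ⟨ι c, 0, by rw [h.z0 (by decide), mul_one, h.yx 44 (by decide)]⟩
  · exact ⟨0, _, by rw [h.y0 (by decide), one_mul, h.xz (by decide)]⟩

variable [Finite G] (H : CH e t) (fc : FC F)
include H

theorem t_ne (a : R) (b : R') : t ≠ y 44 a * z 47 b := fun k => by
  have k1 := h.tM a b
  rw [← k, mul_inv_cancel_right, k] at k1
  obtain ⟨h1, h2⟩ := h.uni k1
  obtain ⟨c, rfl⟩ := (h.rg.fix a).1 h1.symm
  obtain ⟨d, rfl⟩ := (h.rg'.fix b).1 h2.symm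
  rw [h.yx 44 (by decide), h.zx 47 (by decide), ← map_mul] at k
  have := (ns (F := F)).eq_one (a := x F 44 c * x F 47 (φ d)) fun u => H.inj (by
    rw [map_mul e _ u, map_mul e u, ← k, H.toB1.comm])
  rw [this, map_one] at k
  exact H.inv.2 k

theorem ty (hr : S r) (a : R) : y r a * t * (y r a)⁻¹ = t * y r (a + σ a) := by
  rw [add_comm, ← h.ya r hr, ← h.yt r hr, inv_eq_of_mul_eq_one_right (h.ysq hr a), H.toB1.inv_eq,
    ← mul_assoc, ← mul_assoc, ← mul_assoc, H.inv.1, one_mul]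

theorem tz (hr : L r) (a : R') : z r a * t * (z r a)⁻¹ = t * z r (a + σ' a) := by
  rw [add_comm, ← h.za r hr, ← h.zt r hr, inv_eq_of_mul_eq_one_right (h.zsq hr a), H.toB1.inv_eq,
    ← mul_assoc, ← mul_assoc, ← mul_assoc, H.inv.1, one_mul]

theorem not_t (a : R) (b : R') (f : R) (g : R') : cm (y 29 a) (z 41 b) ≠ y 44 f * z 47 g * t := by
  intro k
  have ia := inv_eq_of_mul_eq_one_right (h.ysq (r := 29) (by decide) a)
  have ib := inv_eq_of_mul_eq_one_right (h.zsq (r := 41) (by decide) b)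
  have k1 := excl k (a := y 29 a) (by
    rw [cm_inv, cm, cm, ia, ib, ← mul_assoc, ← mul_assoc, ← mul_assoc, h.ysq (by decide), one_mul])
    (h.cM f g a b).1 (h.sqM f g) H.inv.1
  have k2 := excl k (a := z 41 b) (by
    rw [cm_inv, cm, cm, ia, ib, ← mul_assoc, ← mul_assoc, ← mul_assoc, mul_assoc _ (z 41 b) (z 41 b),
      h.zsq (by decide), mul_one]) (h.cM f g a b).2 (h.sqM f g) H.inv.1
  rw [h.tM, h.mM] at k1 k2
  rw [h.ty H (by decide), mul_right_inj] at k1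
  rw [h.tz H (by decide), mul_right_inj] at k2
  have e1 := h.Y1 29 33 36 (a + σ a) 1
  have e2 := h.Z1 41 24 42 (b + σ' b) 1
  rw [k1, cm_one ((h.YY 44 33 _ _).mul_left (h.YL 33 47 _ _).symm), mul_one] at e1
  rw [k2, cm_one ((h.YL 44 24 _ _).mul_left (h.ZZ 47 24 _ _)), mul_one] at e2
  obtain ⟨c, rfl⟩ := (h.rg.fix a).1 (by
    linear_combination h.yi 36 (by decide) _ e1.symm - H26.TG.Rg.two h.rg a)
  obtain ⟨d, rfl⟩ := (h.rg'.fix b).1 (by
    linear_combination h.zi 42 (by decide) _ e2.symm - H26.TG.Rg.two h.rg' b)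
  rw [h.xx] at k
  have := h.mM f (ι (c * φ d)) g (ι' (φ.symm (c ^ 2 * φ d)))
  rw [k, ← mul_assoc, h.sqM, one_mul] at this
  exact h.t_ne H _ _ this

include fc

theorem key {a : R} {b : R'} {f : R} {g : R'} (k : t * cm (y 29 a) (z 41 b) * t⁻¹ =
    y 44 f * z 47 g * cm (y 29 a) (z 41 b)) : ∃ f g, cm (y 29 a) (z 41 b) = y 44 f * z 47 g := by
  have k1 : t * (t * cm (y 29 a) (z 41 b) * t⁻¹) * t⁻¹ = cm (y 29 a) (z 41 b) := by
    rw [H.toB1.inv_eq, ← mul_assoc, ← mul_assoc, H.inv.1, one_mul, mul_assoc, H.inv.1, mul_one]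
  rw [k, ← conj_mul, h.tM, k, ← mul_assoc, h.mM, mul_eq_right] at k1
  obtain ⟨h1, h2⟩ := h.uni0 k1
  have h3 : σ f = f := by linear_combination h1 - H26.TG.Rg.two h.rg f
  have h4 : σ' g = g := by linear_combination h2 - H26.TG.Rg.two h.rg' g
  have k2 : t * (y 44 (f * η) * z 47 (g * η') * cm (y 29 a) (z 41 b)) * t⁻¹ =
      y 44 (f * η) * z 47 (g * η') * cm (y 29 a) (z 41 b) := by
    rw [← conj_mul, h.tM, k, ← mul_assoc, h.mM, map_mul, map_mul, h3, h4, h.rg.eta, h.rg'.eta]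
    congr 3
    · linear_combination H26.TG.Rg.two h.rg f
    · linear_combination H26.TG.Rg.two h.rg' g
  have A : ∀ r ∈ [24, 26, 31, 32, 33, 34, 35, 36, 37, 38, 39, 40, 42, 43, 44, 45, 46, 47],
      r < 48 ∧ 0 ≤ ip 44 r ∧ 0 ≤ ip 47 r := by decide
  obtain ⟨ζ, hζ, k3⟩ := H.ca fc.c45 (mem_Cz.2 (mul_inv_eq_iff_eq_mul.1 k2)) fun r hr c =>
    (((h.yX (by decide) (A r hr).1 (A r hr).2.1 _ c).mul_left
      (h.zX (by decide) (A r hr).1 (A r hr).2.2 _ c)).mul_left (h.k_comm a b r hr c)).eq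
  obtain ⟨f', g', k4⟩ := h.US_M hζ
  have i := inv_eq_of_mul_eq_one_right (h.sqM (f * η) (g * η'))
  rcases k3 with k3 | k3
  · exact ⟨_, _, by rw [eq_inv_mul_iff_mul_eq.2 k3, i, k4, h.mM]⟩
  · refine (h.not_t H a b (f * η + f') (g * η' + g') ?_).elim
    rw [eq_inv_mul_iff_mul_eq.2 k3, i, H.toB1.comm, k4, ← mul_assoc, h.mM]

omit H fc in
theorem stepL {b : R'} (k : ∀ c, ∃ f g, cm (y 29 (ι c)) (z 41 b) = y 44 f * z 47 g) (a : R) :
    ∃ f g, cm (y 29 (σ a)) (z 41 b) = y 44 f * z 47 g * cm (y 29 a) (z 41 b) := by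
  obtain ⟨c, hc⟩ := H26.TG.Rg.tr h.rg a
  obtain ⟨f, g, k⟩ := k c
  exact ⟨f, g, by
    rw [show σ a = a + ι c by linear_combination -hc - H26.TG.Rg.two h.rg a, ← h.ya 29 (by decide),
      cm_ml, k, cj_of (h.cM f g a b).1]⟩

omit H fc in
theorem stepR {a : R} (k : ∀ c, ∃ f g, cm (y 29 a) (z 41 (ι' c)) = y 44 f * z 47 g) (b : R') :
    ∃ f g, cm (y 29 a) (z 41 (σ' b)) = y 44 f * z 47 g * cm (y 29 a) (z 41 b) := by
  obtain ⟨c, hc⟩ := H26.TG.Rg.tr h.rg' b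
  obtain ⟨f, g, k⟩ := k c
  exact ⟨f, g, by
    rw [show σ' b = b + ι' c by linear_combination -hc - H26.TG.Rg.two h.rg' b, ← h.za 41 (by decide),
      cm_mr, k, cj_of (h.cM f g a b).2, (comm_cm (h.cM f g a b).1.symm (h.cM f g a b).2.symm).eq]⟩

omit H fc in
theorem tK (a : R) (b : R') : t * cm (y 29 a) (z 41 b) * t⁻¹ = cm (y 29 (σ a)) (z 41 (σ' b)) := by
  rw [cj_cm, h.yt 29 (by decide), h.zt 41 (by decide)]

theorem k_mem (a : R) (b : R') : ∃ f g, cm (y 29 a) (z 41 b) = y 44 f * z 47 g := by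
  have s1 : ∀ a d, ∃ f g, cm (y 29 a) (z 41 (ι' d)) = y 44 f * z 47 g := fun a d => by
    obtain ⟨f, g, k⟩ := h.stepL (fun c => ⟨_, _, h.xx c d⟩) a
    exact h.key H fc (by rw [h.tK, H26.TG.Rg.si h.rg', k])
  have s2 : ∀ b c, ∃ f g, cm (y 29 (ι c)) (z 41 b) = y 44 f * z 47 g := fun b c => by
    obtain ⟨f, g, k⟩ := h.stepR (fun d => ⟨_, _, h.xx c d⟩) b
    exact h.key H fc (by rw [h.tK, H26.TG.Rg.si h.rg, k])
  obtain ⟨f, g, k⟩ := h.stepL (s2 (σ' b)) a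
  obtain ⟨f', g', k'⟩ := h.stepR (s1 a) b
  exact h.key H fc (by rw [h.tK, k, k', ← mul_assoc, h.mM])

omit H fc

theorem yw {w : List ℕ} (hw : Wd w) (hr : S r) (a : R) :
    e (nW F w) * y r a * (e (nW F w))⁻¹ = y (act w r) a := by
  induction w with
  | nil => simp
  | cons s w ih =>
    have h1 : Wd w := fun v hv => hw v (List.mem_cons_of_mem _ hv)
    rw [nW_cons, map_mul, act_cons, ← h.ny _ ⟨(act_lt h1 hr.1).1, (act_lt h1 hr.1).2.trans hr.2⟩ s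
      (hw s List.mem_cons_self), ← ih h1]
    group

theorem zw {w : List ℕ} (hw : Wd w) (hr : L r) (a : R') :
    e (nW F w) * z r a * (e (nW F w))⁻¹ = z (act w r) a := by
  induction w with
  | nil => simp
  | cons s w ih =>
    have h1 : Wd w := fun v hv => hw v (List.mem_cons_of_mem _ hv)
    rw [nW_cons, map_mul, act_cons, ← h.nz _ ⟨(act_lt h1 hr.1).1, (act_lt h1 hr.1).2.trans hr.2⟩ s
      (hw s List.mem_cons_self), ← ih h1]
    group

variable {f : R → R' → R} {g : R → R' → R'}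
  (K : ∀ a b, cm (y 29 a) (z 41 b) = y 44 (f a b) * z 47 (g a b))
include K

theorem c2 (hs : S s) (hl : L l) (k : ip s l < 0) (a : R) (b : R') :
    cm (y s a) (z l b) = y (ad s l) (f a b) * z (ad s (ad s l)) (g a b) := by
  obtain ⟨p, hp, rfl, rfl⟩ := tab_all s hs.1 l hl.1 hs.2 hl.2 k
  obtain ⟨hw, h1, h2⟩ := tab_spec p hp
  have e1 : ad 29 41 = 44 := by decide
  have e2 : ad 29 44 = 47 := by decide
  rw [← h1, ← h2, ad_act hw (by decide) (by decide) (by decide), e1,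
    ad_act hw (by decide) (by decide) (by decide), e2, ← h.yw hw (by decide), ← h.zw hw (by decide),
    ← h.yw hw (by decide), ← h.zw hw (by decide), ← cj_cm, K, conj_mul]

theorem C2 (s l v w : ℕ) (a : R) (b : R') (k : S s ∧ L l ∧ ip s l < 0 ∧ ad s l = v ∧ ad s v = w := by
    decide) : cm (y s a) (z l b) = y v (f a b) * z w (g a b) := by
  obtain ⟨h1, h2, h3, rfl, rfl⟩ := k
  exact h.c2 K h1 h2 h3 a b

theorem C2' (s l v w : ℕ) (a : R) (b : R') (k : (S s ∧ L l ∧ ip s l < 0 ∧ ad s l = v ∧ ad s v = w) ∧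
    S v ∧ L w ∧ 0 ≤ ip v w := by decide) : cm (z l b) (y s a) = y v (f a b) * z w (g a b) := by
  rw [← cm_inv, h.C2 K s l v w a b k.1, mul_inv_rev, inv_eq_of_mul_eq_one_right (h.ysq k.2.1 _),
    inv_eq_of_mul_eq_one_right (h.zsq k.2.2.1 _), (h.YL v w _ _ k.2).eq]

theorem idY (a a₀ : R) (b : R') :
    f a₀ (g a b) = f a b * (a * a₀) ∧ f (a * a₀) b = f a b * a₀ := by
  have k := hex (h.Y1 14 36 29 a a₀) (cj_eq (h.C2' K 14 41 37 30 a b)) (h.YL 36 41 _ _).symm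
    (cj_eq (h.C2' K 29 41 44 47 _ b)) (h.YL 29 30 _ _).symm (h.C2' K 36 30 40 47 _ _)
    (h.Y1 37 29 40 _ _) ((h.YY 37 40 _ _).mul_right (h.YL 37 47 _ _)) (h.Y1 37 36 44 _ _)
    (((h.YY 29 40 _ _).mul_right (h.YL 29 47 _ _)).mul_right (h.YY 29 44 _ _))
  rw [mul_assoc (y 40 _), (h.YL 44 47 _ _).symm.eq, ← mul_assoc (y 40 _), h.ya 40 (by decide),
    ← mul_inv_eq_iff_eq_mul, inv_eq_of_mul_eq_one_right (h.sqM _ _), h.mM] at k
  have e1 := h.Y1 40 33 44 (f a b * (a * a₀) + f a₀ (g a b)) 1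
  rw [← k, cm_one ((h.YY 44 33 _ _).mul_left (h.YL 33 47 _ _).symm), mul_one] at e1
  have e2 := h.yi 44 (by decide) _ e1.symm
  rw [e2, h.y0 (by decide)] at k
  exact ⟨by linear_combination e2 - H26.TG.Rg.two h.rg (f a b * (a * a₀)),
    by linear_combination (h.uni0 k).1 - H26.TG.Rg.two h.rg (f a b * a₀)⟩

theorem idZ (a : R) (b b₀ : R') : g (f a b) b₀ = g a b * (b * b₀) ∧ g a (b * b₀) = g a b * b₀ ∧
    f a (b * b₀) = f (f a b) b₀ := by
  have k := hex (h.Z1 23 42 41 b b₀)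
    ((cj_eq (h.C2 K 29 23 28 32 a b)).trans (by rw [(h.YL 28 32 _ _).eq])) (h.YL 29 42 _ _)
    (cj_eq (K _ _)) (h.YL 28 41 _ _) (h.C2 K 28 42 44 46 _ _)
    (h.Z1 32 41 46 _ _) ((h.YL 44 32 _ _).symm.mul_right (h.ZZ 32 46 _ _)) (h.Z1 32 42 47 _ _)
    (((h.YL 44 41 _ _).symm.mul_right (h.ZZ 41 46 _ _)).mul_right (h.ZZ 41 47 _ _))
  rw [(h.YL 44 46 _ _).eq, mul_assoc (z 46 _), ← mul_assoc (z 46 _), h.za 46 (by decide),
    ← mul_inv_eq_iff_eq_mul, inv_eq_of_mul_eq_one_right (h.sqM _ _), h.mM] at k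
  have e1 := h.Z1 46 24 47 (g a b * (b * b₀) + g (f a b) b₀) 1
  rw [← k, cm_one ((h.YL 44 24 _ _).mul_left (h.ZZ 47 24 _ _)), mul_one] at e1
  have e2 := h.zi 47 (by decide) _ e1.symm
  rw [e2, h.z0 (by decide)] at k
  exact ⟨by linear_combination e2 - H26.TG.Rg.two h.rg' (g a b * (b * b₀)),
    by linear_combination (h.uni0 k).2 - H26.TG.Rg.two h.rg' (g a b * b₀),
    by linear_combination (h.uni0 k).1 - H26.TG.Rg.two h.rg (f (f a b) b₀)⟩

theorem fx (c d : F) : f (ι c) (ι' d) = ι (c * φ d) ∧ g (ι c) (ι' d) = ι' (φ.symm (c ^ 2 * φ d)) :=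
  h.uni ((K _ _).symm.trans (h.xx c d))

theorem ex_psi : ∃ Ψ : R' ≃+* R, (∀ a b, f a b = a * Ψ b) ∧ (∀ a b, Ψ (g a b) = a ^ 2 * Ψ b) ∧
    (∀ c, Ψ (ι' c) = ι (φ c)) ∧ ∀ b, Ψ (σ' b) = σ (Ψ b) := by
  have f1 : ∀ a b, f a b = a * f 1 b := fun a b => by
    rw [mul_comm, ← (h.idY K 1 a b).2, one_mul]
  have f2 : ∀ c, f 1 (ι' c) = ι (φ c) := fun c => by simpa using (h.fx K 1 c).1
  have g1 : g 1 1 = 1 := by simpa using (h.fx K 1 1).2
  have fa : ∀ b b', f 1 (b + b') = f 1 b + f 1 b' := fun b b' => (h.uni (by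
    rw [← K, ← h.za 41 (by decide), cm_mr, K, K, cj_of (h.cM _ _ 1 b).2, h.mM])).1
  let Ψ : R' →+* R :=
    { toFun := f 1
      map_one' := by simpa using f2 1
      map_mul' := fun b b' => by rw [(h.idZ K 1 b b').2.2, f1]
      map_zero' := by simpa using f2 0
      map_add' := fa }
  have inj : Function.Injective Ψ := (injective_iff_map_eq_zero Ψ).2 fun b (k : f 1 b = 0) => by
    have k1 := (h.idZ K 1 b 1).1
    have k2 := (h.idZ K 1 1 b).2.1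
    have k3 := (h.idZ K 1 0 1).1
    rw [show f 1 0 = 0 from Ψ.map_zero, zero_mul, mul_zero] at k3
    rw [one_mul, g1, one_mul] at k2
    rw [k, k2, k3, mul_one] at k1
    exact sq_zero h.rg' k1.symm
  have : Finite R := Nat.finite_of_card_ne_zero (by
    rw [h.rg.card]; exact pow_ne_zero _ Nat.card_pos.ne')
  refine ⟨RingEquiv.ofBijective Ψ ((Nat.bijective_iff_injective_and_card Ψ).2
    ⟨inj, h.rg'.card.trans h.rg.card.symm⟩), f1, fun a b => ?_, f2, fun b => ?_⟩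
  · change f 1 (g a b) = a ^ 2 * f 1 b
    rw [(h.idY K a 1 b).1, f1]; ring
  · have := h.tK 1 b
    rw [map_one, K, K, h.tM] at this
    exact (h.uni this).1.symm

omit K in
theorem fy (H : CH e t) (fc : FC F) : ∃ Z, FY e (MulAut.conj t) ι σ η Z := by
  choose f g K using h.k_mem H fc
  obtain ⟨Ψ, h1, h2, h3, h4⟩ := h.ex_psi K
  refine ⟨fun r a => if sh r then y r a else z r (Ψ.symm a), h.rg, fun r hr a b => ?_,
    fun r hr c => ?_, fun r hr a => ?_, fun r hr s hs k a b => ?_, fun r hr s hs k k' k'' a b => ?_,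
    fun r l hr hl k a b => ?_⟩
  · cases q : sh r
    · simp [h.za r ⟨hr, q⟩]
    · simp [h.ya r ⟨hr, q⟩]
  · cases q : sh r
    · rw [if_neg (by simp), h.xz ⟨hr, q⟩, Ψ.symm_apply_eq.2 (by rw [h3, φ.apply_symm_apply])]
    · simp [h.yx r ⟨hr, q⟩]
  · cases q : sh r
    · rw [if_neg (by simp), if_neg (by simp), MulAut.conj_apply, h.zt r ⟨hr, q⟩,
        (Ψ.symm_apply_eq (x := σ a)).2 (by rw [h4, Ψ.apply_symm_apply])]
    · simp [h.yt r ⟨hr, q⟩]
  · cases q : sh r <;> cases q' : sh s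
    · exact h.zz r s ⟨hr, q⟩ ⟨hs, q'⟩ k _ _
    · exact (h.yz s r ⟨hs, q'⟩ ⟨hr, q⟩ (ip_comm r s ▸ k) _ _).symm
    · exact h.yz r s ⟨hr, q⟩ ⟨hs, q'⟩ k _ _
    · exact h.yy r s ⟨hr, q⟩ ⟨hs, q'⟩ k _ _
  · rw [((ad_lt r hr s hs).1 ⟨k, k', k''⟩).2.2.1, ← k]
    cases q : sh r
    · simpa using h.z1 r s ⟨hr, q⟩ ⟨hs, k ▸ q⟩ k' k'' _ _
    · exact h.y1 r s ⟨hr, q⟩ ⟨hs, k ▸ q⟩ ((ip_ss r hr s hs q (k ▸ q)).2 k' k'') a b
  · obtain ⟨-, -, k1, k2, -⟩ := ad_lt2 r hr.1 l hl.1 hr.2 hl.2 k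
    simp only [hr.2, hl.2, k1, k2, if_true, Bool.false_eq_true, if_false]
    rw [h.c2 K hr hl k, h1, Ψ.apply_symm_apply,
      (Ψ.symm_apply_eq (x := a ^ 2 * b)).2 (by rw [h2, Ψ.apply_symm_apply])]

end YZ

theorem jobFY (hFC : JobFC) : JobFY.{u} := by
  rintro F _ _ _ G _ _ e t R _ ι σ η y e' R' _ ι' σ' η' y' k k' H m h h' rfl rfl c4 c0
  obtain ⟨φ, Y⟩ := yz_of m h h' c4 c0
  exact Y.fy H (hFC F)

end H26.SF
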