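import Cfsg.Agent.H46.SFRT
import Cfsg.Agent.H26.SFFY

/-! STD-F4: recognition of `F₄(K)` or of the wreath product (slot RF). -/

set_option autoImplicit false
set_option linter.unusedSectionVars false
set_option synthInstance.maxSize 2000

namespace H26.SF

open H64.SF Subgroup H63 Cfsg.Lie
open H64.SG (Cz Cs Ns mem_Cz mem_Cs Cov)
open H67.SA (cm)
open H59.SO (B1 CW cje)
open H86.WR (XF)
open H46.SF (sh)
open H63.TG (Rg)

universe u

theorem rf_tab : ∀ r < 48, ∃ u < 48, ∃ v < 48, sh u = sh v ∧ ip u v < 0 ∧ v ≠ 47 - u ∧ ad u v = r ∧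
    47 - r ≠ 47 - u ∧ 47 - r ≠ 47 - v := by decide +kernel

variable {F : Type} [Field F] [Finite F] [CharP F 2] {G : Type u} [Group G] {R : Type}
  {e : XF F →* G} {t : G}

theorem inj_of_ne {Φ : XF F →* G} {a : XF F} (k : Φ a ≠ 1) : Function.Injective Φ :=
  (MonoidHom.ker_eq_bot_iff Φ).1 (((ns (F := F)).normal Φ.ker).resolve_right fun h =>
    k (MonoidHom.mem_ker.1 (h ▸ mem_top a)))

section Ring

variable [CommRing R] {ι : F →+* R} {σ : RingAut R} {η : R} {y : ℕ → R → G} {θ : MulAut G}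

theorem fy_zero (h : FY e θ ι σ η y) {r : ℕ} (hr : r < 48) : y r 0 = 1 := by
  have := h.add r hr 0 0
  rwa [add_zero, mul_eq_left] at this

theorem fy_comm (h : FY e θ ι σ η y) {ε δ : R} (e1 : ε * ε = ε) (e2 : ε * δ = 0) {r s : ℕ}
    (hr : r < 48) (hs : s < 48) (a b : R) : Commute (y r (a * ε)) (y s (b * δ)) := by
  have A : ∀ {ε δ : R}, ε * δ = 0 → ∀ r s, S r → L s → ip r s < 0 → ∀ a b,
      Commute (y r (a * ε)) (y s (b * δ)) := fun {ε δ} e2 r s hr hs k a b => by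
    obtain ⟨k1, k2, -⟩ := ad_lt2 r hr.1 s hs.1 hr.2 hs.2 k
    refine H67.SA.cm_eq_one.1 ?_
    rw [h.c2 r s hr hs k, show a * ε * (b * δ) = 0 by linear_combination a * b * e2,
      show (a * ε) ^ 2 * (b * δ) = 0 by linear_combination a * a * b * ε * e2, fy_zero h k1,
      fy_zero h k2, mul_one]
  have B : ∀ r < 48, ∀ s < 48, s ≠ 47 - r → ∀ a b, Commute (y r (a * ε)) (y s (b * δ)) := by
    intro r hr s hs k a b
    rcases le_or_gt 0 (ip r s) with k1 | k1
    · exact h.c0 r hr s hs k1 _ _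
    by_cases k2 : sh r = sh s
    · refine H67.SA.cm_eq_one.1 ?_
      rw [h.c1 r hr s hs k2 k1 k, show a * ε * (b * δ) = 0 by linear_combination a * b * e2,
        fy_zero h ((ad_lt r hr s hs).1 ⟨k2, k1, k⟩).1]
    cases q : sh r
    · exact (A (mul_comm ε δ ▸ e2) s r ⟨hs, by simpa [q] using k2⟩ ⟨hr, q⟩ (ip_comm r s ▸ k1) b a).symm
    · exact A e2 r s ⟨hr, q⟩ ⟨hs, by simpa [q] using k2⟩ k1 a b
  by_cases k : s = 47 - r
  swap
  · exact B r hr s hs k a b
  obtain ⟨u, hu, v, hv, k1, k2, k3, k4, k5, k6⟩ := rf_tab r hr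
  rw [← k4, show a * ε = a * ε * (1 * ε) by linear_combination -a * e1, ← h.c1 u hu v hv k1 k2 k3]
  exact (comm_cm (B u hu s hs (k ▸ k5) a b).symm (B v hv s hs (k ▸ k6) 1 b).symm).symm

theorem wreath [Finite G] (hK : JobKit.{u}) (B : B1 e t) (h : FY e (MulAut.conj t) ι σ η y) {ε : R}
    (e1 : σ ε = ε + 1) (e2 : ε * (ε + 1) = 0) : ∃ e₁ e₂, CW e t e₁ e₂ := by
  have two := H26.TG.Rg.two h.rg
  have e3 : ε * ε = ε := by linear_combination e2 - two ε
  have m1 : ∀ a b : F, ι a * ε * (ι b * ε) = ι (a * b) * ε := fun a b => by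
    rw [map_mul]; linear_combination ι a * ι b * e3
  obtain ⟨Φ, hΦ⟩ := (hK F G).1 (fun r c => y r (ι c * ε))
    (fun r hr a b => by rw [h.add r hr, map_add, add_mul]) (fun r hr s hs k a b => h.c0 r hr s hs k _ _)
    (fun r hr s hs k k' k'' a b => by rw [h.c1 r hr s hs k k' k'', m1])
    fun r l hr hl k a b => by rw [h.c2 r l hr hl k, m1, pow_two, m1, m1, pow_two]
  have h2 : ∀ r < 48, ∀ c, cje t Φ (x F r c) = y r (ι c * (ε + 1)) := fun r hr c => by
    rw [H59.SO.cje_apply, hΦ r hr, ← MulAut.conj_apply, h.ty r hr, map_mul, H26.TG.Rg.si h.rg, e1]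
  have cm : ∀ a b, Φ a * cje t Φ b = cje t Φ b * Φ a := fun a b =>
    (mem_Cz.1 (mem_top' (K := (Cz (cje t Φ b)).comap Φ) (fun r hr c => mem_Cz.2 (mem_Cz.1
      (mem_top' (K := (Cz (Φ (x F r c))).comap (cje t Φ)) (fun s hs d => mem_Cz.2 (by
        rw [h2 s hs, hΦ r hr]; exact fy_comm h e3 e2 hr hs _ _)) b)).symm) a)).symm
  have dg : e = MonoidHom.mk' (fun a => Φ a * cje t Φ a) fun a b => by
      rw [map_mul, map_mul, mul_assoc, mul_assoc, ← mul_assoc (Φ b), cm b a, mul_assoc] :=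
    hom_ext fun r hr c => by
      rw [MonoidHom.mk'_apply, h2 r hr, hΦ r hr, h.add r hr, ← h.yx r hr]
      exact congrArg _ (by linear_combination -two (ι c * ε))
  refine ⟨Φ, cje t Φ, inj_of_ne (a := x F 47 1) fun k => ?_, cm, fun a => by rw [dg]; rfl,
    fun a => rfl⟩
  refine one_ne_zero ((x_eq_one (F := F) (r := 47) (by decide)).1 (B.inj ?_))
  rw [map_one, dg, MonoidHom.mk'_apply, H59.SO.cje_apply, k, mul_one, one_mul, mul_inv_cancel]

end Ring

theorem field {K : Type} [Field K] [Fintype K] [CharP K 2] [Finite G] (hK : JobKit.{u}) (B : B1 e t)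
    (X : Qx F K) {η : K} {y : ℕ → K → G} (h : FY e (MulAut.conj t) X.φ X.σ η y) :
    ∃ G₁ c, Bl0 X.ιF X.τF e t G₁ c := by
  obtain ⟨Φ, hΦ⟩ := (hK K G).1 y h.add h.c0 h.c1 h.c2
  have h1 : e = Φ.comp X.ιF := hom_ext fun r hr c => by
    rw [MonoidHom.comp_apply, mapG_xG, hΦ r hr, h.yx r hr]
  have h2 : cje t Φ = Φ.comp X.τF.toMonoidHom := hom_ext fun r hr c => by
    rw [H59.SO.cje_apply, hΦ r hr, ← MulAut.conj_apply, h.ty r hr, ← hΦ r hr]
    exact congrArg Φ (fieldAut_xG X.σ r c).symm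
  have h3 : ∀ a, t * Φ a * t⁻¹ = Φ (X.τF a) := fun a => DFunLike.congr_fun h2 a
  have inj : Function.Injective Φ := inj_of_ne (a := X.ιF (x F 47 1)) fun k =>
    one_ne_zero ((x_eq_one (F := F) (r := 47) (by decide)).1 (B.inj (by rw [map_one, h1]; exact k)))
  let ε := MonoidHom.ofInjective inj
  let π : Φ.range →* XF K := ε.symm.toMonoidHom
  have πs : Function.Surjective π := ε.symm.surjective
  have πi : ∀ l, π l = 1 → l = 1 := fun l k => ε.symm.injective (k.trans (map_one _).symm)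
  have πk : π.ker = center _ := le_antisymm (fun l k => πi l k ▸ one_mem _) fun l k =>
    (ns (F := K)).eq_one fun b => by
      obtain ⟨b, rfl⟩ := πs b
      rw [← map_mul, ← map_mul, mem_center_iff.1 k]
  have ho : ∀ l, π l = 1 → Odd (orderOf l) := fun l k => by simp [πi l k]
  have hp : Φ.range ≤ ⁅Φ.range, Φ.range⁆ := by
    rw [MonoidHom.range_eq_map, ← map_commutator]; exact map_mono (ns (F := K)).perfect
  have pi : ∀ a, (Cov.ofHom π πs πk ho hp).pi (Φ a) = a := fun a =>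
    (Cov.ofHom_pi π πs πk ho hp (ε a)).trans (ε.symm_apply_apply a)
  have tn : t ∈ Ns Φ.range := H98.mem_normalizer_of_cj_le (by
    rintro _ ⟨_, ⟨a, rfl⟩, rfl⟩; exact ⟨_, (h3 a).symm⟩)
  refine ⟨_, Cov.ofHom π πs πk ho hp, by rintro _ ⟨u, rfl⟩; exact ⟨_, by rw [h1]; rfl⟩,
    fun u => by rw [h1]; exact pi _, tn, MulEquiv.ext fun a => ?_, hp⟩
  have := (Cov.ofHom π πs πk ho hp).ac_pi t tn _ ⟨a, rfl⟩
  rw [h3, pi, pi] at this
  exact this.symm

theorem jobRF (hK : JobKit.{u}) : JobRF.{u} := by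
  intro F _ _ _ G _ _ e t R _ ι σ η y B h
  have hR := h.rg
  obtain ⟨w, hw⟩ := H26.TG.Rg.ex_w hR
  by_cases h0 : ∃ c : F, c * c + c = w
  · obtain ⟨c0, h0⟩ := h0
    refine .inl (wreath hK B h (ε := η + ι c0)
      (by rw [map_add, hR.eta, H26.TG.Rg.si hR]; ring) ?_)
    have := congrArg ι h0
    rw [map_add, map_mul, hw] at this
    linear_combination this + H26.TG.Rg.two hR (η * (η + 1)) + H26.TG.Rg.two hR (η * ι c0)
  · let _ := (H26.TG.isField hR hw h0).toField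
    have : Finite R := Nat.finite_of_card_ne_zero (hR.card ▸ pow_ne_zero 2 Nat.card_pos.ne')
    let _ := Fintype.ofFinite R
    have : CharP R 2 := charP_of_injective_ringHom hR.inj 2
    exact .inr ⟨R, inferInstance, inferInstance, inferInstance, H46.SF.Rg_Qx hR,
      field hK B (H46.SF.Rg_Qx hR) h⟩

end H26.SF
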