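import Cfsg.Agent.H63.A8Def
import Cfsg.Agent.H67.SAJA
import Cfsg.Agent.H18.SANQ

/-! A8S (row S3152): `J8JA`. -/

set_option autoImplicit false
set_option linter.unusedSectionVars false
set_option maxHeartbeats 400000

namespace H26.A8JA

open H64.SG (O2 Syl Cz Cs Ns cjs Is2 Inv2 UF IsO2 fx mem_Cs mem_Cz mem_fx)
open Matrix H57 Subgroup H67.SA H63.A8

universe u

variable {n : ℕ} {F : Type} [Field F] [Finite F] [CharP F 2] {G : Type u} [Group G] [Finite G]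
  {e e' : SLn n F →* G} {s : G}

theorem er_ne_ec (hn : 2 ≤ n) : Er n F ≠ Ec n F := fun h => by
  have h1 := card_ZZ (n := n) (F := F) (by omega)
  rw [← Er_inf_Ec, ← h, inf_idem, card_Er] at h1
  have := Nat.pow_lt_pow_right (one_lt_card (F := F)) (show 1 < n by omega)
  rw [pow_one] at this; omega

theorem map_O2_le {A : Subgroup (SLn n F)} {B : Subgroup G} (h : A.map e ≤ B) :
    (O2 A).map e ≤ O2 B := by
  rw [map_le_iff_le_comap]
  exact (closure_le _).2 fun a ha => subset_closure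
    ⟨h ⟨a, ha.1, rfl⟩, ha.2.of_dvd_nat (orderOf_map_dvd _ _)⟩

theorem zz_cases (hp : Par8 n F) {v : SLn n F} (h : v ∈ ZZ n F) : v = 1 ∨ v = x 0 (la n) 1 := by
  obtain ⟨c, rfl⟩ := mem_ZZ.1 h
  rcases hp.fld c with rfl | rfl
  · exact Or.inl (x_zero _ _)
  · exact Or.inr rfl

theorem card_QQ8 (hp : Par8 n F) : Nat.card (QQ n F) = 32 := by
  rw [card_QQ (by have := hp.three; omega), hp.two, hp.three]; norm_num

theorem card_Er8 (hp : Par8 n F) : Nat.card (Er n F) = 8 := by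
  rw [card_Er, hp.two, hp.three]; norm_num

theorem snd_of_odd {A : Type*} [Group A] {a : A × Multiplicative (ZMod 2)} (h : Odd (orderOf a)) :
    a.2 = 1 := by
  obtain ⟨k, hk⟩ := h
  have h1 : a.2 ^ orderOf a = 1 := by rw [← Prod.pow_snd, pow_orderOf_eq_one]; rfl
  rwa [hk, pow_succ, pow_mul, pow_two, z2_mul_self, one_pow, one_mul] at h1

omit [Finite F] [CharP F 2] [Finite G] in
theorem card_comap (i : Function.Injective e) {P : Subgroup G} (h : P ≤ e.range) :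
    Nat.card (P.comap e) = Nat.card P := by
  rw [← Subgroup.card_map_of_injective i, map_comap_eq_self h]

/-- The case `e' z = e z`. -/
theorem key (hp : Par8 n F) (A : FA n F) (P : FP n F) (Q : FQ n F) (i : Function.Injective e)
    (i' : Function.Injective e') (h : B1 e' s) (hz : e' (x 0 (la n) 1) = e (x 0 (la n) 1))
    (u1 : (Cs (ZZ n F)).map e ≤ Cz s) (hQ : (QQ n F).map e ≤ e'.range) :
    (UU n F).map e ≤ oi e' ⊥ := by
  have hn := hp.two_le
  have isQ : IsPGroup 2 (QQ n F) := isP_UU.to_le QQ_le_UU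
  have zc : ∀ {a : SLn n F} {v : SLn n F}, v ∈ Cs (ZZ n F) → e' a = e v → a ∈ Cs (ZZ n F) :=
    fun {a v} hv ha w hw => by
      rcases zz_cases hp hw with rfl | rfl
      · simp
      · apply i'
        rw [map_mul, map_mul, hz, ha, ← map_mul, ← map_mul, hv _ (x_mem_ZZ 1)]
  have zz : ∀ {a : SLn n F} {v : SLn n F}, v ∈ ZZ n F → e' a = e v → a ∈ ZZ n F :=
    fun {a v} hv ha => by
      rcases zz_cases hp hv with rfl | rfl
      · rw [map_one, map_eq_one_iff _ i'] at ha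
        exact ha ▸ one_mem _
      · rw [← hz] at ha
        exact i' ha ▸ x_mem_ZZ 1
  have q1 : ((QQ n F).map e).comap e' = QQ n F := by
    refine Q.qq _ ?_ ((isQ.map e).comap_of_injective _ i') ?_ ?_
    · rintro a ⟨v, hv, ha⟩
      exact zc (UU_le_Cs (QQ_le_UU hv)) ha.symm
    · rw [card_comap i' hQ, Subgroup.card_map_of_injective i, card_QQ8 hp]
    · rintro a ⟨v, hv, ha⟩ b ⟨w, hw, hb⟩
      refine zz (H18.SA.cm_QQ hv hw) ?_
      simp only [map_mul, map_inv, ha, hb]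
  have q2 : (QQ n F).map e' = (QQ n F).map e := by
    conv_lhs => rw [← q1]
    exact map_comap_eq_self hQ
  have st : ∀ p ∈ Cs (ZZ n F), ∃ β, Ind e' (e p) β ∧ (out n F β).1 = 1 ∧
      ((out n F β).2 = 1 ∧ β ∈ St (Er n F) ∨ (out n F β).2 ≠ 1 ∧ Sw β (Er n F) (Ec n F)) := by
    intro p hp'
    obtain ⟨β, hβ⟩ := exists_ind hn h.ker (h.cz (u1 ⟨p, hp', rfl⟩))
    have fz : ∀ z ∈ ZZ n F, β z = z := fun z hz' => by
      rcases zz_cases hp hz' with rfl | rfl
      · exact map_one _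
      · apply i'
        rw [← hβ, hz, ← map_inv, ← map_mul, ← map_mul, ← hp' _ (x_mem_ZZ 1), mul_inv_cancel_right]
    have sz : β ∈ St (ZZ n F) := mem_St_of_finite fun z hz' => by rwa [fz z hz']
    exact ⟨β, hβ, A.fz β fz, (A.nz β sz).2.imp (fun k => ⟨k.1, k.2.1⟩) id⟩
  have r1 : (Er n F).map e' ≤ (QQ n F).map e := q2 ▸ map_mono Er_le_QQ
  set E := ((Er n F).map e').comap e with hE
  have E0 : E.map e = (Er n F).map e' := map_comap_eq_self (r1.trans (map_le_range _ _))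
  have E1 : E ≤ QQ n F := fun v hv => by
    obtain ⟨w, hw, k⟩ := r1 hv
    exact i k ▸ hw
  have E2 : ∀ u ∈ E, u * u = 1 := by
    rintro u ⟨w, hw, k⟩
    apply i
    rw [map_mul, ← k, ← map_mul, sq_Row hw, map_one, map_one]
  have E3' : 8 ≤ Nat.card E := by
    rw [card_comap i (r1.trans (map_le_range _ _)), Subgroup.card_map_of_injective i', card_Er8 hp]
  have E4 : O2 (Cs (ZZ n F)) ≤ Ns E := fun p hp' => by
    have p1 : p ∈ Cs (ZZ n F) := (closure_le _).2 (fun a ha => ha.1) hp'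
    obtain ⟨β, hβ, -, k | k⟩ := st p p1
    · exact le_normalizer_comap e (hβ.mem_Ns_map k.2)
    · exfalso
      have o := hβ.out_of_O2 hn h.ker (map_O2_le (u1.trans h.cz) ⟨p, hp', rfl⟩)
      exact k.1 (snd_of_odd o)
  have E5 : UU n F ≤ Ns E := by
    rcases P.li3 E E1 E2 E3' E4 with k | k | k <;> rw [k]
    · exact UU_le_P00.trans (P00_le_Pr.trans Pr_le_Ns)
    · exact UU_le_P00.trans (P00_le_Pc.trans Pc_le_Ns)
    · exact P.e3n
  rintro _ ⟨u, hu, rfl⟩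
  obtain ⟨β, hβ, k1, k⟩ := st u (UU_le_Cs hu)
  have k2 : β ∈ St (Er n F) := hβ.st h.ker (isQ.to_le Er_le_QQ) (E0 ▸ map_mem_Ns (E5 hu))
  refine ⟨β, hβ, mem_bot.2 (Prod.ext k1 ?_)⟩
  rcases k with k | k
  · exact k.1
  · exfalso
    refine er_ne_ec (F := F) hn (Subgroup.ext fun g => ?_)
    obtain ⟨g, rfl⟩ := β.surjective g
    exact (k2 g).symm.trans (k.2.1 g)

theorem key' (hp : Par8 n F) (A : FA n F) (P : FP n F) (Q : FQ n F) (Y : FY n F)
    (i : Function.Injective e) (h : CE e' s) (ab : AB e' s) (ae : AE e' s)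
    (u1 : (Cs (ZZ n F)).map e ≤ Cz s) : (UU n F).map e ≤ e'.range ⊔ zpowers s := by
  have hn := hp.two_le
  have isQ : IsPGroup 2 (QQ n F) := isP_UU.to_le QQ_le_UU
  have i' : Function.Injective e' := (MonoidHom.ker_eq_bot_iff _).1 (le_bot_iff.1 (Q.cen ▸ h.ker))
  have hQ : (QQ n F).map e ≤ e'.range := by
    rintro _ ⟨v, hv, rfl⟩
    exact ab.ol _ (map_O2_le u1 ⟨v, Q.oq hv, rfl⟩) ((is2_of_UU (QQ_le_UU hv)).map e)
  obtain ⟨y, hy⟩ := hQ ⟨_, ZZ_le_QQ (x_mem_ZZ 1), rfl⟩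
  have ry : Root y := by
    refine Y.xs y (((QQ n F).map e).comap e') ⟨i' ?_, ?_⟩ ?_
      ((isQ.map e).comap_of_injective _ i') ?_ ?_
    · rw [map_mul, hy, ← map_mul, x_mul_self, map_one, map_one]
    · rintro rfl
      rw [map_one, eq_comm, map_eq_one_iff _ i, x_eq_one (zero_ne_la (by omega))] at hy
      exact one_ne_zero hy
    · rintro a ⟨v, hv, ha⟩
      refine mem_Cz.2 (i' ?_)
      rw [map_mul, map_mul, hy, ← ha, ← map_mul, ← map_mul, UU_le_Cs (QQ_le_UU hv) _ (x_mem_ZZ 1)]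
    · rw [card_comap i' hQ, Subgroup.card_map_of_injective i, card_QQ8 hp]
    · rintro w ⟨v, hv, hw⟩ hc
      have : v ∈ ZZ n F := A.zq (is2_of_UU (QQ_le_UU hv)) fun a ha => i (by
        obtain ⟨a', ha'⟩ := hQ ⟨a, ha, rfl⟩
        rw [map_mul, map_mul, hw, ← ha', ← map_mul, ← map_mul, hc a' ⟨a, ha, ha'.symm⟩])
      rcases zz_cases hp this with rfl | rfl
      · left; apply i'; rw [← hw, map_one, map_one]
      · right; apply i'; rw [← hw, hy]
  obtain ⟨p, c, hc, rfl⟩ := ry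
  obtain rfl : c = 1 := (hp.fld c).resolve_left hc
  have h' := h.twe (MulAut.conj p)
  have h4 := key hp A P Q i (e' := twe e' (MulAut.conj p)) (i'.comp (MulAut.conj p).injective)
    h'.toB1 hy u1 (range_twe (e := e') (β := MulAut.conj p) ▸ hQ)
  intro a ha
  have a2 := H64.SG.isPGroup_iff_is2.1 (isP_UU.map e) a ha
  have a3 := u1 (map_mono UU_le_Cs ha)
  obtain ⟨β, h5, h6⟩ := h4 ha
  obtain ⟨v, -, -, k, k1, -, k2, -⟩ := h5.inner hn h'.ker h6 a2
  rw [range_twe] at k1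
  rw [mem_sup_zp (H64.SG.Cs_le_Ns _ h.cen) h.inv.1, ← mem_Cz.1 a3]
  exact ae.inn a a3 a2 ⟨_, ⟨MulAut.conj p v, rfl⟩, by
    rw [k2, twe_apply, mul_inv_cancel_right]; exact k1⟩

theorem jobJA (hA : J8FA) (hP : J8FP) (hQ : J8FQ) (hY : J8FY) (hAB : J8AB.{u}) : J8JA.{u} := by
  intro n F _ _ _ hp G _ _ e t b te hN ⟨c, hc, h0⟩
  have hn := hp.two_le
  obtain ⟨g, hg⟩ := isConj_iff.1 h0
  have nr := ((hAB n F hp G e t).1 b).nr
  have ce : CE e t := ⟨b.toB1, b.two hn (hA n F hp) nr te hN hc hg⟩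
  refine ⟨ce, nr, ?_⟩
  have h := ce.cje g
  obtain ⟨ab, ae⟩ := hAB n F hp G (cje g e) (g * t * g⁻¹)
  replace ab := ab h.b0
  replace ae := ae h
  have k0 : (UU n F).map (cje g e) ⊔ zpowers (g * t * g⁻¹) = cjs g ((UU n F).map e ⊔ zpowers t) := by
    rw [cjs, Subgroup.map_sup, map_cje, MonoidHom.map_zpowers]; rfl
  have k1 := k0 ▸ h.toB1.syl
  rw [hg] at h ab ae k1
  generalize cje g e = e' at h ab ae k1
  have i : Function.Injective e :=
    (MonoidHom.ker_eq_bot_iff _).1 (le_bot_iff.1 ((hQ n F hp).cen ▸ b.ker))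
  have u1 : (Cs (ZZ n F)).map e ≤ Cz (t * e (x 0 (la n) c)) := by
    rintro _ ⟨u, hu, rfl⟩
    rw [mem_Cz, mul_assoc, ← map_mul, hu _ (x_mem_ZZ c), map_mul, ← mul_assoc, b.comm,
      mul_assoc]
  have u2 : (UU n F).map e ≤ e'.range ⊔ zpowers (t * e (x 0 (la n) c)) :=
    key' hp (hA n F hp) (hP n F hp) (hQ n F hp) (hY n F hp) i h ab ae u1
  obtain ⟨k, k2, k3⟩ := k1.exists_cj_eq (k1.of_card_ge b.toB1.syl.isPGroup (sup_le u2 (zpowers_le.2
    ((mul_mem_cancel_right (u2 ⟨_, ZZ_le_UU (x_mem_ZZ c), rfl⟩)).1 (mem_sup_right (mem_zpowers _)))))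
    (card_cjs _ _).le)
  have k4 : k ∈ Cz (t * e (x 0 (la n) c)) :=
    sup_le h.range_le (zpowers_le.2 (mem_Cz.2 rfl)) k2
  exact ⟨k * g, H98.cj_eq_self_iff.1 (by rw [← H98.cj_cj]; exact k3), c, hc, by
    rw [show k * g * t * (k * g)⁻¹ = k * (g * t * g⁻¹) * k⁻¹ by group, hg, ← mem_Cz.1 k4,
      mul_inv_cancel_right]⟩

/-- The slot's form. -/
theorem jobJA' (A : J8FA) (_B : J8FB) (_C : J8FC) (P : J8FP) (Q : J8FQ) (Y : J8FY)
    (AB : J8AB.{u}) : J8JA.{u} := jobJA A P Q Y AB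

end H26.A8JA
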