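/- Fixed vectors of an `r`-subgroup in characteristic `r`, counted through the characters of an abelian
normal `r'`-subgroup. -/
import Cfsg.Agent.H22.BaseChange
import Cfsg.Agent.H90.PermMod

set_option autoImplicit false

namespace H26.CF

open Module H22 MulAction
open scoped Pointwise commutatorElement

variable {K : Type*} [Field K] {S : Type*} [Group S] {V : Type*} [AddCommGroup V] [Module K V]

variable (K) in
/-- the linear characters of `P` -/
def Ch (P : Subgroup S) : Type _ := P →* Kˣ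

/-- the underlying homomorphism -/
def Ch.hom {P : Subgroup S} (χ : Ch K P) : P →* Kˣ := χ

instance instMulActionCh (P : Subgroup S) [P.Normal] : MulAction S (Ch K P) where
  smul g χ := χ.hom.comp (MulAut.conjNormal g⁻¹ : MulAut P).toMonoidHom
  one_smul χ := MonoidHom.ext fun a => by
    show χ.hom (MulAut.conjNormal 1⁻¹ a) = χ.hom a
    simp
  mul_smul g h χ := MonoidHom.ext fun a => by
    show χ.hom (MulAut.conjNormal (g * h)⁻¹ a) = χ.hom (MulAut.conjNormal h⁻¹ (MulAut.conjNormal g⁻¹ a))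
    rw [mul_inv_rev, map_mul]; rfl

theorem smul_hom {P : Subgroup S} [P.Normal] (g : S) (χ : Ch K P) (a : P) :
    (g • χ).hom a = χ.hom (MulAut.conjNormal g⁻¹ a) := rfl

variable (σ : Representation K S V) {P : Subgroup S} [Fintype P]

/-- the projection onto the weight space of `χ`, up to the factor `|P|` -/
noncomputable def pr (χ : Ch K P) : V →ₗ[K] V := ∑ a : P, (χ.hom a⁻¹ : K) • σ a

theorem pr_apply (χ : Ch K P) (v : V) : pr σ χ v = ∑ a : P, (χ.hom a⁻¹ : K) • σ a v := by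
  simp [pr]

theorem pr_eig (χ : Ch K P) (v : V) (b : P) : σ b (pr σ χ v) = (χ.hom b : K) • pr σ χ v := by
  rw [pr_apply, map_sum, Finset.smul_sum]
  refine Fintype.sum_equiv (Equiv.mulLeft b) _ _ fun a => ?_
  simp only [Equiv.coe_mulLeft, map_smul, smul_smul, mul_inv_rev, map_mul, Units.val_mul, map_inv,
    Subgroup.coe_mul, Module.End.mul_apply]
  congr 1
  simp only [Units.val_inv_eq_inv_val]
  field_simp

theorem pr_of_eig {χ ψ : Ch K P} {v : V} (h : ∀ a : P, σ a v = (ψ.hom a : K) • v) :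
    pr σ χ v = (∑ a : P, (Units.coeHom K).comp (χ.hom⁻¹ * ψ.hom) a) • v := by
  rw [pr_apply, Finset.sum_smul]
  exact Finset.sum_congr rfl fun a _ => by simp [h, smul_smul]

theorem pr_pr_ne {χ ψ : Ch K P} (h : χ ≠ ψ) (v : V) : pr σ χ (pr σ ψ v) = 0 := by
  rw [pr_of_eig σ (pr_eig σ ψ v), sum_hom_units_eq_zero _ fun e => h ?_, zero_smul]
  refine MonoidHom.ext fun a => ?_
  have := DFunLike.congr_fun e a
  simp only [MonoidHom.comp_apply, MonoidHom.mul_apply, MonoidHom.inv_apply, Units.coeHom_apply,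
    MonoidHom.one_apply, Units.val_eq_one, inv_mul_eq_one] at this
  exact this

theorem pr_pr (χ : Ch K P) (v : V) : pr σ χ (pr σ χ v) = (Nat.card P : K) • pr σ χ v := by
  rw [pr_of_eig σ (pr_eig σ χ v)]; simp

theorem pr_conj [P.Normal] (g : S) (χ : Ch K P) (v : V) : σ g (pr σ χ v) = pr σ (g • χ) (σ g v) := by
  rw [pr_apply, pr_apply, map_sum]
  refine Fintype.sum_equiv (MulAut.conjNormal g : MulAut P).toEquiv _ _ fun a => ?_
  rw [smul_hom, map_smul, ← Module.End.mul_apply, ← Module.End.mul_apply, ← map_mul, ← map_mul]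
  simp [← map_inv, ← MulAut.mul_apply, ← map_mul]

/-- the characters which occur in `v` -/
def supp (P : Subgroup S) [Fintype P] (v : V) : Set (Ch K P) := {χ | pr σ χ v ≠ 0}

theorem supp_smul [P.Normal] (g : S) (v : V) : supp σ P (σ g v) = g • supp σ P v := by
  ext χ
  rw [Set.mem_smul_set_iff_inv_smul_mem]
  refine not_congr ?_
  have e := pr_conj σ g (g⁻¹ • χ) v
  rw [smul_inv_smul] at e
  rw [← e]
  refine ⟨fun h => ?_, fun h => by rw [h, map_zero]⟩
  rw [← σ.inv_self_apply g (pr σ _ v), h, map_zero]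

variable [IsAlgClosed K] (hc : ∀ a b : P, a * b = b * a) (hP : (Nat.card P : K) ≠ 0)
include hc hP

omit [Fintype P] in
theorem ch_facts [Finite P] : Finite (Ch K P) ∧ Nat.card (Ch K P) = Nat.card P ∧
    ∀ a : P, a ≠ 1 → ∃ χ : Ch K P, χ.hom a ≠ 1 := by
  let _ : CommGroup P := { (inferInstance : Group P) with mul_comm := hc }
  have : NeZero ((Monoid.exponent P : ℕ) : K) := ⟨fun e => hP (by
    obtain ⟨k, hk⟩ := Group.exponent_dvd_nat_card (G := P)
    rw [hk, Nat.cast_mul, e, zero_mul])⟩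
  exact ⟨Finite.of_equiv _ (CommGroup.monoidHom_mulEquiv_of_hasEnoughRootsOfUnity P K).some.toEquiv.symm,
    CommGroup.card_monoidHom_of_hasEnoughRootsOfUnity P K,
    fun a => CommGroup.exists_apply_ne_one_of_hasEnoughRootsOfUnity P K⟩

theorem supp_nonempty {v : V} (hv : v ≠ 0) : (supp σ P v).Nonempty := by
  classical
  obtain ⟨h1, h2, h3⟩ := ch_facts hc hP
  have : Finite (P →* Kˣ) := h1
  have := Fintype.ofFinite (P →* Kˣ)
  by_contra k
  have k1 : ∑ χ : P →* Kˣ, ∑ a : P, (χ a⁻¹ : K) • σ a v = 0 :=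
    Finset.sum_eq_zero fun χ _ => by_contra fun e => k ⟨χ, fun e' => e ((pr_apply σ χ v).symm.trans e')⟩
  rw [Finset.sum_comm, Finset.sum_eq_single 1 (fun a _ ha => ?_) (by simp)] at k1
  · simp only [inv_one, map_one, Units.val_one, OneMemClass.coe_one, Module.End.one_apply, one_smul,
      Finset.sum_const, Finset.card_univ, ← Nat.card_eq_fintype_card] at k1
    rw [← Nat.cast_smul_eq_nsmul K, smul_eq_zero] at k1
    exact k1.elim (fun e => hP (h2 ▸ e)) hv
  · obtain ⟨χ, hχ⟩ := h3 a⁻¹ (inv_ne_one.2 ha)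
    rw [← Finset.sum_smul]
    have := sum_hom_units_eq_zero ((Units.coeHom K).comp (MonoidHom.eval a⁻¹ : (P →* Kˣ) →* Kˣ))
      fun e => hχ (Units.val_eq_one.1 (DFunLike.congr_fun e χ))
    exact smul_eq_zero_of_left this _

variable [P.Normal] {r q : ℕ} [Fact r.Prime] [hq : Fact q.Prime] [CharP K r] {T Q : Subgroup S}
  [Finite S]

theorem exists_supp (hT : IsPGroup r T) {χ : Ch K P} {w : V} (hw : χ ∈ supp σ P w) :
    ∃ v ∈ fixSp σ T, supp σ P v = orbit T χ := by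
  let W : Submodule K V := ⨅ ψ ∉ orbit T χ, LinearMap.ker (pr σ ψ)
  have hW : ∀ v, v ∈ W ↔ supp σ P v ⊆ orbit T χ := fun v => by
    simp only [W, Submodule.mem_iInf, LinearMap.mem_ker]
    exact forall_congr' fun ψ => not_imp_comm
  obtain ⟨v, h1, h2, h3⟩ := H90.exists_fixed_of_isPGroup hT (σ.comp T.subtype) W
    ((Submodule.ne_bot_iff W).2 ⟨pr σ χ w, (hW _).2 fun ψ hψ => by
      by_contra k
      exact hψ (pr_pr_ne σ (by rintro rfl; exact k (mem_orbit_self _)) w), hw⟩) fun g v hv => by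
      rw [hW] at hv ⊢
      show supp σ P (σ g v) ⊆ _
      rw [supp_smul, ← smul_orbit g χ]
      exact Set.smul_set_mono hv
  refine ⟨v, fun s hs => h3 ⟨s, hs⟩, ((hW v).1 h1).antisymm ?_⟩
  obtain ⟨ψ, hψ⟩ := supp_nonempty σ hc hP h2
  rw [← orbit_eq_iff.2 ((hW v).1 h1 hψ)]
  rintro _ ⟨g, rfl⟩
  have : supp σ P v = (g : S) • supp σ P v := by rw [← supp_smul]; exact congrArg _ (h3 g).symm
  rw [this]
  exact Set.smul_mem_smul_set hψ

omit [IsAlgClosed K] hc hP [CharP K r] in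
theorem not_inv (h0 : ∀ v, (∀ a ∈ P, σ a v = v) → v = 0) (hqr : q ≠ r) (hT : IsPGroup r T)
    (hQ : IsPGroup q Q) (hPQ : ⁅P, Q⁆ = P) {χ : Ch K P} {v : V} (hv : supp σ P v = orbit T χ)
    (h : ∀ x ∈ Q, x • orbit T χ ⊆ orbit T χ) : False := by
  have : Finite (orbit T χ) := (Set.finite_range _).to_subtype
  obtain ⟨n, hn⟩ := hT.card_orbit χ
  let Y : SubMulAction Q (Ch K P) := ⟨orbit T χ, fun x _ hy => h x x.2 (Set.smul_mem_smul_set hy)⟩
  have : Finite Y := inferInstanceAs (Finite (orbit T χ))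
  obtain ⟨⟨ψ, h1⟩, h2⟩ := hQ.nonempty_fixed_point_of_prime_not_dvd_card Y (fun k => by
    have : q ∣ r ^ n := hn ▸ k
    exact hqr ((Nat.prime_dvd_prime_iff_eq hq.out Fact.out).1 (hq.out.dvd_of_dvd_pow this)))
  have h3 : P ≤ ψ.hom.ker.map P.subtype := hPQ.ge.trans (Subgroup.commutator_le.2 fun a ha x hx => by
    have e : ψ.hom (MulAut.conjNormal x⁻¹⁻¹ ⟨a, ha⟩) = ψ.hom ⟨a, ha⟩ :=
      DFunLike.congr_fun (congrArg (fun y : Y => y.1.hom) (h2 ⟨x⁻¹, Q.inv_mem hx⟩)) ⟨a, ha⟩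
    refine ⟨⟨a, ha⟩ * (MulAut.conjNormal x⁻¹⁻¹ ⟨a, ha⟩)⁻¹, ?_, ?_⟩
    · show ψ.hom _ = 1
      rw [map_mul, map_inv, e, mul_inv_cancel]
    · simp [commutatorElement_def, mul_assoc])
  refine (hv.ge h1 : pr σ ψ v ≠ 0) (h0 _ fun a ha => ?_)
  obtain ⟨b, hb, rfl⟩ := h3 ha
  rw [Subgroup.subtype_apply, pr_eig, show ψ.hom b = 1 from hb, Units.val_one, one_smul]

omit [IsAlgClosed K] hc hP [Finite S] in
theorem dich [Finite (Ch K P)] {v₁ v₂ : V} {x : S} (hd : Disjoint (supp σ P v₁) (supp σ P v₂))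
    (hn : (supp σ P v₁).Nonempty) (h : σ x v₁ ∈ Submodule.span K {v₁, v₂}) :
    x • supp σ P v₁ = supp σ P v₁ ∨ x • supp σ P v₁ = supp σ P v₂ := by
  obtain ⟨a, b, e⟩ := Submodule.mem_span_pair.1 h
  rcases eq_or_ne a 0 with rfl | ha
  · right
    have hb : b ≠ 0 := by
      rintro rfl
      obtain ⟨χ, hχ⟩ := hn
      refine hχ ?_
      rw [← σ.inv_self_apply x v₁, ← e]; simp
    rw [← supp_smul, ← e]
    ext χ; simp [supp, hb]
  · left
    refine (Set.eq_of_subset_of_ncard_le (fun χ hχ => ?_) (Set.ncard_smul_set _ _).le).symm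
    have : pr σ χ v₂ = 0 := by_contra fun k => Set.disjoint_left.1 hd hχ k
    rw [← supp_smul, ← e]
    simpa [supp, this, ha] using hχ

/-- an `r`-subgroup has two independent fixed vectors; if there are no more, `Q` moves them -/
theorem main [FiniteDimensional K V] [Nontrivial V] (h0 : ∀ v, (∀ a ∈ P, σ a v = v) → v = 0)
    (hqr : q ≠ r) (hq2 : q ≠ 2) (hT : IsPGroup r T) (hQ : IsPGroup q Q) (hPQ : ⁅P, Q⁆ = P) :
    2 ≤ finrank K (fixSp σ T) ∧
      (finrank K (fixSp σ T) = 2 → ¬ ∀ x ∈ Q, ∀ v ∈ fixSp σ T, σ x v ∈ fixSp σ T) := by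
  have := (ch_facts hc hP).1
  obtain ⟨w, hw⟩ := exists_ne (0 : V)
  obtain ⟨χ₁, h1⟩ := supp_nonempty σ hc hP hw
  obtain ⟨v₁, m₁, e₁⟩ := exists_supp σ hc hP hT h1
  obtain ⟨x, -, hx⟩ : ∃ x ∈ Q, ¬ x • orbit T χ₁ ⊆ orbit T χ₁ := by
    by_contra k; push Not at k
    exact not_inv σ h0 hqr hT hQ hPQ e₁ k
  obtain ⟨χ₂, h2, h3⟩ := Set.not_subset.1 hx
  obtain ⟨v₂, m₂, e₂⟩ := exists_supp σ hc hP hT (χ := χ₂) (w := σ x v₁) (by rwa [supp_smul, e₁])
  have hd : Disjoint (supp σ P v₁) (supp σ P v₂) := by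
    rw [e₁, e₂, Set.disjoint_left]
    intro ψ k1 k2
    exact h3 (by rw [← orbit_eq_iff.2 k1, orbit_eq_iff.2 k2]; exact mem_orbit_self _)
  have n₁ : χ₁ ∈ supp σ P v₁ := e₁ ▸ mem_orbit_self _
  have n₂ : χ₂ ∈ supp σ P v₂ := e₂ ▸ mem_orbit_self _
  have li : LinearIndependent K ![v₁, v₂] := LinearIndependent.pair_iff.2 fun a b e => by
    have k1 := congrArg (pr σ χ₁) e
    have k2 := congrArg (pr σ χ₂) e
    have z1 : pr σ χ₁ v₂ = 0 := by_contra fun k => Set.disjoint_left.1 hd n₁ k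
    have z2 : pr σ χ₂ v₁ = 0 := by_contra fun k => Set.disjoint_left.1 hd k n₂
    simp only [map_add, map_smul, z1, z2, smul_zero, add_zero, zero_add, map_zero, smul_eq_zero] at k1 k2
    exact ⟨k1.resolve_right n₁, k2.resolve_right n₂⟩
  have f2 : finrank K (Submodule.span K {v₁, v₂}) = 2 := by
    have := finrank_span_eq_card li
    rwa [Matrix.range_cons, Matrix.range_cons, Matrix.range_empty, Set.union_empty,
      Set.singleton_union, Fintype.card_fin] at this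
  have le : Submodule.span K {v₁, v₂} ≤ fixSp σ T :=
    Submodule.span_le.2 (Set.insert_subset m₁ (Set.singleton_subset_iff.2 m₂))
  refine ⟨f2 ▸ Submodule.finrank_mono le, fun e k => ?_⟩
  have eq := Submodule.eq_of_le_of_finrank_le le (by rw [e, f2])
  refine not_inv σ h0 hqr hT hQ hPQ e₁ fun y hy => ?_
  rw [← e₁]
  rcases dich σ hd ⟨_, n₁⟩ (eq ▸ k y hy _ m₁) with k1 | k1
  · exact k1.le
  rcases dich σ hd.symm ⟨_, n₂⟩ (Set.pair_comm v₁ v₂ ▸ eq ▸ k y hy _ m₂) with k2 | k2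
  · rw [← k2, smul_left_cancel_iff] at k1
    exact absurd (k1 ▸ n₁) (Set.disjoint_left.1 hd n₁)
  · have k3 : y * y ∈ stabilizer S (supp σ P v₁) := by rw [mem_stabilizer_iff, mul_smul, k1, k2]
    obtain ⟨i, hi⟩ := hQ ⟨y, hy⟩
    obtain ⟨m, hm⟩ := (hq.out.odd_of_ne_two hq2).pow (n := i)
    have e : y = ((y * y) ^ m)⁻¹ := by
      rw [eq_inv_iff_mul_eq_one, ← sq, ← pow_mul, ← pow_succ', ← hm]
      exact congrArg Subtype.val hi
    exact (mem_stabilizer_iff.1 (e ▸ inv_mem (pow_mem k3 m) : y ∈ stabilizer S _)).le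

end H26.CF
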