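import Cfsg.Agent.H56.CySpec

/-! Tower CY (S3916), job `Q`: the property passes to quotients. -/

set_option autoImplicit false
set_option maxHeartbeats 400000

namespace H26.CY

open Subgroup H56.CY

universe u

variable {G : Type u} [Group G] [Finite G] {N : Subgroup G} [N.Normal] {p : ℕ}

theorem exists_lift (hp : p.Prime) (A : Subgroup (G ⧸ N)) (hc : IsCyclic A) (hA : IsPGroup p A) :
    ∃ (a : G) (i : ℕ), orderOf a = p ^ i ∧ A = zpowers (QuotientGroup.mk' N a) := by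
  obtain ⟨x, rfl⟩ := (Subgroup.isCyclic_iff_exists_zpowers_eq_top A).1 hc
  obtain ⟨n, hn⟩ := hA ⟨x, mem_zpowers x⟩
  have hx : x ^ p ^ n = 1 := congrArg Subtype.val hn
  obtain ⟨a, rfl⟩ := QuotientGroup.mk'_surjective N x
  obtain ⟨i, m, hm, e⟩ := Nat.exists_eq_pow_mul_and_not_dvd (orderOf_pos a).ne' p hp.one_lt.ne'
  have h1 : orderOf (a ^ m) ∣ p ^ i := by
    rw [orderOf_dvd_iff_pow_eq_one, ← pow_mul, mul_comm, ← e, pow_orderOf_eq_one]
  obtain ⟨k, -, hk⟩ := (Nat.dvd_prime_pow hp).1 h1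
  refine ⟨a ^ m, k, hk, le_antisymm ?_ ?_⟩
  · have co : m.Coprime (orderOf (QuotientGroup.mk' N a)) :=
      (((Nat.Prime.coprime_iff_not_dvd hp).2 hm).symm.pow_right n).coprime_dvd_right
        (orderOf_dvd_of_pow_eq_one hx)
    obtain ⟨l, hl⟩ := exists_pow_eq_self_of_coprime co
    rw [zpowers_le, map_pow]
    have := pow_mem (mem_zpowers (QuotientGroup.mk' N a ^ m)) l
    rwa [hl] at this
  · rw [zpowers_le, map_pow]
    exact pow_mem (mem_zpowers _) m

theorem half (h : CP G) (hp : p.Prime) {a b : G} {i j : ℕ} (ha : orderOf a = p ^ i)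
    (hb : orderOf b = p ^ j) (hij : i ≤ j)
    (hc : Nat.card (zpowers (QuotientGroup.mk' N a)) = Nat.card (zpowers (QuotientGroup.mk' N b))) :
    ∃ g : G ⧸ N, zpowers (QuotientGroup.mk' N b) =
      (zpowers (QuotientGroup.mk' N a)).map (MulAut.conj g).toMonoidHom := by
  have o1 : orderOf (b ^ p ^ (j - i)) = p ^ i := by
    rw [orderOf_pow_of_dvd (pow_pos hp.pos _).ne' (hb ▸ pow_dvd_pow p (Nat.sub_le j i)), hb,
      Nat.pow_div (Nat.sub_le j i) hp.pos, Nat.sub_sub_self hij]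
  obtain ⟨g, hg⟩ := h p hp (zpowers a) (zpowers (b ^ p ^ (j - i))) inferInstance inferInstance
    (IsPGroup.of_card (by rw [Nat.card_zpowers, ha])) (by rw [Nat.card_zpowers, Nat.card_zpowers, ha, o1])
  have hm : g * a * g⁻¹ ∈ zpowers b := by
    have : g * a * g⁻¹ ∈ zpowers (b ^ p ^ (j - i)) := hg ▸ ⟨a, mem_zpowers a, rfl⟩
    exact (zpowers_le.2 (pow_mem (mem_zpowers b) _)) this
  refine ⟨QuotientGroup.mk' N g, (eq_of_le_of_card_ge ?_ ?_).symm⟩
  · rw [MonoidHom.map_zpowers, zpowers_le, ← MonoidHom.map_zpowers]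
    exact ⟨_, hm, by simp⟩
  · rw [card_map_of_injective (MulAut.conj _).injective, hc]

theorem jobQ : H56.CY.JobQ.{u} := by
  intro G _ _ N _ h p hp A B cA cB pA hc
  have := Fact.mk hp
  have pB : IsPGroup p B := by
    obtain ⟨n, hn⟩ := IsPGroup.iff_card.1 pA
    exact IsPGroup.of_card (hc ▸ hn)
  obtain ⟨a, i, ha, rfl⟩ := exists_lift hp A cA pA
  obtain ⟨b, j, hb, rfl⟩ := exists_lift hp B cB pB
  rcases le_total i j with hij | hij
  · exact half h hp ha hb hij hc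
  · obtain ⟨g, hg⟩ := half h hp hb ha hij hc.symm
    refine ⟨g⁻¹, ?_⟩
    rw [hg, map_map]
    conv_lhs => rw [← map_id (zpowers (QuotientGroup.mk' N b))]
    congr 1
    ext x
    simp

end H26.CY
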