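import Cfsg.Agent.H57.U2CSpec

/-! S3275, chapter U2F, job BR. -/

set_option autoImplicit false
set_option maxHeartbeats 400000

namespace H26.DPV

open Subgroup Cfsg H98 H96 H97 H48.DP H57.U2C
open scoped commutatorElement

universe u

theorem br : BR.{u} := by
  intro G _ _ K F U B z W _ s m q
  have : Finite W := s.finite
  have hn : K ≤ nn U (zpowers z) := le_inf m.KU fun k hk => centralizer_le_normalizer _ (by
    rintro _ ⟨n, rfl⟩
    exact ((show Commute k z from mem_centralizer_singleton_iff.1 (m.Kz hk)).symm.zpow_left n).eq)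
  have hF : F ≤ nn U (zpowers z) := m.FK.trans hn
  have hB : B ≤ nn U (zpowers z) := q.le.trans hn
  refine ⟨hn, ⟨fun w => ?_, s.isPGroup_bar m.F3, s.bar_le fun b hb => ?_, ?_, fun a ha w => ?_⟩,
    fun N hN hz => ?_⟩
  · obtain ⟨x, hx, rfl⟩ := s.surj w
    rw [← s.mul x hx x hx, ← pow_two, m.ea.2 x hx, s.one]
  · refine mem_normalizer_fintype fun a ha => ?_
    obtain ⟨f, hf, rfl⟩ := s.exists_α ha
    obtain ⟨f', hf', e⟩ := m.nF b (q.le hb) f hf
    rw [← s.α_conj (hB hb) (hF hf),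
      ← (s.α_eq_iff (hF hf') (mul_mem (mul_mem (hB hb) (hF hf)) (inv_mem (hB hb)))).2 e]
    exact s.α_mem hF hf'
  · rw [eq_bot_iff]
    rintro a ⟨ha, hc⟩
    obtain ⟨b, hb, rfl⟩ := s.exists_α ha
    refine (s.α_eq_one' (hB hb)).2 (m.fd b (q.le hb) (q.two.to_le (zpowers_le.2 hb)) fun f hf => ?_)
    have hm : ⁅f, b⁆ ∈ nn U (zpowers z) :=
      mul_mem (mul_mem (mul_mem (hF hf) (hB hb)) (inv_mem (hF hf))) (inv_mem (hB hb))
    rw [← s.α_eq_one' hm, s.α_comm (hF hf) (hB hb), commutatorElement_eq_one_iff_mul_comm]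
    exact hc _ (s.α_mem hF hf)
  · obtain ⟨b, hb, rfl⟩ := s.exists_α ha
    obtain ⟨x, hx, rfl⟩ := s.surj w
    rw [s.dl_ψ (hB hb) hx, s.mem_fx_bar hB (Sec.cmem (hB hb) hx)]
    exact fun c hc => q.qd c hc b hb x hx
  · rw [s.index_eq]
    congr 1
    refine le_antisymm ?_ fun x hx => ⟨hN hx, s.ψ_mem_im (hN hx) hx⟩
    rintro x ⟨hx, y, hy, hy', e⟩
    have := mul_mem hy' (zpowers_le.2 hz ((s.eq_iff hy hx).1 e))
    rwa [mul_inv_cancel_left] at this

end H26.DPV
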