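import Cfsg.Agent.H96.U2CenSpec

/-! S3275, chapter U2F (central case), job TRL. -/

set_option autoImplicit false
set_option maxHeartbeats 400000

namespace H26.DPW

open Subgroup Cfsg H98 H48.DP H96.U2I H96.Cen
open scoped commutatorElement

universe u

theorem jobTRL : TRL.{u} := by
  intro G _ _ M M0 Q Q0 F U z v
  obtain ⟨W, i, ⟨s⟩⟩ := exists_sec (U := U) (U₀ := zpowers z) (zpowers_le.2 v.zU)
    (commutator_le.2 fun a ha b hb => by
      rw [commutatorElement_eq_one_iff_commute.2 (v.ab a ha b hb)]; exact one_mem _)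
  have : Finite W := s.finite
  have hn : M0 ≤ nn U (zpowers z) := le_inf v.nU fun m hm => centralizer_le_normalizer _ (by
    rintro _ ⟨k, rfl⟩
    exact ((v.zM m hm).symm.zpow_left k).eq)
  have hF : F ≤ nn U (zpowers z) := v.FM.trans hn
  have two : ∀ w : W, w + w = 0 := fun w => by
    obtain ⟨x, hx, rfl⟩ := s.surj w
    rw [← s.mul x hx x hx, v.el x hx, s.one]
  have f1 : ∀ f ∈ F, s.α f = 1 → f = 1 := fun f hf e => v.ff f hf ((s.α_eq_one (hF hf)).1 e)
  have q1 : ∀ q ∈ Q0, s.α q = 1 := fun q hq => (s.α_eq_one (hn (v.QM hq))).2 fun a ha => by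
    rcases v.cQ q hq a ha with e | e
    · rw [e]; exact one_mem _
    · rw [e]; exact mem_zpowers z
  have cf : ∀ m ∈ M0, ∀ f ∈ F, ∃ f' ∈ F, m * f * m⁻¹ * f'⁻¹ ∈ Q0 ∧
      s.α m * s.α f * (s.α m)⁻¹ = s.α f' := fun m hm f hf => by
    obtain ⟨f', hf', e⟩ := v.nF m hm f hf
    refine ⟨f', hf', e, ?_⟩
    have := q1 _ e
    rw [s.α_mul (mul_mem (mul_mem (hn hm) (hF hf)) (inv_mem (hn hm))) (inv_mem (hF hf')),
      s.α_conj (hn hm) (hF hf), s.α_inv (hF hf'), mul_inv_eq_one] at this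
    exact this
  have key : ∀ g ∈ M0, g * g = 1 → (∀ f ∈ F, Commute (s.α g) (s.α f)) → g ∈ Q0 :=
    fun g hg gg hc => v.fa g hg gg fun f hf => by
      obtain ⟨f', hf', e1, e2⟩ := cf g hg f hf
      rw [(hc f hf).eq, mul_inv_cancel_right] at e2
      have : f * f'⁻¹ = 1 := f1 _ (mul_mem hf (inv_mem hf')) (by
        rw [s.α_mul (hF hf) (inv_mem (hF hf')), s.α_inv (hF hf'), e2, mul_inv_cancel])
      rw [← mul_inv_eq_one.1 this] at e1
      exact e1
  have g1 : ∀ g ∈ M0, g * g = 1 → (s.α g = 1 ↔ g ∈ Q0) := fun g hg gg =>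
    ⟨fun e => key g hg gg fun f _ => by rw [e]; exact Commute.one_left _, q1 g⟩
  have nF : ∀ m ∈ M0, s.α m ∈ No (s.bar F) := fun m hm => mem_normalizer_fintype fun a ha => by
    obtain ⟨f, hf, rfl⟩ := s.exists_α ha
    obtain ⟨f', hf', -, e⟩ := cf m hm f hf
    rw [e]
    exact s.α_mem hF hf'
  refine ⟨W, i, s.finite, s, hn, two, f1, g1, nF, ?_, fun A AM eA => ⟨⟨two, s.isPGroup_bar v.F3,
    fun a ha => ?_, s.bar_le fun a ha => nF a (AM ha), fun a ha hc => ?_⟩, ?_⟩⟩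
  · obtain ⟨B, BF, eB, c⟩ := v.e27
    refine ⟨s.bar B, s.bar_mono BF, s.ea_bar' (BF.trans hF) eB, ?_⟩
    rw [s.card_bar (BF.trans hF), relIndex, show (stab U (zpowers z)).subgroupOf B = ⊥ from
      eq_bot_iff.2 fun x hx => Subtype.ext (f1 x (BF x.2) ((s.α_eq_one' (hF (BF x.2))).2 hx)),
      index_bot]
    exact c
  · obtain ⟨x, hx, rfl⟩ := s.exists_α ha
    rw [← s.α_mul (hn (AM hx)) (hn (AM hx)), eA x hx, s.α_one]
  · obtain ⟨x, hx, rfl⟩ := s.exists_α ha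
    exact q1 x (key x (AM hx) (eA x hx) fun f hf => hc _ (s.α_mem hF hf))
  · rw [s.card_bar (AM.trans hn), relIndex, relIndex]
    congr 1
    ext x
    rw [mem_subgroupOf, mem_subgroupOf, ← s.α_eq_one' (hn (AM x.2)), g1 x (AM x.2) (eA x x.2),
      mem_inf, and_iff_right x.2]

end H26.DPW
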