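import Cfsg.Agent.H11.FBSpec
import Cfsg.Agent.S0033
import Mathlib.GroupTheory.SpecificGroups.ZGroup

/-! S3404, tower FB, job AL1. -/

set_option autoImplicit false
set_option maxHeartbeats 400000

namespace H26.FB

open MulAction Subgroup H11.FB

universe u v

/-- a commutative subgroup whose `p`-subgroups are cyclic is cyclic -/
theorem cyc_of_comm {G : Type u} [Group G] [Finite G] {H : Subgroup G}
    (hc : ∀ p : ℕ, p.Prime → ∀ R : Subgroup G, R ≤ H → IsPGroup p R → IsCyclic R)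
    (hm : ∀ x ∈ H, ∀ y ∈ H, x * y = y * x) : IsCyclic H := by
  have hz : IsZGroup H := ⟨fun p hp R => by
    have := hc p hp ((R : Subgroup H).map H.subtype) (map_subtype_le _) (R.2.map _)
    exact isCyclic_of_surjective
      ((R : Subgroup H).equivMapOfInjective H.subtype H.subtype_injective).symm
      (MulEquiv.surjective _)⟩
  have hn : Group.IsNilpotent H := by
    refine ⟨1, ?_⟩
    rw [Subgroup.upperCentralSeries_one, eq_top_iff]
    intro x _
    rw [mem_center_iff]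
    intro y
    exact Subtype.ext (hm _ y.2 _ x.2)
  infer_instance

/-- a normal subgroup on which an element of prime order acts without fixed points has its
involutions in a normal 2-subgroup -/
theorem two_sub {X : Type u} [Group X] [Finite X] {N : Subgroup X} [N.Normal] {h s : X}
    (hp : (orderOf h).Prime) (hf : ∀ n ∈ N, n * h = h * n → n = 1) (hs : s ∈ N) (s2 : s * s = 1) :
    ∃ O : Subgroup X, O.Normal ∧ IsPGroup 2 O ∧ s ∈ O := by
  have hn : Group.IsNilpotent N := by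
    let φ : N ≃* N := MulAut.conjNormal h
    have hφ : MonoidHom.FixedPointFree (φ : N →* N) := by
      intro n e
      have e' : h * n * h⁻¹ = n := congrArg Subtype.val e
      refine Subtype.ext (hf n n.2 ?_)
      calc (n : X) * h = h * n * h⁻¹ * h := by rw [e']
        _ = h * n := by group
    have hd : orderOf φ ∣ orderOf h := orderOf_map_dvd (MulAut.conjNormal (H := N)) h
    rcases (Nat.dvd_prime hp).1 hd with e | e
    · have e1 : φ = 1 := orderOf_eq_one_iff.1 e
      have : Subsingleton N := ⟨fun x y => by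
        have hx : x = 1 := hφ x (by rw [e1]; rfl)
        have hy : y = 1 := hφ y (by rw [e1]; rfl)
        rw [hx, hy]⟩
      infer_instance
    · exact Cfsg.Agent.S0033.result φ hφ _ hp e
  have : Fact (Nat.Prime 2) := ⟨Nat.prime_two⟩
  have hz : IsPGroup 2 (zpowers (⟨s, hs⟩ : N)) := by
    apply IsPGroup.of_card_dvd_pow (n := 1)
    rw [Nat.card_zpowers, pow_one]
    exact orderOf_dvd_of_pow_eq_one (Subtype.ext (by simpa [pow_two] using s2))
  obtain ⟨Q, hQ⟩ := hz.exists_le_sylow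
  have hQn : (Q : Subgroup N).Normal := inferInstance
  have hQc : (Q : Subgroup N).Characteristic := Sylow.characteristic_of_normal Q hQn
  exact ⟨(Q : Subgroup N).map N.subtype, inferInstance, Q.2.map _,
    ⟨⟨s, hs⟩, hQ (mem_zpowers _), rfl⟩⟩

theorem jobAL1 : JobAL1.{u, v} := by
  intro ch G Ω _ _ _ _ _ _ a b c d e K H P h w cx hH hp hTh h5 hfix hNo wX wN wd hw
  have th := cx.th1 h hH hp
  have fr := cx.hy.fr
  obtain ⟨ab, ac, ad, bc, bd, cd⟩ := cx.hy.ne
  have h1 : h ≠ 1 := fun e => hp.ne_one (orderOf_eq_one_iff.2 e)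
  have LX : ∀ g ∈ L4 G a b c d, g ∈ X3 G a b c := fun g hg => hg.1
  have HX : H ≤ X3 G a b c := fun g hg => LX g (fr.Hle hg)
  have de : d ≠ e := by
    intro e0
    subst e0
    rw [hTh] at h5
    have : ({a, b, c, d, d} : Set Ω) = {a, b, c, d} := by simp
    rw [this] at h5
    have h4 : ({a, b, c, d} : Set Ω).ncard ≤ 4 := by
      refine (Set.ncard_insert_le _ _).trans (Nat.succ_le_succ ?_)
      refine (Set.ncard_insert_le _ _).trans (Nat.succ_le_succ ?_)
      refine (Set.ncard_insert_le _ _).trans (Nat.succ_le_succ ?_)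
      simp
    omega
  have dT : d ∈ fixedBy Ω h := by rw [hTh]; simp
  have eT : e ∈ fixedBy Ω h := by rw [hTh]; simp
  obtain ⟨wa, wb, wc⟩ := mem_X3.1 wX
  have iw := MulAction.injective (β := Ω) w
  have ea : e ≠ a := fun e0 => ad (iw (by show w • a = w • d; rw [wa, wd, e0]))
  have eb : e ≠ b := fun e0 => bd (iw (by show w • b = w • d; rw [wb, wd, e0]))
  have ec : e ≠ c := fun e0 => cd (iw (by show w • c = w • d; rw [wc, wd, e0]))
  have perm : ∀ g : G, ∀ x ∈ H, x ≠ 1 → g * x * g⁻¹ ∈ H → ∀ ω ∈ fixedBy Ω h,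
      g • ω ∈ fixedBy Ω h := by
    intro g x hx x1 hg ω hω
    have g1 : g * x * g⁻¹ ≠ 1 := fun e0 => x1 (by
      calc x = g⁻¹ * (g * x * g⁻¹) * g := by group
        _ = 1 := by rw [e0]; group)
    rw [← hfix _ hg g1, mem_fixedBy, mul_smul, inv_smul_smul, mul_smul]
    rw [← hfix x hx x1, mem_fixedBy] at hω
    rw [hω]
  have one : ∀ g ∈ X3 G a b c, ∀ ω, ω ≠ a → ω ≠ b → ω ≠ c → g • ω ∈ fixedBy Ω h →
      g • ω = d ∨ g • ω = e := by
    intro g hg ω na nb nc hω
    obtain ⟨ga, gb, gc⟩ := mem_X3.1 hg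
    have ig := MulAction.injective (β := Ω) g
    rw [hTh] at hω
    rcases hω with e0 | e0 | e0 | e0 | e0
    · exact absurd (ig (e0.trans ga.symm)) na
    · exact absurd (ig (e0.trans gb.symm)) nb
    · exact absurd (ig (e0.trans gc.symm)) nc
    · exact Or.inl e0
    · exact Or.inr e0
  have two : ∀ g ∈ X3 G a b c, ∀ x ∈ H, x ≠ 1 → g * x * g⁻¹ ∈ H →
      g • d = d ∨ g • e = d := by
    intro g hg x hx x1 hgx
    have ig := MulAction.injective (β := Ω) g
    rcases one g hg d ad.symm bd.symm cd.symm (perm g x hx x1 hgx d dT) with e0 | e0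
    · exact Or.inl e0
    · rcases one g hg e ea eb ec (perm g x hx x1 hgx e eT) with e1 | e1
      · exact Or.inr e1
      · exact absurd (ig (e0.trans e1.symm)) de
  have whw : w * h * w⁻¹ ∈ H :=
    (zpowers_le_of_mem hH) ((mem_normalizer_iff.1 wN h).1 (mem_zpowers h))
  have we : w • e = d := by
    rcases two w wX h hH h1 whw with e0 | e0
    · exact absurd (e0.symm.trans wd) de
    · exact e0
  have mkL : ∀ g ∈ X3 G a b c, g • d = d → g ∈ L4 G a b c d := fun g hg gd => ⟨hg, gd⟩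
  have HN : ∀ x ∈ H, x ∈ normalizer (zpowers h : Set G) := fun x hx => (th.nl x (fr.Hle hx)).2 hx
  have n7 : (fixedBy Ω h).ncard ≠ 7 := by omega
  have wH : ∀ x ∈ H, w * x * w⁻¹ ∈ H := by
    intro x hx
    refine (th.nl _ (mkL _ (mul_mem (mul_mem wX (HX hx)) (inv_mem wX)) ?_)).1
      (mul_mem (mul_mem wN (HN x hx)) (inv_mem wN))
    rw [mul_smul, mul_smul, ← we, inv_smul_smul, th.fixH n7 x hx e eT]
  have w2 : w * w = 1 := by
    refine hw _ ((th.nl _ (mkL _ (mul_mem wX wX) ?_)).1 (mul_mem wN wN)) (mul_assoc _ _ _).symm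
    rw [mul_smul, wd, we]
  have wi : w⁻¹ = w := inv_eq_of_mul_eq_one_right w2
  have inv : ∀ x ∈ H, w * x * w⁻¹ = x⁻¹ := by
    intro x hx
    obtain ⟨y, -, rfl⟩ := exists_comm wH hw hx
    calc w * (y * (w * y⁻¹ * w⁻¹)) * w⁻¹ = w * y * (w * y⁻¹ * (w * w)⁻¹) := by group
      _ = w * y * w⁻¹ * y⁻¹ := by rw [w2, wi]; group
      _ = (y * (w * y⁻¹ * w⁻¹))⁻¹ := by group
  refine ⟨inv, fun s sX s1 s2 => ?_⟩
  have comm : ∀ x ∈ H, ∀ y ∈ H, x * y = y * x := by
    intro x hx y hy
    have e1 := inv _ (mul_mem hx hy)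
    have e2 : w * (x * y) * w⁻¹ = (w * x * w⁻¹) * (w * y * w⁻¹) := by group
    rw [e2, inv x hx, inv y hy, ← mul_inv_rev] at e1
    exact (inv_injective e1).symm
  have cyc : IsCyclic H := cyc_of_comm cx.fh.cyc comm
  have TI : ∀ g ∈ X3 G a b c, ∀ x ∈ H, x ≠ 1 → g * x * g⁻¹ ∈ H → g ∈ H ∨ g * w ∈ H := by
    intro g hg x hx x1 hgx
    rcases two g hg x hx x1 hgx with e0 | e0
    · exact Or.inl (fr.cenH x hx x1 g (mkL g hg e0) hgx)
    · refine Or.inr (fr.cenH x⁻¹ (inv_mem hx) (inv_ne_one.2 x1) _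
        (mkL _ (mul_mem hg wX) (by rw [mul_smul, wd, e0])) ?_)
      have : g * w * x⁻¹ * (g * w)⁻¹ = g * (w * x⁻¹ * w⁻¹) * g⁻¹ := by group
      rw [this, inv _ (inv_mem hx), inv_inv]
      exact hgx
  have wnH : w ∉ H := fun hwH => de ((mem_L4.1 (fr.Hle hwH)).2.2.2.symm.trans wd)
  by_contra hne
  let E : H.subgroupOf (X3 G a b c) ≃* H := subgroupOfEquivOfLe HX
  obtain ⟨N, hN, sN, hNH⟩ := ch (G := X3 G a b c) (H := H.subgroupOf (X3 G a b c))
    (w := ⟨w, wX⟩) (s := ⟨s, sX⟩)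
    (isCyclic_of_surjective E.symm (MulEquiv.surjective _))
    (by rw [Nat.card_congr E.toEquiv]; exact cx.odd)
    (fun e0 => h1 (by
      have : (⟨h, HX hH⟩ : X3 G a b c) ∈ H.subgroupOf (X3 G a b c) := hH
      rw [e0, mem_bot] at this
      exact congrArg Subtype.val this))
    (Subtype.ext w2) wnH (fun x hx => Subtype.ext (inv x hx))
    (fun g x hx x1 hgx => TI g g.2 x hx (fun e0 => x1 (Subtype.ext e0)) hgx)
    (Subtype.ext s2)
    (fun hc => by
      obtain ⟨g, hg⟩ := isConj_iff.1 hc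
      exact hne ⟨g, g.2, congrArg Subtype.val hg⟩)
  obtain ⟨O, hO, O2, sO⟩ := two_sub (N := N) (h := (⟨h, HX hH⟩ : X3 G a b c)) (s := ⟨s, sX⟩)
    (by rw [← orderOf_coe]; exact hp) (fun n hn e0 => by
      have e1 : (n : G) * h = h * n := congrArg Subtype.val e0
      have e2 : (n : G) * h * (n : G)⁻¹ = h := by rw [e1]; group
      rcases TI n n.2 h hH h1 (by rw [e2]; exact hH) with e3 | e3
      · exact hNH n hn e3
      · refine absurd (hw h hH ?_) h1
        have e4 := comm _ e3 h hH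
        calc w * h = (n : G)⁻¹ * ((n : G) * w * h) := by group
          _ = (n : G)⁻¹ * (h * n) * w := by rw [e4]; group
          _ = h * w := by rw [← e1]; group) sN (Subtype.ext s2)
  have := hNo 2 Nat.prime_two (O.map (X3 G a b c).subtype) (map_subtype_le _) (by
    rintro m hm _ ⟨x, hx, rfl⟩
    exact ⟨_, hO.conj_mem x hx ⟨m, hm⟩, rfl⟩) (O2.map _)
  have hs : s ∈ O.map (X3 G a b c).subtype := ⟨_, sO, rfl⟩
  rw [this, mem_bot] at hs
  exact s1 hs

end H26.FB
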