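import Cfsg.Agent.H14.FESpec
import Cfsg.Agent.S0205
import Mathlib.GroupTheory.IsPerfect

/-! S1308, tower FE, job E. -/

set_option autoImplicit false
set_option maxHeartbeats 400000

namespace H26.FE

open Cfsg Subgroup MulAction H14 H98 H1.Gold H31.S2 H14.GC H14.FE
open scoped commutatorElement

universe u

/-- transfer: an isolated involution of an abelian subgroup of odd index of a perfect group -/
theorem iso_eq_one {X : Type u} [Group X] [Finite X] [hX : Group.IsPerfect X] {S : Subgroup X}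
    (hS : ¬ 2 ∣ S.index) (hc : ∀ a ∈ S, ∀ b ∈ S, a * b = b * a) {z : X} (z2 : z * z = 1)
    (hi : ∀ g : X, g⁻¹ * z * g ∈ S → g⁻¹ * z * g = z) : z = 1 := by
  let φ : S →* Abelianization S := Abelianization.of
  have pw : ∀ k : ℕ, z ^ k = 1 ∨ z ^ k = z := by
    intro k
    induction k with
    | zero => exact Or.inl (pow_zero z)
    | succ k ih =>
      rcases ih with e | e
      · exact Or.inr (by rw [pow_succ, e, one_mul])
      · exact Or.inl (by rw [pow_succ, e, z2])
  have h2 : z ∈ (MonoidHom.transfer φ).ker :=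
    Abelianization.commutator_subset_ker _ Group.IsPerfect.mem_commutator
  rw [MonoidHom.mem_ker, MonoidHom.transfer_eq_pow φ z (fun k g hk => by
    rcases pw k with e | e
    · rw [e]; group
    · rw [e] at hk ⊢
      exact hi g hk)] at h2
  have h3 : (⟨z ^ S.index, _⟩ : S) ∈ commutator S := (QuotientGroup.eq_one_iff _).mp h2
  have h4 : commutator S = ⊥ := by
    rw [commutator_def, commutator_eq_bot_iff_le_centralizer]
    intro x _ y _
    exact Subtype.ext (hc _ y.2 _ x.2)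
  rw [h4, mem_bot] at h3
  have h5 : z ^ S.index = 1 := congrArg Subtype.val h3
  obtain ⟨m, hm⟩ := Nat.odd_iff.2 (Nat.two_dvd_ne_zero.1 hS)
  rwa [hm, pow_succ, pow_mul, pow_two, z2, one_pow, one_mul] at h5

/-- all 2-elements have order at most two -/
def E2 {G : Type u} [Group G] (B : Subgroup G) : Prop := ∀ x ∈ B, ∀ k : ℕ, x ^ 2 ^ k = 1 → x * x = 1

theorem E2.comm {G : Type u} [Group G] {B U : Subgroup G} (h : E2 B) (hU : U ≤ B)
    (h2 : IsPGroup 2 U) : ∀ a ∈ U, ∀ b ∈ U, a * b = b * a := by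
  have sq : ∀ a ∈ U, a⁻¹ = a := fun a ha => by
    obtain ⟨k, hk⟩ := isPGroup_iff_forall.1 h2 a ha
    exact inv_eq_of_mul_eq_one_right (h a (hU ha) k hk)
  intro a ha b hb
  rw [← sq _ (mul_mem ha hb), mul_inv_rev, sq a ha, sq b hb]

theorem E2.cj {G : Type u} [Group G] {B : Subgroup G} (h : E2 B) (g : G) : E2 (cj g B) := by
  rintro _ ⟨x, hx, rfl⟩ k hk
  have : x ^ 2 ^ k = 1 := (MulAut.conj g).injective (by rw [map_pow, map_one]; exact hk)
  show MulAut.conj g x * MulAut.conj g x = 1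
  rw [← map_mul, h x hx k this, map_one]

theorem not_central {G : Type u} [Group G] [Finite G] {B : Subgroup G} [Group.IsPerfect B]
    (h : E2 B) {z : G} (hz : z ∈ B) (zi : Inv z) : ∃ x ∈ B, ⁅x, z⁆ ∉ opp 2 B := by
  have : Fact (Nat.Prime 2) := ⟨Nat.prime_two⟩
  by_contra hn
  push Not at hn
  have hO : (pPrimeCore 2 B).Normal := by
    rw [← opp_subgroupOf]
    exact (normal_subgroupOf_iff_le_normalizer (opp_le B)).2 (self_le_normalizer_opp B)
  obtain ⟨S, hS, hzS⟩ := exists_isSyl_le (H := B) zi.isPGroup (zpowers_le_of_mem hz)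
  let f := QuotientGroup.mk' (pPrimeCore 2 B)
  have e : f ⟨z, hz⟩ = 1 := by
    refine iso_eq_one (S := (S.subgroupOf B).map f) (fun hd => hS.not_dvd_relIndex
      (hd.trans (index_map_dvd _ (QuotientGroup.mk'_surjective _)))) ?_ ?_ ?_
    · rintro _ ⟨a, ha, rfl⟩ _ ⟨b, hb, rfl⟩
      rw [← map_mul, ← map_mul]
      congr 1
      exact Subtype.ext (h.comm hS.le hS.isPGroup _ ha _ hb)
    · rw [← map_mul, show (⟨z, hz⟩ : B) * ⟨z, hz⟩ = 1 from Subtype.ext zi.2, map_one]
    · intro g _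
      obtain ⟨x, rfl⟩ := QuotientGroup.mk'_surjective _ g
      have h1 : ⁅x⁻¹, (⟨z, hz⟩ : B)⁆ ∈ pPrimeCore 2 B := by
        rw [← opp_subgroupOf]
        exact hn _ (inv_mem x.2)
      have h2 : f ⁅x⁻¹, (⟨z, hz⟩ : B)⁆ = 1 := (QuotientGroup.eq_one_iff _).2 h1
      rw [commutatorElement_def, inv_inv, map_mul, map_mul, map_mul, map_inv, map_inv,
        mul_inv_eq_one] at h2
      exact h2
  have h3 : z ∈ opp 2 B := ⟨_, (QuotientGroup.eq_one_iff _).1 e, rfl⟩
  have h4 := coprime_orderOf_of_mem (coprime_card_opp (p := 2) B) h3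
  rw [inv_iff.1 zi] at h4
  exact absurd h4 (by decide)

theorem jobE : JobE.{u} := by
  intro G _ _ Q R hR eR hQ
  have : Fact (Nat.Prime 2) := ⟨Nat.prime_two⟩
  have q2 : E2 Q := by
    intro x hx k hk
    obtain ⟨g, -, hg⟩ := hR.exists_cj_le (isPGroup_zpowers hk) (zpowers_le_of_mem hx)
    have := eR _ (hg ⟨x, mem_zpowers x, rfl⟩)
    apply (MulAut.conj g).injective
    rw [map_mul, map_one]
    exact this
  obtain ⟨D, ⟨n, rfl⟩, hmin⟩ := (wellFounded_lt (α := Subgroup Q)).has_min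
    (Set.range (derivedSeries Q)) ⟨_, 0, rfl⟩
  have hD : ⁅derivedSeries Q n, derivedSeries Q n⁆ = derivedSeries Q n := by
    by_contra hne
    exact hmin _ ⟨n + 1, rfl⟩ (lt_of_le_of_ne (commutator_le_self _) hne)
  have hDp : Group.IsPerfect (derivedSeries Q n) := isPerfect_iff.2 hD
  have hEp : Group.IsPerfect ((derivedSeries Q n).map Q.subtype) := Group.IsPerfect.map _
  have hEne : (derivedSeries Q n).map Q.subtype ≠ ⊥ := fun e =>
    hQ ⟨n, (map_eq_bot_iff_of_injective _ Q.subtype_injective).1 e⟩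
  have hN : nor Q ≤ nor ((derivedSeries Q n).map Q.subtype) :=
    normalizer_le_normalizer_map_subtype _
  have hEQ : (derivedSeries Q n).map Q.subtype ≤ Q := map_subtype_le _
  generalize (derivedSeries Q n).map Q.subtype = E at hEp hEne hN hEQ
  have e2 : E2 E := fun x hx => q2 x (hEQ hx)
  have odd : ∀ N : Subgroup E, N.Normal → N.index.Coprime 2 → N = ⊤ := by
    intro N hN hc
    have hs : Group.IsSolvable (E ⧸ N) :=
      Cfsg.Agent.S0205.result (Nat.coprime_two_right.1 hc)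
    by_contra hne
    have : Nontrivial (E ⧸ N) := QuotientGroup.nontrivial_iff.2 hne
    exact Group.IsPerfect.not_isSolvable _ hs
  refine ⟨E, ?_, hN, ?_, ?_, ?_⟩
  · exact (pec_eq_iff_forall_normal.2 odd).ge.trans (pec_mono hEQ)
  · by_contra h4
    obtain ⟨S, hS⟩ := exists_isSyl 2 E
    have hc := e2.comm hS.le hS.isPGroup
    have sq : ∀ a ∈ S, a * a = 1 := fun a ha => by
      obtain ⟨k, hk⟩ := isPGroup_iff_forall.1 hS.isPGroup a ha
      exact e2 a (hS.le ha) k hk
    have hb : S = ⊥ := by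
      rw [eq_bot_iff]
      intro z hz
      by_contra z1
      rw [mem_bot] at z1
      refine z1 (congrArg Subtype.val (iso_eq_one (X := E) (S := S.subgroupOf E)
        hS.not_dvd_relIndex (fun a ha b hb => Subtype.ext (hc _ ha _ hb)) (z := ⟨z, hS.le hz⟩)
        (Subtype.ext (sq z hz)) (fun g hg => ?_)))
      by_contra hne
      have hg' : (g : G)⁻¹ * z * g ∈ S := hg
      refine h4 ⟨_, hS.le hg', z, hS.le hz, ⟨fun e => z1 ?_, sq _ hg'⟩, ⟨z1, sq z hz⟩,
        fun e => hne (Subtype.ext e), hc _ hg' _ hz⟩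
      calc z = g * ((g : G)⁻¹ * z * g) * (g : G)⁻¹ := by group
        _ = 1 := by rw [e]; group
    have h2 : ¬ 2 ∣ Nat.card E := hS.eq_bot_iff.1 hb
    have := odd ⊥ inferInstance (by
      rw [index_bot]
      exact ((Nat.Prime.coprime_iff_not_dvd Nat.prime_two).2 h2).symm)
    have : Nontrivial E := (nontrivial_iff_ne_bot E).2 hEne
    exact bot_ne_top ‹(⊥ : Subgroup E) = ⊤›
  · rintro _ ⟨g, rfl⟩ U hU h2 x hx y hy -
    exact (e2.cj g).comm hU h2 x hx y hy
  · rintro _ ⟨g, rfl⟩ z hz zi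
    have : Group.IsPerfect (cj g E) := Group.IsPerfect.map _
    exact not_central (e2.cj g) hz zi

end H26.FE
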