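import Cfsg.Agent.H26.HKF0

/-! HKS tower, job AS: a four-group of involutions of type SL. -/

set_option autoImplicit false
set_option linter.unusedSectionVars false

namespace H26.HK

open MulAction Cfsg Subgroup H89.K H65 H7.HKS H98 H44.HK H3.HK2 H72.HKS

universe u

variable {G Ω : Type u} [Group G] [Finite G] [MulAction G Ω] {U : Ω → Subgroup G} {a b : Ω}
  {t v w g z u : G} {X : Set G} {F : Type} [Field F] [Fintype F] {x y : F → G}

theorem card_CU_conj (h : Rg U) (hab : a ≠ b) (ht : Iv t a b) (hv : Iv v a b) (c : IsConj t v) :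
    Nat.card (CU U {v} a) = Nat.card (CU U {t} a) := by
  have h1 := (kit1.fx h hab (iv_sub ht)).2.1
  have h2 := (kit1.fx h hab (iv_sub hv)).2.1
  have h3 := card_fix_of_isConj (Ω := Ω) c
  have e : ∀ s : G, (Fx Ω {s}).ncard = Nat.card {c : Ω // s • c = c} := fun s => by
    rw [← Nat.card_coe_set_eq]
    exact Nat.card_congr (Equiv.subtypeEquivRight fun _ => mem_fx1)
  rw [e] at h1 h2
  omega

theorem n_LX (h : Rg U) (hab : a ≠ b) (hX : X ⊆ St G a b)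
    (L : LD x y (CU U X a) (CU U X b) a b) (c : F) : sl2n x y c ∈ LX U X :=
  kit2.lx h hab hX L ▸ nm L c

theorem h_LX (h : Rg U) (hab : a ≠ b) (hX : X ⊆ St G a b)
    (L : LD x y (CU U X a) (CU U X b) a b) (c : F) : sl2h x y c ∈ LX U X :=
  mul_mem (n_LX h hab hX L c) (n_LX h hab hX L _)

theorem h_St (h : Rg U) (hab : a ≠ b) (L : LD x y (CU U X a) (CU U X b) a b) {c : F} (hc : c ≠ 0) :
    sl2h x y c ∈ St G a b :=
  (kit2.bas h.sr hab inf_le_left inf_le_left L).2.2.2.1 c hc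

theorem exists_h (h : Rg U) (hab : a ≠ b) (hX : X ⊆ St G a b)
    (L : LD x y (CU U X a) (CU U X b) a b) (hg : g ∈ LX U X ⊓ St G a b) :
    ∃ c, c ≠ 0 ∧ g = sl2h x y c :=
  (kit2.bas h.sr hab inf_le_left inf_le_left L).2.2.2.2.2.2.2.2.1 g (kit2.lx h hab hX L ▸ hg.1) hg.2

theorem n_sq (h : Rg U) (hab : a ≠ b) (L : LD x y (CU U X a) (CU U X b) a b) {c : F} (hc : c ≠ 0) :
    sl2n x y c * sl2n x y c = sl2h x y (-1) :=
  (kit2.bas h.sr hab inf_le_left inf_le_left L).2.2.2.2.2.1 c hc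

theorem zeta_comm (h : Rg U) (hab : a ≠ b) (L : LD x y (CU U X a) (CU U X b) a b)
    (hu : u ∈ CU U X a) : u * sl2h x y (-1) = sl2h x y (-1) * u :=
  (kit2.bas h.sr hab inf_le_left inf_le_left L).2.2.2.2.2.2.2.1 u (mem_sup_left hu)

theorem h_inj (h : Rg U) (hab : a ≠ b) (L : LD x y (CU U X a) (CU U X b) a b)
    (hz : sl2h x y (-1) ≠ 1) {c d : F} (hc : c ≠ 0) (hd : d ≠ 0) (e : sl2h x y c = sl2h x y d) :
    c = d := by
  have e1 : sl2h x y (c * d⁻¹) = 1 := by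
    rw [← L.rel.h_mul' hc (inv_ne_zero hd), e, L.rel.h_mul' hd (inv_ne_zero hd), mul_inv_cancel₀ hd,
      L.rel.h_one]
  rcases (kit2.bas h.sr hab inf_le_left inf_le_left L).2.2.2.2.2.2.2.2.2.2.1 _
    (mul_ne_zero hc (inv_ne_zero hd)) e1 with e2 | e2
  · exact (mul_inv_eq_one₀ hd).1 e2
  · exact (hz (e2 ▸ e1)).elim

theorem h_conj_x {A B : Subgroup G} (L : LD x y A B a b) {c : F} (hc : c ≠ 0) (e : F) :
    sl2h x y c * x e * (sl2h x y c)⁻¹ = x (c ^ 2 * e) := by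
  rw [L.rel.h_mul_x hc, mul_inv_cancel_right]

theorem x_ne_zero {A B : Subgroup G} (L : LD x y A B a b) {c : F} (hc : x c ≠ 1) : c ≠ 0 :=
  fun e => hc (e ▸ L.rel.x_zero)

/-- an element of the torus with a fixed point on the root group is central -/
theorem h_fix {A B : Subgroup G} (L : LD x y A B a b) {c : F} (hc : c ≠ 0) (hu : u ∈ A)
    (h1 : u ≠ 1) (e : sl2h x y c * u = u * sl2h x y c) :
    sl2h x y c = 1 ∨ sl2h x y c = sl2h x y (-1) := by
  obtain ⟨d, rfl⟩ := (L.rx u).1 hu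
  have := L.inj ((h_conj_x L hc d).symm.trans (mul_inv_eq_iff_eq_mul.2 e))
  rw [sq] at this
  rcases mul_self_eq_one_iff.1 (mul_right_cancel₀ (x_ne_zero L h1) (this.trans (one_mul d).symm))
    with e | e
  · exact .inl (e ▸ L.rel.h_one)
  · exact .inr (e ▸ rfl)

/-- an involution inverting both root groups inverts `n(c)` -/
theorem inv_n {A B : Subgroup G} (L : LD x y A B a b) (v2 : v * v = 1)
    (ha : ∀ u ∈ A, v * u * v = u⁻¹) (hb : ∀ u ∈ B, v * u * v = u⁻¹) (c : F) :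
    v * sl2n x y c * v = (sl2n x y c)⁻¹ := by
  rw [sl2n, mul_inv_rev, mul_inv_rev, ← ha _ (xm L c), ← hb _ (ym L _)]
  simp only [mul_assoc]
  rw [← mul_assoc v v, ← mul_assoc v v, v2, one_mul, one_mul]

theorem zeta_eq (h : C4 U) (hab : a ≠ b) (ht : Iv t a b) (s : SLt U t)
    (L : LD x y (CU U {t} a) (CU U {t} b) a b) : sl2h x y (-1) = t :=
  ((h.sl hab ht L).resolve_right fun e => e.1 s).2

theorem eq_one_of_inv (h : Rg U) (hu : u ∈ U a) (t2 : t * t = 1) (c : u * t = t * u)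
    (e : t * u * t = u⁻¹) : u = 1 :=
  odd_sq h.sr hu (by rwa [← c, mul_assoc, t2, mul_one, eq_inv_iff_mul_eq_one] at e)

theorem as_cv (h : C4 U) (hab : a ≠ b) (f : Fr z v a b) (hg : g ∈ LX U {z} ⊓ St G a b) :
    g * v = v * g := by
  obtain ⟨F, _, _, x, y, L⟩ := (h.tl hab f.1).1
  obtain ⟨c, hc, rfl⟩ := exists_h h.toRg hab (iv_sub f.1) L hg
  have v2 := sq_of_ord f.2.1.2
  have e := inv_n L v2 (h.neg hab f) (h.neg hab.symm (fr_swap f))
  have : v * sl2h x y c * v = sl2h x y c := by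
    calc v * sl2h x y c * v = v * sl2n x y c * v * (v * sl2n x y (-1) * v) := by
          simp only [sl2h, mul_assoc]; rw [← mul_assoc v v, v2, one_mul]
      _ = _ := by
          rw [e, e, ← L.rel.n_neg, ← L.rel.n_neg, neg_neg, L.rel.n_mul_n_one (neg_ne_zero.2 hc),
            neg_neg]
  conv_lhs => rw [← this, mul_assoc, v2, mul_one]

theorem as_ab (h : C4 U) (hab : a ≠ b) (f : Fr z v a b) (c1 : IsConj z v) (c2 : IsConj z (z * v)) :
    ∀ u ∈ U a, ∀ u' ∈ U a, u * u' = u' * u := by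
  let Z := U a ⊓ centralizer (U a : Set G)
  have nZ : ∀ g ∈ St G a b, g ∈ normalizer (Z : Set G) := fun g hg =>
    inf_normalizer_le_normalizer_inf ⟨nr_of_conj h.conj a hg.1,
      normalizer_le_normalizer_centralizer _ (nr_of_conj h.conj a hg.1)⟩
  have key : ∀ s, Iv s a b → ∀ w ∈ Z ⊓ centralizer {s}, w ≠ 1 → CU U {s} a ≤ Z := fun s hs w hw w1 => by
    obtain ⟨F, _, _, x, y, L⟩ := (h.tl hab hs).1
    rcases (kit2.bas h.toRg.sr hab inf_le_left inf_le_left L).2.2.2.2.2.2.2.2.2.2.2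
      (Z ⊓ CU U {s} a) inf_le_right (fun c hc w hw => by
        refine ⟨(mem_normalizer_iff.1 (nZ _ (h_St h.toRg hab L hc)) w).1 hw.1, ?_⟩
        obtain ⟨e, rfl⟩ := (L.rx w).1 hw.2
        rw [h_conj_x L hc]; exact xm L _) with e | e
    · exact (w1 (mem_bot.1 (e ▸ ⟨hw.1, hw.1.1, hw.2⟩))).elim
    · exact inf_eq_right.1 e
  have tr : ∀ s s', Iv s a b → Iv s' a b → IsConj s s' → CU U {s} a ≤ Z → CU U {s'} a ≤ Z :=
    fun s s' hs hs' c e u hu => by
      obtain ⟨k, hk, rfl⟩ := (kit1.cnt h.toRg hab hs.1 hs.2 (h.fx3 hab hs) rfl).1 s' ⟨c, hs'.1⟩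
      refine (mem_normalizer_iff''.1 (nZ k hk) u).2 (e ⟨?_, mem_c1.2 ?_⟩)
      · exact (mem_normalizer_iff''.1 (nr_of_conj h.conj a hk.1) u).1 hu.1
      · have := mem_c1.1 hu.2
        calc k⁻¹ * u * k * s = k⁻¹ * (u * (k * s * k⁻¹)) * k := by group
          _ = _ := by rw [this]; group
  have hz : CU U {z} a ≤ Z := by
    have := h.nil a
    have : Nontrivial (U a) := (nontrivial_iff_ne_bot _).2 fun e =>
      h.fx3 hab f.1 (eq_bot_iff.2 (inf_le_left.trans e.le))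
    obtain ⟨w, wc, w1⟩ := (bot_or_exists_ne_one _).resolve_left
      (Group.IsNilpotent.center_ne_bot (G := U a))
    have wZ : w.1 ∈ Z := ⟨w.2, fun s hs => congrArg Subtype.val (mem_center_iff.1 wc ⟨s, hs⟩)⟩
    obtain ⟨w₁, h1, w₂, h2, w₃, h3, e⟩ := (kit1.wie Z z v
      ((h.odd a).of_dvd_nat (card_dvd_of_le inf_le_left)) (nZ _ f.1.1) (nZ _ f.2.1.1)
      (sq_of_ord f.1.2) (sq_of_ord f.2.1.2) f.2.2.2).2 _ wZ
      (Group.nilpotent_of_mulEquiv (subgroupOfEquivOfLe (inf_le_left : Z ≤ U a)))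
    by_cases e1 : w₁ = 1
    · by_cases e2 : w₂ = 1
      · refine tr _ _ (fr_mul_iv f) f.1 c2.symm (key _ (fr_mul_iv f) _ h3 fun e3 => w1 ?_)
        exact Subtype.ext (by simpa [e1, e2, e3] using e)
      · exact tr _ _ f.2.1 f.1 c1.symm (key _ f.2.1 _ h2 e2)
    · exact key _ f.1 _ h1 e1
  intro u hu u' hu'
  obtain ⟨u₁, h1, u₂, h2, u₃, h3, rfl⟩ := (f_wie h.toRg f).2 u hu
  exact ((mul_mem (mul_mem (hz h1) (tr _ _ f.1 f.2.1 c1 hz h2))
    (tr _ _ f.1 (fr_mul_iv f) c2 hz h3)).2 u' hu').symm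

/-- For abelian root groups the local types are A and L. -/
theorem typ_ab (h : Core U) (ab : ∀ u ∈ U a, ∀ u' ∈ U a, u * u' = u' * u) (hab : a ≠ b)
    (hX : X ⊆ St G a b) (h1 : ∃ g ∈ X, g ≠ 1) (hu : u ∈ CU U X a) (u1 : u ≠ 1) :
    TA U X a ∨ TL U X a b := by
  rcases h.loc X a b hab hX h1 (fun e => u1 (mem_bot.1 (e ▸ hu))) with e | e | e | e
  · exact .inl e
  · exact .inr e
  · obtain ⟨F, _, _, x, y, L, c, -⟩ := e
    have c1 := (kit2.bas h.toRg.sr hab (inf_le_left.trans inf_le_left)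
      (inf_le_left.trans inf_le_left) L).2.1
    change Nat.card (ZU U X a) = _ at c1
    rw [show ZU U X a = CU U X a from inf_eq_left.2 fun u hu v hv => ab v hv.1 u hu.1, c] at c1
    have := Fintype.one_lt_card (α := F)
    have := Nat.pow_lt_pow_right this (show 1 < 3 by norm_num)
    rw [pow_one] at this
    omega
  · obtain ⟨q, w, e⟩ := e
    obtain ⟨f, hf⟩ := e.pow
    have := e.der
    rw [(commutator_eq_bot_iff_le_centralizer (H₁ := CU U X a) (H₂ := CU U X a)).2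
      fun u hu v hv => ab v hv.1 u hu.1, card_bot, hf] at this
    have := Nat.one_lt_pow (n := 2 * f + 1) (a := 3) (by omega) (by omega)
    omega

/-- A common root element with an involution of type SL. -/
theorem le_of_meet (h : C4 U) (ab : ∀ u ∈ U a, ∀ u' ∈ U a, u * u' = u' * u) (hab : a ≠ b)
    (hX : X ⊆ St G a b) (h1 : ∃ g ∈ X, g ≠ 1) (ht : Iv t a b) (s : SLt U t) (hu : u ∈ CU U X a)
    (hu' : u ∈ CU U {t} a) (u1 : u ≠ 1) : CU U X a ≤ CU U {t} a := by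
  obtain ⟨F, _, _, x, y, L⟩ := (h.tl hab ht).1
  have z := zeta_eq h hab ht s L
  obtain ⟨c, rfl⟩ := (L.rx u).1 hu'
  have c0 := x_ne_zero L u1
  rcases typ_ab h.toCore ab hab hX h1 hu u1 with ⟨-, E, e⟩ | ⟨K, _, _, x', y', L'⟩
  · have xL : x c ∈ LX U X := CU_le_LX (fx_a hX) hu
    have e1 : y (-c⁻¹) • a = (x c)⁻¹ • b := by
      have := (L.sw c c0).1
      rw [sl2n, mul_smul, mul_smul, h.fix a _ hu.1] at this
      rw [← this, inv_smul_smul]
    have hX' : X ⊆ St G b a := St_comm (G := G) a b ▸ hX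
    rcases ((kit1.fx h.toRg hab.symm hX').1 _).1 (fx_smul (inv_mem hu.2) (fx_b hX)) with e2 | e2
    · exact (u1 (h.reg hab.symm _ hu.1 (by rw [inv_smul_eq_iff] at e2; exact e2.symm))).elim
    obtain ⟨p, hp, e2⟩ := e2
    have e3 : p⁻¹ * y (-c⁻¹) = 1 := h.reg hab _ (mul_mem (inv_mem hp.1) (ym L _).1)
      (by rw [mul_smul, e1, ← e2, inv_smul_smul])
    have yL : y (-c⁻¹) ∈ LX U X := inv_mul_eq_one.1 e3 ▸ CU_le_LX (fx_b hX) hp
    have nL : sl2n x y c ∈ LX U X := mul_mem (mul_mem xL yL) xL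
    refine (ne_of_ord ht.2 ((kit2.aa h.toRg hab hX e).2.2.1 t ?_ ht.1)).elim
    rw [← z, ← n_sq h.toRg hab L c0]
    exact mul_mem nL nL
  · obtain ⟨c', hc'⟩ := (L'.rx _).1 hu
    have e := kit2.mu h.toRg.sr hab inf_le_left inf_le_left inf_le_left inf_le_left L L' c c' c0
      hc'.symm
    have e1 : sl2h x' y' (-1) = t := by
      rw [← n_sq h.toRg hab L' (x_ne_zero L' (hc' ▸ u1)), ← e, n_sq h.toRg hab L c0, z]
    exact fun w hw => ⟨hw.1, mem_c1.2 (e1 ▸ zeta_comm h.toRg hab L' hw)⟩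

theorem exists_CU (h : C3 U) (hab : a ≠ b) (ht : Iv t a b) : ∃ u ∈ CU U {t} a, u ≠ 1 :=
  (bot_or_exists_ne_one _).resolve_left (h.fx3 hab ht)

/-- An element of the torus of `z` other than `1`, `z` centralises only inverted elements. -/
theorem inv_of_T (h : C4 U) (hab : a ≠ b) (hz : Iv z a b) (s : SLt U z)
    (hg : g ∈ LX U {z} ⊓ St G a b) (g1 : g ≠ 1) (gz : g ≠ z) (hu : u ∈ CU U {g} a) :
    z * u * z = u⁻¹ := by
  obtain ⟨F, _, _, x, y, L⟩ := (h.tl hab hz).1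
  have z2 := sq_of_ord hz.2
  have c := mem_c1.1 ((kit1.fx h.toRg hab (iv_sub hz)).2.2.2.1 hg.1)
  obtain ⟨i, -, p, hp, e1, e2, rfl⟩ := odd_dec (odd_CU h.toRg {g} a)
    (norm_CU h.toRg.sr (nr_of_comm c.symm) hz.1.1) z2 hu
  have p1 : p = 1 := by
    by_contra p1
    obtain ⟨c, hc, rfl⟩ := exists_h h.toRg hab (iv_sub hz) L hg
    rcases h_fix L hc ⟨hp.1, mem_c1.2 e2⟩ p1 (mem_c1.1 hp.2).symm with e | e
    exacts [g1 e, gz (e.trans (zeta_eq h hab hz s L))]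
  rwa [p1, mul_one, ← e1, mul_right_inj, eq_comm, inv_eq_iff_mul_eq_one]

theorem as_semiT (h : C4 U) (ab : ∀ u ∈ U a, ∀ u' ∈ U a, u * u' = u' * u) (hab : a ≠ b)
    (hz : Iv z a b) (s : SLt U z) (hg : g ∈ LX U {z} ⊓ St G a b) (hu : u ∈ U a)
    (e : z * u * z = u⁻¹) (c : g * u = u * g) : g = 1 ∨ u = 1 := by
  by_contra hn
  obtain ⟨g1, u1⟩ := not_or.1 hn
  have z2 := sq_of_ord hz.2
  have gz : g ≠ z := fun e1 => u1 (eq_one_of_inv h.toRg hu z2 (e1 ▸ c.symm) e)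
  have hX : ({g} : Set G) ⊆ St G a b := by simpa using hg.2
  have hu' : u ∈ CU U {g} a := ⟨hu, mem_c1.2 c.symm⟩
  have ia := fun u => inv_of_T (u := u) h hab hz s hg g1 gz
  have ib := fun u => inv_of_T (u := u) h hab.symm (iv_symm hz) s ⟨hg.1, hg.2.2, hg.2.1⟩ g1 gz
  have cz := mem_c1.1 ((kit1.fx h.toRg hab (iv_sub hz)).2.2.2.1 hg.1)
  obtain ⟨F, _, _, x, y, L⟩ := (h.tl hab hz).1
  have ζ := zeta_eq h hab hz s L
  have ζ1 : sl2h x y (-1) ≠ 1 := ζ ▸ ne_of_ord hz.2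
  obtain ⟨d, hd, rfl⟩ := exists_h h.toRg hab (iv_sub hz) L hg
  rcases typ_ab h.toCore ab hab hX ⟨_, rfl, g1⟩ hu' u1 with ⟨h7, E, D⟩ | ⟨K, _, _, x', y', L'⟩
  · have := (((kit2.aa h.toRg hab hX D).2.2.2.2 z hz.1 (mem_c1.2 cz.symm)).2.2 z2 1 (by
      rw [card_eq_one, eq_bot_iff]
      intro p hp
      have := mem_c2.1 hp.2
      exact eq_one_of_inv h.toRg hp.1 z2 this.1 (ia p ⟨hp.1, mem_c1.2 this.2⟩))).1
    omega
  have nz := inv_n L' z2 ia ib 1
  have nL := n_LX h.toRg hab hX L' 1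
  have ng := mem_c1.1 ((kit1.fx h.toRg hab hX).2.2.2.1 nL)
  have nn := L'.rel.n_one_sq
  have sw := L'.sw 1 one_ne_zero
  generalize sl2n x' y' 1 = n at nz nL ng nn sw
  by_cases z1 : sl2h x' y' (-1) = 1
  · rw [z1] at nn
    have c1 : n * z = z * n := by
      rw [inv_eq_of_mul_eq_one_right nn] at nz
      conv_lhs => rw [← nz, mul_assoc, z2, mul_one]
    have ne : ∀ s ∈ St G a b, n ≠ s := fun s hs e => hab (by rw [← sw.1, e, hs.1])
    obtain ⟨μ, -, -, e1, -⟩ := kit2.swp h.toRg hab (iv_sub hz) L n (nr_of_comm c1) sw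
      (fun c _ => by rw [← mul_smul, nn, one_smul]) (by
        by_contra h3
        exact (h.nof hab hz n nn c1 (by omega)).elim (ne 1 (one_mem _)) (ne z hz.1))
    have e2 := h_inj h.toRg hab L ζ1 hd (inv_ne_zero hd)
      (by rw [← e1 d hd, ng, mul_inv_cancel_right])
    rcases mul_self_eq_one_iff.1 (show d * d = 1 by nth_rw 2 [e2]; exact mul_inv_cancel₀ hd)
      with e3 | e3
    exacts [g1 (e3 ▸ L.rel.h_one), gz (e3 ▸ ζ)]
  have n1 : (-1 : K) ≠ 0 := neg_ne_zero.2 one_ne_zero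
  have cw := fun u => zeta_comm (u := u) h.toRg hab L'
  have iw : Iv (sl2h x' y' (-1)) a b := ⟨h_St h.toRg hab L' n1, ord_of_sq
    (by rw [L'.rel.h_mul' n1 n1, neg_mul_neg, one_mul, L'.rel.h_one]) z1⟩
  obtain ⟨M, _, _, x'', y'', L''⟩ := (h.tl hab iw).1
  have x1 : x' 1 ≠ 1 := fun e => one_ne_zero (L'.inj (e.trans L'.rel.x_zero.symm))
  obtain ⟨c'', hc''⟩ := (L''.rx (x' 1)).1 ⟨(xm L' 1).1, mem_c1.2 (cw _ (xm L' 1))⟩
  have ζ'' : sl2h x'' y'' (-1) = sl2h x' y' (-1) := by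
    rw [← n_sq h.toRg hab L'' (x_ne_zero L'' (hc'' ▸ x1)), ← kit2.mu h.toRg.sr hab inf_le_left
      inf_le_left inf_le_left inf_le_left L' L'' 1 c'' one_ne_zero hc''.symm, L'.rel.n_one_sq]
  generalize sl2h x' y' (-1) = w at nn z1 cw iw L'' ζ''
  have w2 := sq_of_ord iw.2
  have e1 : n * z * n⁻¹ = w * z := by
    rw [← nz, ← nn]
    simp only [mul_assoc]
    rw [← mul_assoc z z, z2, one_mul]
  have wz : z * w = w * z := by
    have : z * w * z = w := by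
      calc z * w * z = z * n * z * (z * n * z) := by
            rw [← nn]; simp only [mul_assoc]; rw [← mul_assoc z z, z2, one_mul]
        _ = w := by rw [nz, ← mul_inv_rev, nn, inv_eq_iff_mul_eq_one, w2]
    conv_rhs => rw [← this, mul_assoc, z2, mul_one]
  have f : Fr z w a b := ⟨hz, iw, fun e1 => u1 (eq_one_of_inv h.toRg hu z2 (e1 ▸ cw u hu') e), wz⟩
  have m1 := conj_mem_LX h.toRg.sr n hg.1
  rw [e1, ng, mul_inv_cancel_right] at m1
  have nw := inv_n L w2 (h.neg hab f) (h.neg hab.symm (fr_swap f)) 1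
  have mz := mem_c1.1 ((kit1.fx h.toRg hab (iv_sub hz)).2.2.2.1 (n_LX h.toRg hab (iv_sub hz) L 1))
  have m2 := conj_mem_LX h.toRg.sr (sl2n x y 1) m1
  have e2 : sl2n x y 1 * (w * z) * (sl2n x y 1)⁻¹ = w := by
    calc _ = sl2n x y 1 * w * (sl2n x y 1)⁻¹ * z := by
          simp only [mul_assoc]; rw [(show Commute (sl2n x y 1) z from mz).inv_left.eq]
      _ = sl2n x y 1 * sl2n x y 1 * w * z := by
          rw [← nw]; simp only [mul_assoc]; rw [← mul_assoc w w, w2, one_mul]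
      _ = w := by rw [L.rel.n_one_sq, ζ, wz, mul_assoc, z2, mul_one]
  rw [e2, (kit2.bas h.toRg.sr hab inf_le_left inf_le_left L).2.2.2.2.2.2.1 d 1 hd one_ne_zero] at m2
  have m3 : sl2h x y d ∈ LX U {w} := by
    rw [eq_inv_of_mul_eq_one_left (a := sl2h x y d) (b := sl2h x y d⁻¹)
      (by rw [L.rel.h_mul' hd (inv_ne_zero hd), mul_inv_cancel₀ hd, L.rel.h_one])]
    exact inv_mem m2
  obtain ⟨d', hd', e3⟩ := exists_h h.toRg hab (iv_sub iw) L'' ⟨m3, hg.2⟩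
  rcases h_fix L'' hd' ⟨hu, mem_c1.2 (cw u hu')⟩ u1 (e3 ▸ c) with e4 | e4
  · exact g1 (e3.trans e4)
  · rw [← e3, ζ''] at e4
    rcases ((kit2.grp h.toRg.sr hab inf_le_left inf_le_left L).1 ζ1).2 _
      (kit2.lx h.toRg hab (iv_sub hz) L ▸ hg.1) (by rw [e4, w2]) with e5 | e5
    exacts [g1 e5, gz (e5.trans ζ)]

theorem as_comm (h : C4 U) (hab : a ≠ b) (f : Fr z v a b) (sv : SLt U v)
    (hg : g ∈ LX U {z} ⊓ St G a b) (hw : w ∈ LX U {v} ⊓ St G a b) : g * w = w * g := by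
  obtain ⟨F, _, _, x, y, L⟩ := (h.tl hab f.1).1
  obtain ⟨K, _, _, x', y', L'⟩ := (h.tl hab f.2.1).1
  have ζ1 : sl2h x' y' (-1) ≠ 1 := zeta_eq h hab f.2.1 sv L' ▸ ne_of_ord f.2.1.2
  have ng := nr_of_comm (as_cv h hab f hg)
  obtain ⟨l, σ, -, -, -, -, hσ⟩ := kit2.semi h.toRg.sr hab inf_le_left inf_le_left L' g hg.2
    (norm_CU h.toRg.sr ng hg.2.1) (norm_CU h.toRg.sr ng hg.2.2)
  have key : ∀ d : K, σ (σ d) * d = σ d ^ 2 := fun d => by
    by_cases hd : d = 0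
    · simp [hd]
    have σd : σ d ≠ 0 := by simpa using hd
    have q0 := mul_ne_zero σd (inv_ne_zero hd)
    have m : sl2h x' y' d ∈ LX U {v} ⊓ St G a b :=
      ⟨h_LX h.toRg hab (iv_sub f.2.1) L' d, h_St h.toRg hab L' hd⟩
    have e1 : sl2h x' y' (σ d * d⁻¹) = g * (sl2h x' y' d * g * (sl2h x' y' d)⁻¹)⁻¹ := by
      rw [← L'.rel.h_mul' σd (inv_ne_zero hd), ← hσ d hd, eq_inv_of_mul_eq_one_right
        (a := sl2h x' y' d) (b := sl2h x' y' d⁻¹)
        (by rw [L'.rel.h_mul' hd (inv_ne_zero hd), mul_inv_cancel₀ hd, L'.rel.h_one])]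
      group
    have m1 := conj_mem_LX h.toRg.sr (sl2h x' y' d) hg.1
    rw [as_cv h hab (fr_symm f) m, mul_inv_cancel_right] at m1
    obtain ⟨c, hc, e2⟩ := exists_h h.toRg hab (iv_sub f.1) L
      (mul_mem hg (inv_mem (show _ ∈ LX U {z} ⊓ St G a b from
        mem_inf.2 ⟨m1, mul_mem (mul_mem (mem_inf.1 m).2 hg.2) (inv_mem (mem_inf.1 m).2)⟩)))
    obtain ⟨c', hc', e3⟩ := exists_h h.toRg hab (iv_sub f.1) L hg
    have e4 := hσ _ q0
    rw [e1, e2, e3, L.rel.h_mul' hc' hc, mul_comm, ← L.rel.h_mul' hc hc', mul_inv_cancel_right,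
      ← e2, ← e1] at e4
    have e5 := h_inj h.toRg hab L' ζ1 q0 ((map_ne_zero σ).2 q0) e4
    rw [map_mul, map_inv₀] at e5
    field_simp at e5
    linear_combination -e5
  have two : (2 : K) ≠ 0 := fun e => by
    have o := (kit2.bas h.toRg.sr hab inf_le_left inf_le_left L').1
    have := FiniteField.even_card_of_char_two (F := K) (CharP.ringChar_of_prime_eq_zero
      Nat.prime_two (by exact_mod_cast e))
    exact absurd (Nat.odd_iff.1 o) (by omega)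
  obtain ⟨d, hd, rfl⟩ := exists_h h.toRg hab (iv_sub f.2.1) L' hw
  have k1 := key d
  have k2 := key (d + 1)
  simp only [map_add, map_one] at k2
  have k3 : σ (σ d) = d := sub_eq_zero.1 (pow_eq_zero_iff two_ne_zero |>.1
    (by linear_combination (σ (σ d) + d + 2 * σ d) * (k2 - k1) - 4 * k1))
  have k4 : σ d = d := mul_left_cancel₀ two (by linear_combination k1 - k2 + k3)
  rw [← mul_inv_eq_iff_eq_mul, hσ d hd, k4]

theorem jobAS : JobAS.{u} := by
  intro G Ω _ _ _ U a b z v h hab f sz sv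
  have z2 := sq_of_ord f.1.2
  obtain ⟨-, cj, hn⟩ := h.slc hab f.1 sz
  obtain ⟨n, -, en⟩ := hn v f
  have s3 : SLt U (z * v) := en ▸ h.slJ n v sv
  have c1 := cj v f.2.1 sv
  have c2 := cj _ (fr_mul_iv f) s3
  have ab := as_ab h hab f c1 c2
  have cz := card_CU_conj h.toRg hab f.1 f.2.1 c1
  have nv := h.neg hab (fr_symm f)
  refine ⟨s3, cz, card_CU_conj h.toRg hab f.1 (fr_mul_iv f) c2, ab, fun k hk u hu e c => ?_,
    fun l hl u hu => as_semiT h ab hab f.1 sz hl hu, fun g hg c => ?_, fun l => as_cv h hab f,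
    fun u hu u' hu' u1 u1' => ?_, fun l hl l' => as_comm h hab f sv hl⟩
  · refine or_iff_not_imp_left.2 fun k1 => ?_
    have kf := (mem_fixingSubgroup_iff G).1 hk.1
    have kS : k ∈ St G a b := ⟨kf a (fx_a (iv_sub f.1)), kf b (fx_b (iv_sub f.1))⟩
    obtain ⟨p, hp, p1⟩ := exists_CU h.toC3 hab f.1
    have := le_of_meet (X := {k}) h ab hab (by simpa using kS) ⟨k, rfl, k1⟩ f.1 sz
      ⟨hp.1, mem_c1.2 ((kit1.fx h.toRg hab (iv_sub f.1)).2.2.2.2.2.1 k kf p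
        (CU_le_LX (fx_a (iv_sub f.1)) hp)).symm⟩ hp p1 ⟨hu, mem_c1.2 c.symm⟩
    exact eq_one_of_inv h.toRg hu z2 (mem_c1.1 this.2) e
  · by_contra g1
    obtain ⟨p, hp, p1⟩ := exists_CU h.toC3 hab f.2.1
    obtain ⟨r, hr, r1⟩ := exists_CU h.toC3 hab (fr_mul_iv f)
    have er := h.neg hab (fr_symm (fr_mul f)) r hr
    have := le_of_meet (X := {g}) h ab hab (by simpa using hg) ⟨g, rfl, g1⟩ f.2.1 sv
      ⟨hp.1, mem_c1.2 (c p hp.1 (nv p hp)).symm⟩ hp p1 ⟨hr.1, mem_c1.2 (c r hr.1 er).symm⟩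
    refine r1 (eq_one_of_inv h.toRg hr.1 z2 (mul_right_cancel (b := v) ?_) er)
    rw [mul_assoc, mem_c1.1 hr.2, mul_assoc, mul_assoc, mem_c1.1 this.2]
  · obtain ⟨F, _, _, x, y, L⟩ := (h.tl hab f.1).1
    have ζ1 : sl2h x y (-1) ≠ 1 := zeta_eq h hab f.1 sz L ▸ ne_of_ord f.1.2
    have m : ∀ c, c ≠ 0 → sl2h x y c ∈ LX U {z} ⊓ St G a b := fun c hc =>
      ⟨h_LX h.toRg hab (iv_sub f.1) L c, h_St h.toRg hab L hc⟩
    have mm : ∀ c, c ≠ 0 → sl2h x y c * u * (sl2h x y c)⁻¹ ∈ CU U {v} a := fun c hc =>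
      (mem_normalizer_iff.1 (norm_CU h.toRg.sr (nr_of_comm (as_cv h hab f (m c hc)))
        (m c hc).2.1) u).1 hu
    have ne : ∀ k : G, k * u * k⁻¹ ≠ 1 := fun k e => u1 (by simpa using e)
    classical
    let φ : F → CU U {v} a := fun c => if hc : c = 0 then 1 else ⟨_, mm c hc⟩
    have inj : Function.Injective φ := fun c d e => by
      by_cases hc : c = 0 <;> by_cases hd : d = 0
      · rw [hc, hd]
      · exact absurd (by simpa [φ, hc, hd, Subtype.ext_iff] using e.symm) (ne (sl2h x y d))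
      · exact absurd (by simpa [φ, hc, hd, Subtype.ext_iff] using e) (ne (sl2h x y c))
      · have e1 : sl2h x y c * u * (sl2h x y c)⁻¹ = sl2h x y d * u * (sl2h x y d)⁻¹ := by
          simpa [φ, hc, hd, Subtype.ext_iff] using e
        rcases as_semiT h ab hab f.1 sz (mul_mem (inv_mem (m d hd)) (m c hc)) hu.1 (nv u hu)
          (by
            calc _ = (sl2h x y d)⁻¹ * (sl2h x y c * u * (sl2h x y c)⁻¹) * sl2h x y c := by group
              _ = _ := by rw [e1]; group) with e2 | e2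
        · exact h_inj h.toRg hab L ζ1 hc hd (inv_mul_eq_one.1 e2).symm
        · exact (u1 e2).elim
    obtain ⟨c, hc⟩ := ((Nat.bijective_iff_injective_and_card φ).2 ⟨inj, by
      rw [cz, Nat.card_eq_fintype_card]
      exact (kit2.bas h.toRg.sr hab inf_le_left inf_le_left L).2.1.symm⟩).2 ⟨u', hu'⟩
    by_cases c0 : c = 0
    · exact absurd (by simpa [φ, c0, Subtype.ext_iff] using hc.symm) u1'
    · exact ⟨_, m c c0, by simpa [φ, c0, Subtype.ext_iff] using hc⟩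

end H26.HK
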