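import Cfsg.Agent.H1.CoprimeGen

/-!
An abelian group acting irreducibly on a finite abelian group `V` acts as a group of scalars of a field
structure on `V`. Consequence: an automorphism of prime order `p` acting irreducibly and non-trivially on a
`q`-group forces the order `q ^ (ord_p q)`.
-/

set_option autoImplicit false

namespace H26

universe u v

open scoped IsMulCommutative

/-- An abelian group acting irreducibly on a finite abelian group `V`: `V` is the additive group of a finite
field `K` generated by the image of a character through which the group acts. -/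
theorem exists_field_of_irreducible {A : Type u} {V : Type v} [Group A] [IsMulCommutative A]
    [CommGroup V] [Finite V] [Nontrivial V] (φ : A →* MulAut V)
    (hirr : ∀ W : Subgroup V, (∀ a, ∀ x ∈ W, φ a x ∈ W) → W = ⊥ ∨ W = ⊤) :
    ∃ (K : Type v) (_ : Field K) (_ : Finite K) (e : Additive V ≃+ K) (χ : A →* K),
      (∀ a x, e (Additive.ofMul (φ a x)) = χ a * e (Additive.ofMul x)) ∧
      Subring.closure (Set.range χ) = ⊤ := by
  have : Finite (Module.End ℤ (Additive V)) := DFunLike.finite _
  obtain ⟨v, hv⟩ := exists_ne (0 : Additive V)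
  have : Nontrivial (Module.End ℤ (Additive V)) :=
    ⟨⟨0, 1, fun h => hv (LinearMap.congr_fun h v).symm⟩⟩
  set f := H1.toAddEnd φ with hf
  have hcomm : ∀ x ∈ Set.range f, ∀ y ∈ Set.range f, x * y = y * x := by
    rintro _ ⟨a, rfl⟩ _ ⟨b, rfl⟩
    rw [← map_mul, ← map_mul, mul_comm' a b]
  let K : Subring (Module.End ℤ (Additive V)) := Subring.closure (Set.range f)
  have hKc : IsMulCommutative K := Subring.isMulCommutative_closure hcomm
  have hfK : ∀ a, f a ∈ K := fun a => Subring.subset_closure ⟨a, rfl⟩
  have hinj : ∀ r : K, r ≠ 0 → Function.Injective (r : Module.End ℤ (Additive V)) := by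
    intro r hr
    refine H1.injective_of_irreducible φ hirr r (fun a => ?_) (fun h => hr (Subtype.ext h))
    exact congrArg Subtype.val (mul_comm' (⟨f a, hfK a⟩ : K) r)
  have : NoZeroDivisors K := by
    refine ⟨fun {r s} hrs => ?_⟩
    by_cases h0 : r = 0
    · exact Or.inl h0
    · right
      apply Subtype.ext
      apply LinearMap.ext
      intro x
      apply hinj r h0
      have := LinearMap.congr_fun (congrArg Subtype.val hrs) x
      exact this.trans (map_zero (r : Module.End ℤ (Additive V))).symm
  have : IsDomain K := NoZeroDivisors.to_isDomain K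
  have hfield : IsField K := Finite.isDomain_to_isField K
  let ev : K →+ Additive V :=
    { toFun := fun k => (k : Module.End ℤ (Additive V)) v
      map_zero' := rfl
      map_add' := fun _ _ => rfl }
  have hev : Function.Bijective ev := by
    constructor
    · rw [injective_iff_map_eq_zero]
      intro k hk
      by_contra h0
      exact hv (hinj k h0 (by rw [map_zero]; exact hk))
    · let W : Subgroup V := AddSubgroup.toSubgroup' ev.range
      rcases hirr W (by
        rintro a x ⟨k, hk⟩
        refine ⟨⟨f a, hfK a⟩ * k, ?_⟩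
        change f a ((k : Module.End ℤ (Additive V)) v) = _
        have hk' : (k : Module.End ℤ (Additive V)) v = Additive.ofMul x := hk
        rw [hk']
        rfl) with h | h
      · exfalso
        have : v.toMul ∈ W := ⟨1, rfl⟩
        rw [h, Subgroup.mem_bot] at this
        exact hv this
      · intro x
        have : x.toMul ∈ W := by rw [h]; trivial
        exact this
  let e : K ≃+ Additive V := AddEquiv.ofBijective ev hev
  let χ : A →* K := f.codRestrict K hfK
  refine ⟨K, hfield.toField, inferInstance, e.symm, χ, ?_, ?_⟩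
  · intro a x
    apply e.injective
    obtain ⟨k, hk⟩ := e.surjective (Additive.ofMul x)
    rw [AddEquiv.apply_symm_apply, ← hk, AddEquiv.symm_apply_apply]
    change _ = f a (e k)
    rw [hk]
    rfl
  · rw [eq_top_iff]
    rintro ⟨k, hk⟩ -
    have h1 : (Subring.closure (Set.range χ)).map K.subtype = K := by
      rw [RingHom.map_closure, ← Set.range_comp]
      rfl
    obtain ⟨y, hy, hyk⟩ : k ∈ (Subring.closure (Set.range χ)).map K.subtype := by
      rw [h1]; exact hk
    rwa [show (⟨k, hk⟩ : K) = y from Subtype.ext hyk.symm]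

/-- A finite field of order a power of `q` generated by an element of prime order `p`
has order `q ^ (ord_p q)`. -/
theorem card_field_eq_pow_orderOf {K : Type*} [Field K] [Finite K] {p q n : ℕ} (hp : p.Prime)
    (hq : q.Prime) (hK : Nat.card K = q ^ n) {S : Set K} (hS : Subring.closure S = ⊤)
    (hSp : ∀ t ∈ S, t ^ p = 1) (hS1 : ∃ t ∈ S, t ≠ 1) : n = orderOf (q : ZMod p) := by
  classical
  have := Fintype.ofFinite K
  have : Fact p.Prime := ⟨hp⟩
  have : Fact q.Prime := ⟨hq⟩
  rw [Nat.card_eq_fintype_card] at hK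
  have hn : n ≠ 0 := by
    rintro rfl
    exact Fintype.one_lt_card.ne' hK
  have hchar : CharP K q := by
    have h0 : ((q : ℕ) : K) ^ n = 0 := by
      rw [← Nat.cast_pow, ← hK, FiniteField.cast_card_eq_zero]
    exact (CharP.charP_iff_prime_eq_zero hq).2 (pow_eq_zero_iff hn |>.1 h0)
  obtain ⟨t, htS, ht1⟩ := hS1
  have hto : orderOf t = p := orderOf_eq_prime (hSp t htS) ht1
  have ht0 : t ≠ 0 := by
    rintro rfl
    have := hSp 0 htS
    rw [zero_pow hp.ne_zero] at this
    exact zero_ne_one this
  have h1 : p ∣ q ^ n - 1 := by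
    rw [← hto, orderOf_dvd_iff_pow_eq_one, ← hK]
    exact FiniteField.pow_card_sub_one_eq_one t ht0
  have hq1 : 1 ≤ q ^ n := Nat.one_le_pow _ _ hq.pos
  have h2 : (q : ZMod p) ^ n = 1 := by
    have := (ZMod.natCast_eq_zero_iff _ _).2 h1
    rw [Nat.cast_sub hq1, sub_eq_zero] at this
    exact_mod_cast this
  have he : orderOf (q : ZMod p) ∣ n := orderOf_dvd_of_pow_eq_one h2
  set e := orderOf (q : ZMod p) with hedef
  have he0 : e ≠ 0 := by
    intro h
    rw [h, zero_dvd_iff] at he
    exact hn he
  have h3 : q ^ e ≡ 1 [MOD p] := by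
    rw [← ZMod.natCast_eq_natCast_iff]
    push_cast
    exact pow_orderOf_eq_one _
  have hfix : ∀ k : K, k ^ q ^ e = k := by
    intro k
    have hk : k ∈ Subring.closure S := by rw [hS]; trivial
    induction hk using Subring.closure_induction with
    | mem x hx =>
      rw [← pow_mod_orderOf, (h3.of_dvd (orderOf_dvd_of_pow_eq_one (hSp x hx)) : _ % _ = _),
        pow_mod_orderOf, pow_one]
    | zero => exact zero_pow (pow_ne_zero _ hq.ne_zero)
    | one => exact one_pow _
    | add x y _ _ hx hy => rw [add_pow_char_pow, hx, hy]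
    | neg x _ hx => rw [neg_pow, neg_one_pow_char_pow, hx, neg_one_mul]
    | mul x y _ _ hx hy => rw [mul_pow, hx, hy]
  have h4 : Fintype.card K ≤ q ^ e := by
    rw [← FiniteField.X_pow_card_pow_sub_X_natDegree_eq K he0 hq.one_lt, ← Finset.card_univ]
    apply Polynomial.card_le_degree_of_subset_roots
    intro k _
    rw [Polynomial.mem_roots (FiniteField.X_pow_card_pow_sub_X_ne_zero K he0 hq.one_lt)]
    simp [hfix k]
  rw [hK, Nat.pow_le_pow_iff_right hq.one_lt] at h4
  exact le_antisymm h4 (Nat.le_of_dvd (Nat.pos_of_ne_zero hn) he)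

/-- An abelian group acting irreducibly and non-trivially, with `p`-th powers acting trivially, on a finite
abelian group of order `q ^ n` forces `n = ord_p q`. -/
theorem eq_orderOf_of_irreducible {A : Type u} {V : Type v} [Group A] [IsMulCommutative A]
    [Group V] [IsMulCommutative V] [Finite V] (φ : A →* MulAut V)
    (hirr : ∀ W : Subgroup V, (∀ a, ∀ x ∈ W, φ a x ∈ W) → W = ⊥ ∨ W = ⊤) {p q n : ℕ} (hp : p.Prime)
    (hq : q.Prime) (hV : Nat.card V = q ^ n) (hA : ∀ a, φ a ^ p = 1) (hne : ∃ a, φ a ≠ 1) :
    n = orderOf (q : ZMod p) := by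
  obtain ⟨a₀, ha₀⟩ := hne
  have : Nontrivial V := by
    by_contra h
    rw [not_nontrivial_iff_subsingleton] at h
    exact ha₀ (MulEquiv.ext fun x => Subsingleton.elim _ _)
  obtain ⟨K, _, _, e, χ, h1, h2⟩ := exists_field_of_irreducible φ hirr
  have hχ : ∀ a, φ a = 1 → χ a = 1 := by
    intro a ha
    have := h1 a (e.symm 1).toMul
    rw [ha] at this
    simpa using this.symm
  refine card_field_eq_pow_orderOf hp hq (K := K) (by rw [← hV]; exact (Nat.card_congr e.toEquiv).symm)
    h2 ?_ ⟨χ a₀, ⟨a₀, rfl⟩, fun h => ha₀ ?_⟩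
  · rintro _ ⟨a, rfl⟩
    rw [← map_pow]
    exact hχ _ (by rw [map_pow, hA])
  · ext x
    have := h1 a₀ x
    rw [h, one_mul] at this
    exact Additive.ofMul.injective (e.injective this)

/-- Subgroup form: `x` normalizes the abelian subgroup `A` of order `q ^ n`, acts irreducibly and
non-trivially on it, and `x ^ p` centralizes it. -/
theorem eq_orderOf_of_irreducible_subgroup {G : Type*} [Group G] [Finite G] {A : Subgroup G}
    (hA : IsMulCommutative A) {x : G} (hx : x ∈ Subgroup.normalizer (A : Set G))
    (hirr : ∀ W : Subgroup G, W ≤ A → (∀ w ∈ W, x * w * x⁻¹ ∈ W) → W = ⊥ ∨ W = A) {p q n : ℕ}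
    (hp : p.Prime) (hq : q.Prime) (hV : Nat.card A = q ^ n)
    (hxp : x ^ p ∈ Subgroup.centralizer (A : Set G)) (hne : x ∉ Subgroup.centralizer (A : Set G)) :
    n = orderOf (q : ZMod p) := by
  let σ : MulAut A := A.normalizerMonoidHom ⟨x, hx⟩
  have hσ : ∀ a : A, ((σ a : A) : G) = x * a * x⁻¹ := fun a => rfl
  have hσp : σ ^ p = 1 := by
    rw [← map_pow, ← MonoidHom.mem_ker, Subgroup.normalizerMonoidHom_ker]
    exact hxp
  refine eq_orderOf_of_irreducible (Subgroup.zpowers σ).subtype (fun W hW => ?_) hp hq hV ?_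
    ⟨⟨σ, Subgroup.mem_zpowers σ⟩, fun h => hne ?_⟩
  · rcases hirr (W.map A.subtype) (Subgroup.map_subtype_le W) (by
      rintro _ ⟨w, hw, rfl⟩
      exact ⟨σ w, hW ⟨σ, Subgroup.mem_zpowers σ⟩ w hw, rfl⟩) with h | h
    · exact Or.inl ((Subgroup.map_eq_bot_iff_of_injective _ A.subtype_injective).1 h)
    · right
      apply Subgroup.map_injective A.subtype_injective
      rw [h, ← MonoidHom.range_eq_map, Subgroup.range_subtype]
  · rintro ⟨_, m, rfl⟩
    change (σ ^ m) ^ p = 1
    rw [← zpow_natCast, ← zpow_mul, mul_comm, zpow_mul, zpow_natCast, hσp, one_zpow]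
  · have : (⟨x, hx⟩ : Subgroup.normalizer (A : Set G)) ∈ A.normalizerMonoidHom.ker := h
    rw [Subgroup.normalizerMonoidHom_ker] at this
    exact this

end H26
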