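import Cfsg.Agent.H63.KgvSpec
import Cfsg.Agent.H28.GenChar

/-! Tower KGV, job `JSM`: the semilinear sum. -/

set_option autoImplicit false
set_option maxHeartbeats 400000

namespace H26.KgvSM

open Finset Cfsg H28 H63.Kgv

universe u

theorem gen_of_mul {G : Type u} [Group G] (f : G → ℂ) (h1 : f 1 = 1) (hm : ∀ a b, f (a * b) = f a * f b) :
    IsGeneralizedCharacter G f :=
  (isCharacter_of_hom (MonoidHom.toHomUnits (⟨⟨f, h1⟩, hm⟩ : G →* ℂ))).isGeneralizedCharacter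

theorem sum_pairs (Q : ℕ) (s : ℕ → ℕ) (h1 : ∀ j < Q, s j < Q) (h2 : ∀ j < Q, s (s j) = j) (g : ℕ → ℂ) :
    ∑ j ∈ range Q, g j = ∑ j ∈ (range Q).filter (fun j => j < s j), (g j + g (s j)) +
      ∑ j ∈ (range Q).filter (fun j => s j = j), g j := by
  have e : ∑ j ∈ (range Q).filter (fun j => j < s j), g (s j) =
      ∑ j ∈ (range Q).filter (fun j => s j < j), g j := by
    refine sum_nbij' s s (fun j hj => ?_) (fun j hj => ?_) (fun j hj => ?_) (fun j hj => ?_) fun _ _ => rfl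
    · simp only [mem_filter, mem_range] at hj ⊢
      exact ⟨h1 j hj.1, by rw [h2 j hj.1]; exact hj.2⟩
    · simp only [mem_filter, mem_range] at hj ⊢
      exact ⟨h1 j hj.1, by rw [h2 j hj.1]; exact hj.2⟩
    · exact h2 j (mem_range.1 (mem_filter.1 hj).1)
    · exact h2 j (mem_range.1 (mem_filter.1 hj).1)
  rw [sum_add_distrib, e, sum_filter, sum_filter, sum_filter, ← sum_add_distrib, ← sum_add_distrib]
  refine sum_congr rfl fun j _ => ?_
  rcases lt_trichotomy j (s j) with h | h | h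
  · rw [if_pos h, if_neg h.not_gt, if_neg h.ne']; simp
  · rw [if_neg h.not_lt, if_neg h.not_gt, if_pos h.symm]; simp
  · rw [if_neg h.not_gt, if_pos h, if_neg h.ne]; simp

theorem sum_fixed (n : ℕ) (hn : 0 < n) (g : ℕ → ℂ) :
    ∑ j ∈ (range (n * (n + 2))).filter (fun j => (n + 1) * j % (n * (n + 2)) = j), g j =
      ∑ i ∈ range n, g ((n + 2) * i) := by
  symm
  refine sum_nbij (fun i => (n + 2) * i) (fun i hi => ?_) (fun i _ j _ e => ?_) (fun j hj => ?_)
    fun _ _ => rfl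
  · have hi' := mem_range.1 hi
    have lt : (n + 2) * i < n * (n + 2) := by nlinarith
    refine mem_filter.2 ⟨mem_range.2 lt, ?_⟩
    have : (n + 1) * ((n + 2) * i) = (n + 2) * i + n * (n + 2) * i := by ring
    rw [this, Nat.add_mul_mod_self_left, Nat.mod_eq_of_lt lt]
  · exact Nat.eq_of_mul_eq_mul_left (by omega) e
  · simp only [coe_filter, mem_range, Set.mem_setOf_eq] at hj
    have h1 : j ≡ (n + 1) * j [MOD n * (n + 2)] := by
      rw [Nat.ModEq, hj.2, Nat.mod_eq_of_lt hj.1]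
    have h2 := (Nat.modEq_iff_dvd' (by nlinarith)).1 h1
    have h3 : (n + 1) * j - j = n * j := by rw [Nat.succ_mul, Nat.add_sub_cancel]
    rw [h3] at h2
    obtain ⟨i, rfl⟩ := Nat.dvd_of_mul_dvd_mul_left hn h2
    refine ⟨i, ?_, rfl⟩
    have := hj.1
    simp only [coe_range, Set.mem_Iio]
    nlinarith

theorem ebz_mem {G : Type u} [Group G] {H : Subgroup G} (θ : H → ℂ) {g : G} (h : g ∈ H) :
    extendByZero H θ g = θ ⟨g, h⟩ :=
  Subtype.val_injective.extend_apply θ 0 ⟨g, h⟩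

theorem ebz_not {G : Type u} [Group G] {H : Subgroup G} (θ : H → ℂ) {g : G} (h : g ∉ H) :
    extendByZero H θ g = 0 :=
  Function.extend_apply' _ _ _ (by rintro ⟨a, rfl⟩; exact h a.2)

theorem ind_two {E : Type u} [Group E] [Fintype E] {H : Subgroup E} (h2 : H.index = 2) (f : H → ℂ)
    (g : E) (A B : ℂ) (hA : ∀ y ∈ H, extendByZero H f (y⁻¹ * g * y) = A)
    (hB : ∀ y, y ∉ H → extendByZero H f (y⁻¹ * g * y) = B) : indFun H f g = A + B := by
  classical
  have c1 : (univ.filter fun y : E => y ∈ H).card = Nat.card H := by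
    rw [Nat.card_eq_fintype_card, Fintype.card_subtype]
  have c2 : (univ.filter fun y : E => ¬ y ∈ H).card = Nat.card H := by
    have h := card_filter_add_card_filter_not (s := (univ : Finset E)) fun y : E => y ∈ H
    have h' := H.card_mul_index
    rw [card_univ, ← Nat.card_eq_fintype_card, c1] at h
    rw [h2] at h'
    omega
  have e : ∑ y : E, extendByZero H f (y⁻¹ * g * y) = ∑ y : E, if y ∈ H then A else B :=
    sum_congr rfl fun y _ => by
      by_cases hy : y ∈ H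
      · rw [if_pos hy, hA y hy]
      · rw [if_neg hy, hB y hy]
  have hc : (Nat.card H : ℂ) ≠ 0 := Nat.cast_ne_zero.2 Nat.card_pos.ne'
  rw [indFun, e, sum_ite, sum_const, sum_const, c1, c2, nsmul_eq_mul, nsmul_eq_mul, ← mul_add,
    inv_mul_cancel_left₀ hc]

theorem job : H63.Kgv.JSM.{u} := by
  intro gc p _ E _ _ H hN q x φ a b Γ hq h2 hx hm h1 hφ ha hb hin hout
  classical
  obtain ⟨gc1, gc2, gc3, gc4, -, gc6, gc7, gc8⟩ := gc p E
  obtain ⟨n, rfl⟩ : ∃ n, q = n + 1 := ⟨q - 1, by omega⟩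
  have hn : 0 < n := by omega
  have hQ : (n + 1) ^ 2 - 1 = n * (n + 2) := by
    have : (n + 1) ^ 2 = n * (n + 2) + 1 := by ring
    omega
  rw [hQ] at ha hin
  rw [Nat.add_sub_cancel] at hout
  have mm : ∀ {u v : E}, u * v ∈ H ↔ (u ∈ H ↔ v ∈ H) := Subgroup.mul_mem_iff_of_index_two h2
  set ψ : E → ℂ := extendByZero H φ with hψ
  have ψ1 : ψ 1 = 1 := by rw [hψ, ebz_mem _ H.one_mem]; exact h1
  have ψm : ∀ u ∈ H, ∀ v ∈ H, ψ (u * v) = ψ u * ψ v := fun u hu v hv => by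
    rw [hψ, ebz_mem _ hu, ebz_mem _ hv, ebz_mem _ (H.mul_mem hu hv), ← hm]; rfl
  have ψi : ∀ u ∈ H, ψ u * ψ u⁻¹ = 1 := fun u hu => by
    rw [← ψm u hu _ (H.inv_mem hu), mul_inv_cancel, ψ1]
  have ψc : ∀ u ∈ H, ∀ v ∈ H, ψ (u * v * u⁻¹) = ψ v := fun u hu v hv => by
    rw [ψm _ (H.mul_mem hu hv) _ (H.inv_mem hu), ψm u hu v hv, mul_right_comm, ψi u hu, one_mul]
  have ψq : ∀ y, y ∉ H → ∀ v ∈ H, ψ (y * v * y⁻¹) = ψ v ^ (n + 1) := fun y hy v hv => by
    have hu : y * x⁻¹ ∈ H := mm.2 (by simp [hy, hx])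
    have e : y * v * y⁻¹ = y * x⁻¹ * (x * v * x⁻¹) * (y * x⁻¹)⁻¹ := by group
    rw [e, ψc _ hu _ (hN.conj_mem v hv x), hψ, ebz_mem _ hv, hφ, ebz_mem _ (hN.conj_mem v hv x)]
    rfl
  have sq : ∀ y : E, y * y ∈ H := fun y => mm.2 Iff.rfl
  have ψQ : ∀ v ∈ H, ψ v ^ (n * (n + 2)) = 1 := fun v hv => by
    have e1 := ψq x hx _ (hN.conj_mem v hv x)
    have e2 : x * (x * v * x⁻¹) * x⁻¹ = x * x * v * (x * x)⁻¹ := by group
    rw [e2, ψc _ (sq x) v hv, ψq x hx v hv, ← pow_mul] at e1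
    have e3 : (n + 1) * (n + 1) = n * (n + 2) + 1 := by ring
    have v0 : ψ v ≠ 0 := left_ne_zero_of_mul_eq_one (ψi v hv)
    rw [e3, pow_succ] at e1
    exact mul_right_cancel₀ v0 (by rw [one_mul]; exact e1.symm)
  let lam : E → ℂ := fun y => if y ∈ H then ψ y ^ (n + 2) else ψ (y * y)
  have lin : ∀ y ∈ H, lam y = ψ y ^ (n + 2) := fun y hy => if_pos hy
  have lout : ∀ y, y ∉ H → lam y = ψ (y * y) := fun y hy => if_neg hy
  have lm : ∀ u v, lam (u * v) = lam u * lam v := fun u v => by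
    by_cases hu : u ∈ H <;> by_cases hv : v ∈ H
    · rw [lin _ (H.mul_mem hu hv), lin u hu, lin v hv, ψm u hu v hv, mul_pow]
    · have e : u * v * (u * v) = u * (v * u * v⁻¹) * (v * v) := by group
      rw [lout _ (fun h => hv ((mm.1 h).1 hu)), lin u hu, lout v hv, e,
        ψm _ (H.mul_mem hu (hN.conj_mem u hu v)) _ (sq v), ψm u hu _ (hN.conj_mem u hu v), ψq v hv u hu]
      ring
    · have e : u * v * (u * v) = u * v * u⁻¹ * (u * u) * v := by group
      rw [lout _ (fun h => hu ((mm.1 h).2 hv)), lout u hu, lin v hv, e,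
        ψm _ (H.mul_mem (hN.conj_mem v hv u) (sq u)) v hv, ψm _ (hN.conj_mem v hv u) _ (sq u),
        ψq u hu v hv]
      ring
    · have huv : u * v ∈ H := mm.2 (by simp [hu, hv])
      have e1 := ψq v hv _ huv
      have e2 := ψq v hv _ (sq v)
      have e3 := ψq u hu _ (sq v)
      have e4 : u * v * (v * (u * v) * v⁻¹) = u * (v * v) * u⁻¹ * (u * u) := by group
      have e5 : v * (v * v) * v⁻¹ = v * v := by group
      rw [e5] at e2
      rw [lin _ huv, lout u hu, lout v hv, pow_succ', ← e1, ← ψm _ huv _ (hN.conj_mem _ huv v), e4,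
        ψm _ (hN.conj_mem _ (sq v) u) _ (sq u), e3, ← e2, mul_comm]
  have l1 : lam 1 = 1 := by rw [lin 1 H.one_mem, ψ1, one_pow]
  have G1 := (gc8 ℕ ((range (n * (n + 2))).filter fun j => j < (n + 1) * j % (n * (n + 2)))
    (fun j t => indFun H fun h => ee p (t * a j) * φ h ^ j) fun j _ =>
      gc7 H _ ((gc p H).2.2.2.1 (fun h => φ h ^ j) (a j)
        (gen_of_mul _ (by rw [h1, one_pow]) fun u v => by rw [hm, mul_pow]))).1
  have G2 := (gc8 ℕ (range n) (fun i t y => ee p (t * (2 * b i)) * lam y ^ i) fun i _ =>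
    gc4 (fun y => lam y ^ i) (2 * b i)
      (gen_of_mul _ (by rw [l1, one_pow]) fun u v => by rw [lm, mul_pow])).1
  refine gc1 _ _ (gc3 _ _ (gc6 (-1)) (gc2 _ _ G1 G2)) fun t _ y => ?_
  have ez : ∀ (j : ℕ), ∀ v ∈ H, extendByZero H (fun h => ee p (t * a j) * φ h ^ j) v =
      ee p (t * a j) * ψ v ^ j := fun j v hv => by rw [hψ, ebz_mem _ hv, ebz_mem _ hv]
  by_cases hy : y ∈ H
  · have hpos : 0 < n * (n + 2) := by positivity
    have e0 : φ ⟨y, hy⟩ = ψ y := (ebz_mem φ hy).symm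
    rw [hin t ⟨y, hy⟩, e0, sum_pairs _ (fun j => (n + 1) * j % (n * (n + 2)))
      (fun j _ => Nat.mod_lt _ hpos) (fun j hj => ?_), sum_fixed n hn]
    · simp only [Int.cast_neg, Int.cast_one, neg_one_mul]
      congr 2
      · refine sum_congr rfl fun j _ => (ind_two h2 _ y _ _ (fun z hz => ?_) fun z hz => ?_).symm
        · have := ψc _ (H.inv_mem hz) y hy
          rw [inv_inv] at this
          rw [ez j _ (H.mul_mem (H.mul_mem (H.inv_mem hz) hy) hz), this]
        · have := ψq z⁻¹ (fun h => hz (by simpa using h)) y hy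
          rw [inv_inv] at this
          rw [ez j _ (by simpa using hN.conj_mem y hy z⁻¹), this, ha, ← pow_mul,
            ← pow_eq_pow_mod _ (ψQ y hy)]
      · refine sum_congr rfl fun i _ => ?_
        rw [hb, lin y hy, pow_mul]
    · have e : (n + 1) * ((n + 1) * j) = j + n * (n + 2) * j := by ring
      rw [Nat.mul_mod, Nat.mod_mod, ← Nat.mul_mod, e, Nat.add_mul_mod_self_left, Nat.mod_eq_of_lt hj]
  · have hy2 : y ^ 2 ∈ H := by rw [pow_two]; exact sq y
    have e0 : φ ⟨y ^ 2, hy2⟩ = lam y := by rw [lout y hy, ← pow_two, hψ, ebz_mem _ hy2]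
    have nz : ∀ z : E, z⁻¹ * y * z ∉ H := fun z h => hy (by simpa [mul_assoc] using hN.conj_mem _ h z)
    rw [hout t y ⟨y ^ 2, hy2⟩ hy rfl, e0]
    simp only [Int.cast_neg, Int.cast_one, neg_one_mul]
    rw [sum_eq_zero (s := (range (n * (n + 2))).filter _) fun j _ => by
      rw [ind_two h2 _ y 0 0 (fun z _ => ebz_not _ (nz z)) fun z _ => ebz_not _ (nz z), add_zero],
      zero_add]
    congr 1
    refine sum_congr rfl fun i _ => ?_
    rw [show 2 * t * b i = t * (2 * b i) by ring]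

end H26.KgvSM
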