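import Cfsg.Agent.H42.McK

/-! `JobM3` of `blueprints/LOCAL3C.md` §1.3, part a: matrices and finite checks. -/

set_option autoImplicit false
set_option maxRecDepth 100000
set_option synthInstance.maxSize 2048

namespace H26.MC

open Cfsg Subgroup H14 H98 H56.L3 H42.L3 H47.MC H42.MC
open scoped commutatorElement Matrix

/-- block diagonal matrices -/
def blk (a b c d e f g h : ZMod 3) : Mat := !![a, b, 0, 0; c, d, 0, 0; 0, 0, e, f; 0, 0, g, h]

/-- the sign change of `e₃` -/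
def dl : Mat := !![1, 0, 0, 0; 0, 1, 0, 0; 0, 0, 1, 0; 0, 0, 0, -1]

theorem z3 (x : ZMod 3) (h : -x = x) : x = 0 := by revert x; decide

theorem exists_blk {M : Mat} (h : M * mT = mT * M) :
    ∃ a b c d e f g k, M = blk a b c d e f g k := by
  refine ⟨M 0 0, M 0 1, M 1 0, M 1 1, M 2 2, M 2 3, M 3 2, M 3 3, ?_⟩
  have k := fun i j => congrFun (congrFun h i) j
  have k02 := k 0 2
  have k03 := k 0 3
  have k12 := k 1 2
  have k13 := k 1 3
  have k20 := k 2 0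
  have k21 := k 2 1
  have k30 := k 3 0
  have k31 := k 3 1
  simp only [mT, Matrix.mul_apply, Fin.sum_univ_four] at k02 k03 k12 k13 k20 k21 k30 k31
  simp at k02 k03 k12 k13 k20 k21 k30 k31
  ext i j
  fin_cases i <;> fin_cases j <;> simp [blk]
  exacts [z3 _ k02, z3 _ k03, z3 _ k12, z3 _ k13, z3 _ k20.symm, z3 _ k21.symm, z3 _ k30.symm,
    z3 _ k31.symm]

theorem det_blk (a b c d e f g h : ZMod 3) :
    (blk a b c d e f g h).det = (a * d - b * c) * (e * h - f * g) := by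
  simp [blk, Matrix.det_succ_row_zero, Fin.sum_univ_succ, Fin.succAbove]
  ring

theorem q_eq (x : V) : q x = x ⬝ᵥ (B *ᵥ x) := by
  simp [q, B, dotProduct, Matrix.mulVec, Fin.sum_univ_four]
  ring

theorem q_mulVec {M : Mat} {c : ZMod 3} (h : M.transpose * B * M = c • B) (x : V) :
    q (M *ᵥ x) = c * q x := by
  rw [q_eq, q_eq, Matrix.mulVec_mulVec, ← Matrix.vecMul_transpose, ← Matrix.dotProduct_mulVec,
    Matrix.mulVec_mulVec, ← Matrix.mul_assoc, h, Matrix.smul_mulVec, dotProduct_smul, smul_eq_mul]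

/-- `M` preserves the non-zero singular vectors -/
def PX (M : Mat) : Prop := ∀ x : V, x ≠ 0 → q x = 0 → M *ᵥ x ≠ 0 ∧ q (M *ᵥ x) = 0

instance (M : Mat) : Decidable (PX M) := by unfold PX; infer_instance

theorem decF : ∀ a b c d e f g h : ZMod 3, blk a b c d e f g h *ᵥ vz = vz →
    (blk a b c d e f g h *ᵥ vz' + vz') 0 = (blk a b c d e f g h *ᵥ vz' + vz') 1 →
    blk a b c d e f g h * blk a b c d e f g h = mT → PX (blk a b c d e f g h) →
    blk a b c d e f g h = mF ∨ blk a b c d e f g h * mF = 1 ∨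
      blk a b c d e f g h = dl * mF * dl ∨ blk a b c d e f g h * (dl * mF * dl) = 1 := by
  decide +kernel

theorem decU : ∀ a b c d e f g h : ZMod 3,
    (blk a b c d e f g h *ᵥ vz) 0 = (blk a b c d e f g h *ᵥ vz) 1 →
    (blk a b c d e f g h * mF = mF * blk a b c d e f g h ∨
      mF * (blk a b c d e f g h * mF) = blk a b c d e f g h) → PX (blk a b c d e f g h) →
    (blk a b c d e f g h).transpose * B * blk a b c d e f g h =
      ((a * d - b * c) * (e * h - f * g)) • B := by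
  decide +kernel

/-- the index of a vector in the tables -/
def code (x : V) : ℕ := (x 0).val + 3 * (x 1).val + 9 * (x 2).val + 27 * (x 3).val

def tb0 : List ℕ := [99, 99, 99, 99, 0, 1, 99, 1, 2, 99, 2, 2, 99, 99, 99, 99, 99, 99, 99, 3, 2, 99,
  99, 99, 99, 99, 99, 99, 1, 2, 99, 99, 99, 99, 99, 99, 99, 99, 99, 2, 99, 99, 2, 99, 99, 99, 99, 99,
  2, 99, 99, 3, 99, 99, 99, 2, 3, 99, 99, 99, 99, 99, 99, 99, 99, 99, 1, 99, 99, 2, 99, 99, 99, 99,
  99, 3, 99, 99, 3, 99, 99]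

def tb1 : List ℕ := [99, 0, 1, 1, 99, 99, 2, 99, 99, 3, 99, 99, 3, 4, 4, 3, 5, 5, 4, 99, 99, 2, 5, 5,
  3, 5, 5, 2, 99, 99, 4, 5, 5, 3, 6, 6, 2, 3, 3, 99, 3, 4, 99, 4, 4, 2, 4, 4, 99, 5, 5, 99, 5, 5, 3,
  99, 99, 3, 6, 6, 4, 6, 6, 1, 4, 4, 99, 4, 5, 99, 4, 5, 3, 4, 4, 99, 4, 4, 99, 5, 4]

theorem dec0 : ∀ x : V, (x ≠ 0 ∧ q x = 0) → x = vz ∨ ∃ M ∈ [mT, mR, mS, mU, mW],
    (M *ᵥ x ≠ 0 ∧ q (M *ᵥ x) = 0) ∧ tb0.getD (code (M *ᵥ x)) 0 < tb0.getD (code x) 0 := by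
  decide +kernel

theorem dec1 : ∀ x : V, q x ≠ 0 → x = vy ∨ ∃ M ∈ [mT, mR, mS, mU, mW, mF],
    q (M *ᵥ x) ≠ 0 ∧ tb1.getD (code (M *ᵥ x)) 0 < tb1.getD (code x) 0 := by
  decide +kernel

theorem decS : ∀ x1 : V, x1 + mR *ᵥ x1 = 0 → ∀ x2 : V, x2 + (mT * mR) *ᵥ x2 = 0 →
    x1 + mR *ᵥ x2 = x2 + (mT * mR) *ᵥ x1 →
    ∃ x : V, x + x1 + mR *ᵥ (-x) = 0 ∧ x + x2 + (mT * mR) *ᵥ (-x) = 0 := by
  decide +kernel

theorem decA : ∀ p : V, p 0 = 0 → p 1 = 0 → p ≠ 0 → ∀ x : V, x 0 = x 1 →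
    ∃ a b c : ZMod 3, x = a • vz + b • p + c • ((mU * mR) *ᵥ p) := by
  decide +kernel

section
variable {G : Type*} [Group G] {v : V → G} {J : Subgroup G} {g k : G} {M N : Mat}

theorem orb {H : Subgroup G} {gs : List Mat} (hg : ∀ M ∈ gs, ∃ k ∈ H, Acts v k M) {c : V → Prop}
    {x0 : V} {rk : V → ℕ} (hd : ∀ x, c x → x = x0 ∨ ∃ M ∈ gs, c (M *ᵥ x) ∧ rk (M *ᵥ x) < rk x)
    (x : V) (hx : c x) : ∃ g ∈ H, g * v x0 * g⁻¹ = v x := by
  induction' e : rk x using Nat.strong_induction_on with n ih generalizing x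
  rcases hd x hx with rfl | ⟨M, hM, h1, h2⟩
  · exact ⟨1, one_mem _, by simp⟩
  · obtain ⟨g, hg1, hg2⟩ := ih _ (e ▸ h2) _ h1 rfl
    obtain ⟨k, hk, ak⟩ := hg M hM
    refine ⟨k⁻¹ * g, mul_mem (inv_mem hk) hg1, ?_⟩
    rw [← ak] at hg2
    calc _ = k⁻¹ * (g * v x0 * g⁻¹) * k := by group
      _ = _ := by rw [hg2]; group

theorem acts_comm (hg : Acts v g M) (x : V) : g * v x = v (M *ᵥ x) * g := by
  rw [← hg]; group

variable (h : Coord v J)
include h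

theorem acts_unique (hg : Acts v g M) (hk : Acts v g N) : M = N :=
  Matrix.toLin'.injective (LinearMap.ext fun x => h.inj ((hg x).symm.trans (hk x)))

theorem exists_acts (hg : g ∈ Nr J) : ∃ M, Acts v g M := by
  choose φ hφ using fun x => (h.mem _).1 (conj_mem_of_mem_normalizer hg (v_mem h x))
  let ψ : V →+ V := AddMonoidHom.mk' φ fun x y => h.inj (by
    rw [h.add, hφ, hφ, hφ, h.add]; group)
  refine ⟨LinearMap.toMatrix' (ψ.toZModLinearMap 3), fun x => ?_⟩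
  rw [LinearMap.toMatrix'_mulVec, ← hφ]
  rfl

theorem mem_J (cJ : centralizer (J : Set G) ≤ J) (hg : Acts v g 1) : g ∈ J := cJ fun a ha => by
  obtain ⟨x, rfl⟩ := (h.mem a).1 ha
  exact (mem_Ce.1 ((acts_mem_Ce h hg).2 (Matrix.one_mulVec x))).symm

theorem exists_eq_mul (cJ : centralizer (J : Set G) ≤ J) (hg : Acts v g M) (hk : Acts v k M) :
    ∃ x, g = v x * k := by
  obtain ⟨x, hx⟩ := (h.mem _).1 (mem_J h cJ (g := k⁻¹ * g) fun x => by
    calc _ = k⁻¹ * (g * v x * g⁻¹) * k := by group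
      _ = _ := by rw [hg, ← hk, Matrix.one_mulVec]; group)
  exact ⟨M *ᵥ x, by rw [← hk, hx]; group⟩

theorem vmul (hg : Acts v g M) (x y : V) : v x * g * (v y * k) = v (x + M *ᵥ y) * (g * k) := by
  rw [h.add, ← hg]; group

end

theorem sl25 {g : Matrix.SpecialLinearGroup (Fin 2) (ZMod 5)} (hc : ∀ k, k * g = g * k)
    (h3 : g ^ 3 = 1) : g = 1 := by
  obtain ⟨r, hr, e⟩ := Matrix.SpecialLinearGroup.mem_center_iff.1 (mem_center_iff.2 hc)
  have h2 : g ^ 2 = 1 := Subtype.ext (by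
    rw [Matrix.SpecialLinearGroup.coe_pow, ← e, ← map_pow]
    rw [Fintype.card_fin] at hr
    rw [hr, map_one]
    rfl)
  rwa [pow_succ, h2, one_mul] at h3

end H26.MC
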