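import Cfsg.Agent.H26.MinS1

/-! Small actions of symplectic groups, part 2: counting lemmas and the geometric end game. -/

namespace H26.MS

open H54 H26.MU Module Finset MulAction Submodule
open scoped Pointwise

section field

variable {F : Type*} [Field F] [Fintype F]

open Classical in
/-- The multiples of `R` by non-zero squares. -/
noncomputable def sqOrb (R : AddSubgroup F) : Finset (AddSubgroup F) :=
  (univ.erase (0 : F)).image fun t => t ^ 2 • R

theorem orbit_ineq {R : AddSubgroup F} (hR : R ≠ ⊤) (h0 : R ≠ ⊥) :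
    Fintype.card F * Nat.card R ≤ (Fintype.card F - 1) * Nat.card (orbit Fˣ R) := by
  have h1 := torus_orbit R hR
  have h2 : 2 ≤ Nat.card R := (AddSubgroup.one_lt_card_iff_ne_bot R).2 h0
  obtain ⟨r, hr⟩ : ∃ r, Fintype.card F = r + 2 :=
    ⟨Fintype.card F - 2, by have := Fintype.one_lt_card (α := F); omega⟩
  rw [hr] at h1 ⊢
  rw [show r + 2 - 1 = r + 1 by omega] at h1 ⊢
  set k := Nat.card (orbit Fˣ R)
  set s := Nat.card R
  have h5 : (r + 1) * s ≤ k * r := by nlinarith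
  by_contra hlt
  push Not at hlt
  have h6 := Nat.mul_le_mul_left (r + 1) h5
  have h7 := Nat.mul_le_mul_right r hlt.le
  nlinarith

theorem card_orbit_le (R : AddSubgroup F) : Nat.card (orbit Fˣ R) ≤ 2 * #(sqOrb R) := by
  classical
  obtain ⟨ν, hν⟩ := IsCyclic.exists_monoid_generator (α := Fˣ)
  have h : orbit Fˣ R ⊆ (sqOrb R ∪ (sqOrb R).image fun X => (ν : F) • X : Finset _) := by
    rintro _ ⟨a, rfl⟩
    obtain ⟨k, rfl⟩ := hν a
    rw [coe_union, Set.mem_union, mem_coe, mem_coe]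
    obtain ⟨j, rfl | rfl⟩ := Nat.even_or_odd' k
    · exact Or.inl (mem_image.2 ⟨(ν : F) ^ j, by simp, by
        simp [Units.smul_def, ← pow_mul, mul_comm]⟩)
    · exact Or.inr (mem_image.2 ⟨_, mem_image.2 ⟨(ν : F) ^ j, by simp, rfl⟩, by
        simp only [Units.smul_def, smul_smul, Units.val_pow_eq_pow_val]
        congr 1; ring⟩)
  rw [Nat.card_coe_set_eq]
  refine (Set.ncard_le_ncard h).trans ?_
  rw [Set.ncard_coe_finset]
  have := card_image_le (s := sqOrb R) (f := fun X => (ν : F) • X)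
  have := card_union_le (sqOrb R) ((sqOrb R).image fun X => (ν : F) • X)
  omega

theorem exists_sq (h2 : (2 : F) = 0) (a : F) : ∃ t, t ^ 2 = a :=
  Finite.injective_iff_surjective.1 (fun x y (h : x ^ 2 = y ^ 2) => by
    have : (x - y) ^ 2 = 0 := by linear_combination h + (y ^ 2 - x * y) * h2
    exact sub_eq_zero.1 (pow_eq_zero_iff two_ne_zero |>.1 this)) a

theorem card_orbit_le' (h2 : (2 : F) = 0) (R : AddSubgroup F) :
    Nat.card (orbit Fˣ R) ≤ #(sqOrb R) := by
  classical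
  rw [Nat.card_coe_set_eq, ← Set.ncard_coe_finset]
  refine Set.ncard_le_ncard ?_
  rintro _ ⟨a, rfl⟩
  obtain ⟨t, ht⟩ := exists_sq h2 (a : F)
  exact mem_image.2 ⟨t, by
    simp only [mem_erase, mem_univ, and_true]; rintro rfl; exact a.ne_zero (by simp [← ht]),
    by rw [ht]; rfl⟩

theorem sqOrb_ineq {R : AddSubgroup F} (hR : R ≠ ⊤) :
    Fintype.card F * Nat.card R ≤ (Fintype.card F - 1) * (2 * #(sqOrb R)) := by
  classical
  by_cases h0 : R = ⊥
  · have h1 : 0 < #(sqOrb R) := card_pos.2 ⟨_, mem_image.2 ⟨1, by simp, rfl⟩⟩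
    have := Fintype.one_lt_card (α := F)
    rw [h0, AddSubgroup.card_bot, ← h0]
    calc _ ≤ (Fintype.card F - 1) * (2 * 1) := by omega
      _ ≤ _ := by gcongr; exact h1
  · exact (orbit_ineq hR h0).trans (Nat.mul_le_mul_left _ (card_orbit_le R))

theorem half_mem (h2 : (2 : F) ≠ 0) {R : AddSubgroup F} {x : F} (h : 2 * x ∈ R) : x ∈ R := by
  have : Function.Injective fun r : R => (⟨r + r, R.add_mem r.2 r.2⟩ : R) := fun a b hab => by
    have h1 : (a : F) + a = b + b := congrArg Subtype.val hab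
    exact Subtype.ext (mul_left_cancel₀ h2 (by linear_combination h1))
  obtain ⟨r, hr⟩ := Finite.injective_iff_surjective.1 this ⟨_, h⟩
  have h1 : (r : F) + r = 2 * x := congrArg Subtype.val hr
  rw [← mul_left_cancel₀ h2 (show 2 * (r : F) = 2 * x by linear_combination h1)]
  exact r.2

end field

theorem two_mul_card_le {A : Type*} [AddGroup A] [Finite A] {X Y : AddSubgroup A} (h : X ≤ Y)
    (hne : Nat.card X ≠ Nat.card Y) : 2 * Nat.card X ≤ Nat.card Y := by
  obtain ⟨c, hc⟩ := AddSubgroup.card_dvd_of_le h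
  have h1 : 0 < Nat.card Y := Nat.card_pos
  rcases c with _ | _ | c
  · omega
  · omega
  · rw [hc]; nlinarith

variable {F V : Type*} [Field F] [AddCommGroup V] [Module F V] {B : LinearMap.BilinForm F V}
  (hA : B.IsAlt) [FiniteDimensional F V] (hB : B.Nondegenerate) {z : V}

section count

variable [Fintype F] {Ω : Type*} [MulAction (V ≃ₗ[F] V) Ω]

open Classical in
/-- The conjugates of `X` under the stabiliser of `z`. -/
noncomputable def orb (B : LinearMap.BilinForm F V) (z : V) (X : AddSubgroup V) :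
    Finset (AddSubgroup V) :=
  have := H59.finite_linearEquiv (F := F) (V := V)
  (Set.finite_range fun g : Cz B z => g.1 • X).toFinset

omit hA hB in
theorem mem_orb {X Y : AddSubgroup V} : Y ∈ orb B z X ↔ ∃ g ∈ Cz B z, g • X = Y := by
  simp [orb]

include hA hB

theorem fam (hz : z ≠ 0) {d : ℕ} (hd : finrank F V = d + 2) {S : Finset Ω}
    (hS : ∀ g ∈ Ez hA z, ∀ ω ∈ S, g • ω ∈ S) {I : Type*} [Finite I] (η : I → Ω) (h1 : ∀ i, η i ∈ S)
    (h2 : ∀ i j, ∀ e ∈ Ez hA z, e • η i = η j → i = j) {m : ℕ}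
    (h3 : ∀ i, Nat.card (Yz hA (stabilizer _ (η i)) z) * Nat.card (Rz hA (stabilizer _ (η i)) z)
      ≤ m) : Nat.card I * Fintype.card F ^ (d + 2) ≤ #S * m := by
  have := H59.finite_linearEquiv (F := F) (V := V)
  have h4 := card_family (Ez hA z) S hS η h1 h2 (m / Fintype.card F) fun i =>
    (Nat.le_div_iff_mul_le Fintype.card_pos).2 ((card_inf_le hA hz).trans (h3 i))
  calc _ = Nat.card I * Fintype.card F ^ (d + 1) * Fintype.card F := by ring
    _ ≤ #S * (m / Fintype.card F) * Fintype.card F := Nat.mul_le_mul_right _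
      ((Nat.mul_le_mul_left _ (card_Ez hA hB hz hd)).trans h4)
    _ ≤ _ := by rw [mul_assoc]; exact Nat.mul_le_mul_left _ (Nat.div_mul_le_self _ _)

theorem orbfam (hz : z ≠ 0) {d : ℕ} (hd : finrank F V = d + 2) {S : Finset Ω}
    (hS : ∀ g ∈ Cz B z, ∀ ω ∈ S, g • ω ∈ S) (Φ : Ω → AddSubgroup V)
    (hC : ∀ g ∈ Cz B z, ∀ ω, Φ (g • ω) = g • Φ ω) (hE : ∀ g ∈ Ez hA z, ∀ ω, Φ (g • ω) = Φ ω)
    {J : Type*} [Finite J] (η : J → Ω) (h1 : ∀ i, η i ∈ S) {X : AddSubgroup V}
    (hX : ∀ j, Φ (η j) = X) (h2 : ∀ i j, ∀ e ∈ Ez hA z, e • η i = η j → i = j) {m : ℕ}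
    (h3 : ∀ i, Nat.card (Yz hA (stabilizer _ (η i)) z) * Nat.card (Rz hA (stabilizer _ (η i)) z)
      ≤ m) : #(orb B z X) * Nat.card J * Fintype.card F ^ (d + 2) ≤ #S * m := by
  choose g hg1 hg2 using fun Y : orb B z X => mem_orb.1 Y.2
  have := fam hA hB hz hd (fun g hg => hS g (Ez_le_Cz hA hg)) (fun p : orb B z X × J =>
    g p.1 • η p.2) (fun p => hS _ (hg1 _) _ (h1 _)) (by
      rintro ⟨Y, i⟩ ⟨Y', j⟩ e he h
      obtain rfl : Y = Y' := Subtype.ext (by
        rw [← hg2, ← hg2, ← hX i, ← hC _ (hg1 _), ← hE e he, h, hC _ (hg1 _), hX, hX])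
      refine Prod.ext rfl (h2 i j ((g Y)⁻¹ * e * (g Y)⁻¹⁻¹) (conj_mem_Ez hA
        (Subgroup.inv_mem _ (hg1 Y).1) (t := 1)
          ((one_smul F z).symm ▸ (Subgroup.inv_mem _ (hg1 Y)).2) one_ne_zero he) ?_)
      rw [inv_inv, mul_smul, mul_smul, inv_smul_eq_iff]
      exact h) (m := m) fun p => by
      rw [Yz_smul_C hA (hg1 _), Rz_smul_C hA (hg1 _),
        show Nat.card (g p.1 • Yz hA (stabilizer _ (η p.2)) z : AddSubgroup V) = _ from
          AddSubgroup.card_map_of_injective (MulAction.injective _)]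
      exact h3 _
  rwa [Nat.card_prod, Nat.card_eq_fintype_card, Fintype.card_coe] at this

theorem cover_orb (hz : z ≠ 0) {d : ℕ} (hd : finrank F V = d + 2) {X : AddSubgroup V}
    (h1 : ∀ c : F, c • z ∈ X) (h2 : ∀ x ∈ X, B z x = 0) (h3 : ¬ ∀ x ∈ X, x ∈ F ∙ z) :
    Fintype.card F ^ (d + 1) + #(orb B z X) * Fintype.card F ≤
      #(orb B z X) * Nat.card X + Fintype.card F ∧
    (2 * Fintype.card F ^ (d + 1) + #(orb B z X) * Fintype.card F ≤
      #(orb B z X) * Nat.card X + 2 * Fintype.card F ∨ (∀ x, B z x = 0 → x ∈ X) ∨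
      ∃ v ∈ X, v ∉ F ∙ z ∧ (∀ x ∈ X, x ∈ span F {z, v}) ∧ (2 * Nat.card X ≤ Fintype.card F ^ 2 ∨
        Nat.card X = Fintype.card F ^ 2 ∧ ∀ x ∈ span F {z, v}, x ∈ X)) := by
  have : Finite V := Module.finite_of_finite F
  have hZ : Nat.card (F ∙ z).toAddSubgroup = Fintype.card F := by
    change Nat.card (F ∙ z) = _
    rw [ML.card_V' (F := F), finrank_span_singleton hz, pow_one]
  obtain ⟨h5, h6⟩ := cover (Cz B z) (Z := (F ∙ z).toAddSubgroup)
    (P := (LinearMap.ker (B z)).toAddSubgroup)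
    (fun v hv hv' w hw hw' => exists_Cz hA hB hv' hw' (hv.trans hw.symm)) (orb B z X)
    (fun g hg Y hY => by
      obtain ⟨k, hk, rfl⟩ := mem_orb.1 hY
      exact mem_orb.2 ⟨g * k, Subgroup.mul_mem _ hg hk, mul_smul _ _ _⟩) (s := Nat.card X)
    (fun Y hY => by
      obtain ⟨k, hk, rfl⟩ := mem_orb.1 hY
      have hkz : k z = z := hk.2
      refine ⟨fun v hv => ?_, fun v hv => ?_,
        AddSubgroup.card_map_of_injective (MulAction.injective k)⟩
      · obtain ⟨c, rfl⟩ := mem_span_singleton.1 hv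
        have := AddSubgroup.smul_mem_pointwise_smul _ k X (h1 c)
        rwa [show k • c • z = c • z from by rw [LinearEquiv.smul_def, map_smul, hkz]] at this
      · obtain ⟨x, hx, rfl⟩ := (AddSubgroup.mem_smul_pointwise_iff_exists _ _ _).1 hv
        change B z (k x) = 0
        rw [← hkz, hk.1, h2 x hx]) (X := X) (mem_orb.2 ⟨1, Subgroup.one_mem _, one_smul _ _⟩) h3
  rw [hZ, card_perp hB hz hd] at h5 h6
  refine ⟨h5, h6.imp_right fun h6 => ?_⟩
  push Not at h3
  obtain ⟨v, hv, hvz⟩ := h3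
  refine (le_or_perp hA hB h6 hv hvz).symm.imp_right fun h7 => ⟨v, hv, hvz, h7, ?_⟩
  have h8 : Nat.card (span F {z, v}).toAddSubgroup = Fintype.card F ^ 2 := by
    change Nat.card (span F {z, v}) = _
    rw [ML.card_V' (F := F), ML.finrank_span_pair hz hvz]
  by_cases h9 : Nat.card X = Fintype.card F ^ 2
  · have h10 := AddSubgroup.eq_of_le_of_card_ge (K := (span F {z, v}).toAddSubgroup) h7
      (by rw [h8, h9])
    exact Or.inr ⟨h9, fun x hx => h10 ▸ hx⟩
  · exact Or.inl (h8 ▸ two_mul_card_le h7 (by rwa [h8]))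

open Classical in
theorem tor (hz : z ≠ 0) {S : Finset Ω}
    (hS : ∀ g ∈ Isom B, ∀ t : F, t ≠ 0 → g z = t • z → ∀ ω ∈ S, g • ω ∈ S) (R : AddSubgroup F) :
    #(sqOrb R) * #(S.filter fun ω => Rz hA (stabilizer _ ω) z = R) ≤ #S := by
  simpa using card_mul_le_fib S (sqOrb R) (fun ω => Rz hA (stabilizer _ ω) z)
    #(S.filter fun ω => Rz hA (stabilizer _ ω) z = R) 1 fun R' hR' => by
    obtain ⟨t, ht, rfl⟩ := mem_image.1 hR'
    have ht0 : t ≠ 0 := by simpa using ht
    obtain ⟨g, hg, h1⟩ := exists_map hA hB hz (smul_ne_zero ht0 hz)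
    rw [mul_one]
    refine card_le_card_of_injOn (g • ·) (fun ω hω => ?_) (MulAction.injective g).injOn
    rw [mem_coe, mem_filter] at hω ⊢
    exact ⟨hS g hg t ht0 h1 _ hω.1, by rw [Rz_smul_P hA hg ht0 h1, hω.2]⟩

end count

/-- All transvections with centre `x` lie in `M`. -/
def Good (M : Subgroup (V ≃ₗ[F] V)) (x : V) : Prop := ∀ a, ee hA x 0 a ∈ M

variable {M : Subgroup (V ≃ₗ[F] V)}

omit [FiniteDimensional F V] in
theorem good_iff {x : V} : Good hA M x ↔ Rz hA M x = ⊤ := (AddSubgroup.eq_top_iff' (Rz hA M x)).symm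

omit [FiniteDimensional F V] in
theorem Good.smul {x : V} (h : Good hA M x) (c : F) : Good hA M (c • x) := fun a => by
  rw [ee_scale hA (map_zero _), smul_zero]; exact h _

omit [FiniteDimensional F V] in
theorem good_zero : Good hA M 0 := fun a => by
  rw [show ee hA 0 0 a = 1 from LinearEquiv.ext fun x => by simp [tv_apply]]; exact M.one_mem

omit [FiniteDimensional F V] in
theorem Good.map {x : V} (h : Good hA M x) {g : V ≃ₗ[F] V} (hg : g ∈ Isom B) (hgM : g ∈ M) :
    Good hA M (g x) := fun a => by simpa using mem_conj hA hg hgM (h a)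

include hA hB

theorem exists_bad (hM : ¬ Isom B ≤ M) : ∃ z, ¬ Good hA M z := by
  by_contra hn
  push Not at hn
  refine hM fun g hg => ?_
  have := isom_eq_top_of_tvV_mem hB hA (M.subgroupOf (Isom B)) fun v c => by
    rw [Subgroup.mem_subgroupOf, show (tvV hA v c).1 = ee hA v 0 (-c) from LinearEquiv.ext fun x => by
      rw [tv_apply, ← Isom_smul_def, tvV_smul, ← hA.neg_eq x v]; congr 2; ring]
    exact hn v _
  exact (this ▸ Subgroup.mem_top (⟨g, hg⟩ : Isom B) : _ ∈ M.subgroupOf (Isom B))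

theorem mem_span_of_four (h4 : finrank F V = 4) {y x : V} (hz : z ≠ 0) (hy : y ∉ F ∙ z)
    (h : B z y = 0) (h1 : B z x = 0) (h2 : B y x = 0) : x ∈ span F {z, y} := by
  have h5 := LinearMap.BilinForm.finrank_orthogonal hB (span F {z, y})
  have h6 : span F {z, y} = B.orthogonal (span F {z, y}) := eq_of_le_of_finrank_eq
    (fun a ha b hb => by
      obtain ⟨s, t, rfl⟩ := mem_span_pair.1 ha
      obtain ⟨s', t', rfl⟩ := mem_span_pair.1 hb
      simp [h, hA.isRefl _ _ h, hA.self_eq_zero])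
    (by rw [h5, ML.finrank_span_pair hz hy, h4])
  rw [h6]
  intro b hb
  obtain ⟨s', t', rfl⟩ := mem_span_pair.1 hb
  simp [h1, h2]

/-- The end game: `M` fixes a point or a totally isotropic line. -/
theorem endgame (h4 : 4 ≤ finrank F V) (hM : ¬ Isom B ≤ M) (h : ∀ z, ¬ Good hA M z →
    ((∀ u ∈ Yz hA M z, u ∈ F ∙ z) ∧ ∀ y, B z y = 0 → ∃ s : F, Good hA M (y + s • z)) ∨
    (finrank F V = 4 ∧ ∃ y, Good hA M y ∧ B z y = 0 ∧ y ≠ 0 ∧
      (∀ u ∈ Yz hA M z, u ∈ span F {z, y}) ∧ ∀ b : F, ee hA z (b • y) 0 ∈ M)) :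
    (∃ v, v ≠ 0 ∧ ∀ g ∈ Isom B, g ∈ M → ∃ a : F, g v = a • v) ∨
    (finrank F V = 4 ∧ ∃ y w, y ≠ 0 ∧ w ∉ F ∙ y ∧ B y w = 0 ∧
      ∀ g ∈ Isom B, g ∈ M → g y ∈ span F {y, w} ∧ g w ∈ span F {y, w}) := by
  have hcancel : ∀ {c : F} {x}, c ≠ 0 → Good hA M (c • x) → Good hA M x := fun {c x} hc hx => by
    simpa [hc] using hx.smul hA c⁻¹
  let W : Submodule F V :=
    { carrier := {x | Good hA M x}
      zero_mem' := good_zero hA
      smul_mem' := fun c x hx => hx.smul hA c
      add_mem' := fun {x y} hx hy => by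
        by_cases h0 : B y x = 0
        swap
        · have := Good.map hA hx (ee_mem hA y 0 (B y x)⁻¹) (hy _)
          rwa [tv_apply, inv_mul_cancel₀ h0, one_smul] at this
        by_contra hw
        have h1 : B (x + y) x = 0 := by simp [h0, hA.self_eq_zero]
        have h2 : x ∈ Yz hA M (x + y) := by
          have h3 := hy 1
          rw [show y = (-1 : F) • x + (1 : F) • (x + y) by module, tv_comb hA h1] at h3
          simpa using (Yz hA M _).neg_mem
            ⟨by rw [map_smul, h1, smul_zero], _, (M.mul_mem_cancel_right (hx _)).1 h3⟩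
        rcases h _ hw with ⟨h3, -⟩ | ⟨-, y0, h3, h5, -, h6, h7⟩
        · obtain ⟨a, ha⟩ := mem_span_singleton.1 (h3 x h2)
          by_cases ha0 : a = 0
          · rw [ha0, zero_smul] at ha
            exact hw (by rw [← ha, zero_add]; exact hy)
          · exact hw (hcancel ha0 (by rw [ha]; exact hx))
        · have key : ∀ β α : F, Good hA M (α • y0 + β • (x + y)) → β = 0 := fun β α hg => by
            by_contra hβ
            refine hw ((good_iff hA).2 (eq_top_of_mul (pow_ne_zero 2 hβ) fun c => ?_))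
            have h8 := hg c
            rw [tv_comb hA h5, M.mul_mem_cancel_right (h3 _)] at h8
            simpa using sub_mem_Rz hA (by rw [map_smul, h5, smul_zero]) h8 (h7 _)
          obtain ⟨β, α, he⟩ := mem_span_pair.1 (h6 x h2)
          have h8 := key β α (by rw [add_comm, he]; exact hx)
          have h9 := key (1 - β) (-α) (by
            rw [show -α • y0 + (1 - β) • (x + y) = y by linear_combination (norm := module) -he]
            exact hy)
          rw [h8] at h9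
          simp at h9 }
  have hW : ∀ g ∈ Isom B, g ∈ M → ∀ x ∈ W, g x ∈ W := fun g h1 h2 x hx => Good.map hA hx h1 h2
  by_cases hL : ∃ z, z ∉ W ∧ finrank F V = 4 ∧ ∃ y ∈ W, B z y = 0 ∧ y ≠ 0 ∧
      ∀ b : F, ee hA z (b • y) 0 ∈ M
  · obtain ⟨z, hz, h5, y, hy, hzy, hy0, h6⟩ := hL
    have hz0 : z ≠ 0 := by rintro rfl; exact hz W.zero_mem
    have h7 : ∀ x ∈ W, B y x = 0 := fun x hx => by
      have h8 := hW _ (ee_mem hA _ _ _) (h6 1) x hx
      rw [one_smul, ee_apply hA hzy, zero_mul, zero_smul, add_zero,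
        W.add_mem_iff_left (W.smul_mem _ hy), W.add_mem_iff_right hx] at h8
      by_contra h0
      exact hz ((W.smul_mem_iff h0).1 h8)
    have h8 : ∀ x ∈ W, B z x = 0 → x ∈ F ∙ y := fun x hx hzx => by
      obtain ⟨a, b, rfl⟩ := mem_span_pair.1 (mem_span_of_four hA hB h5 hz0
        (H62.notMem_span_symm hy0 fun hm => hz ((span_singleton_le_iff_mem _ _).2 hy hm)) hzy hzx
        (h7 x hx))
      rw [W.add_mem_iff_left (W.smul_mem _ hy)] at hx
      by_cases ha : a = 0
      · simp [ha, smul_mem, mem_span_singleton_self]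
      · exact absurd ((W.smul_mem_iff ha).1 hx) hz
    by_cases h9 : ∀ x ∈ W, B z x = 0
    · exact Or.inl ⟨y, hy0, fun g h1 h2 => by
        obtain ⟨a, ha⟩ := mem_span_singleton.1 (h8 _ (hW g h1 h2 y hy) (h9 _ (hW g h1 h2 y hy)))
        exact ⟨a, ha.symm⟩⟩
    push Not at h9
    obtain ⟨w, hw, hzw⟩ := h9
    have h10 : ∀ x ∈ W, x ∈ span F {y, w} := fun x hx => by
      obtain ⟨a, ha⟩ := mem_span_singleton.1 (h8 (x - (B z x / B z w) • w)
        (W.sub_mem hx (W.smul_mem _ hw)) (by simp [hzw]))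
      exact mem_span_pair.2 ⟨a, _, by rw [ha, sub_add_cancel]⟩
    refine Or.inr ⟨h5, y, w, hy0, fun hm => ?_, h7 w hw, fun g h1 h2 =>
      ⟨h10 _ (hW g h1 h2 y hy), h10 _ (hW g h1 h2 w hw)⟩⟩
    obtain ⟨a, rfl⟩ := mem_span_singleton.1 hm
    simp [hzy] at hzw
  have hline : ∀ z, z ∉ W → ∀ y, B z y = 0 → ∃ s : F, y + s • z ∈ W := fun z hz => by
    rcases h z hz with h1 | ⟨h1, y, h2, h3, h5, -, h6⟩
    · exact h1.2
    · exact (hL ⟨z, hz, h1, y, h2, h3, h5, h6⟩).elim
  have hP : ∀ z, z ∉ W → ∀ v, (∀ w ∈ W, B w v = 0) → B z v = 0 → v ∈ F ∙ z :=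
    fun z hz v hv hzv => mem_of_perp hA hB fun y hy => by
      obtain ⟨s, hs⟩ := hline z hz y (hy z (mem_span_singleton_self z))
      exact hA.isRefl _ _ (by simpa [hzv] using hv _ hs)
  obtain ⟨z, hz⟩ := exists_bad hA hB hM
  obtain ⟨v, hv1, hv⟩ := exists_partner hA hB (W := W) hz
  have hv0 : v ≠ 0 := by rintro rfl; simp at hv1
  refine Or.inl ⟨v, hv0, fun g h1 h2 => ?_⟩
  have hgv : ∀ w ∈ W, B w (g v) = 0 := fun w hw => by
    rw [← hv _ (hW _ (Subgroup.inv_mem _ h1) (M.inv_mem h2) w hw), ← h1 _ v]; simp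
  by_contra hn
  push Not at hn
  have hQ : ∀ z, z ∉ W → ∀ w ∈ W, B w z = 0 := by
    intro z hz
    have : ∃ x, (∀ w ∈ W, B w x = 0) ∧ x ≠ 0 ∧ B z x = 0 := by
      by_cases h1 : B z v = 0
      · exact ⟨v, hv, hv0, h1⟩
      · exact ⟨g v - (B z (g v) / B z v) • v, fun w hw => by simp [hgv w hw, hv w hw],
          sub_ne_zero.2 (hn _), by simp [h1]⟩
    obtain ⟨x, h3, h5, h6⟩ := this
    obtain ⟨a, rfl⟩ := mem_span_singleton.1 (hP z hz x h3 h6)
    exact fun w hw => by simpa [left_ne_zero_of_smul h5] using h3 w hw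
  have hz0 : z ≠ 0 := by rintro rfl; exact hz W.zero_mem
  obtain ⟨y, -, hy1, hy2⟩ := H62.exists_mem_notMem_ker [B z] (W := ⊤) (Z := F ∙ z)
    (by rw [finrank_top, finrank_span_singleton hz0, List.length_singleton]; omega)
  have hzy := hy2 _ (List.mem_singleton_self _)
  obtain ⟨s, hs⟩ := hline z hz y hzy
  exact hy1 (hP z hz y (fun w hw => by
    simpa [hQ z hz w hw] using hQ (y + s • z + z) (fun hm => hz ((W.add_mem_iff_right hs).1 hm))
      w hw) hzy)

end H26.MS
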