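import Cfsg.Agent.H26.MinS2

/-! Small actions of symplectic groups, part 3: odd characteristic. -/

namespace H26.MS

open H54 H26.MU Module Finset MulAction Submodule
open scoped Pointwise

variable {F V : Type*} [Field F] [AddCommGroup V] [Module F V] {B : LinearMap.BilinForm F V}
  (hA : B.IsAlt) {M : Subgroup (V ≃ₗ[F] V)} {z y : V}

theorem rel {g : V ≃ₗ[F] V} (hg : g ∈ Isom B) {χ ε : F} (hgz : g z = χ • z)
    (hε : ε ^ 2 = 1) (hgy : g y = ε • y) (hzy : B z y = 0) {u u' : V} (hu : B z u = 0)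
    (hgu : B z (g u) = 0) (hu' : B z u' = 0) {a a' c : F} (hm : ee hA z u' a' * g ∈ M)
    (hk : ee hA z u a * ee hA y 0 c ∈ M) : χ • g u - u - (c * B y u') • y ∈ Yz hA M z := by
  have h1 : g * ee hA y 0 c = ee hA y 0 c * g := by
    rw [← mul_inv_eq_iff_eq_mul, conj_ee hA hg, hgy, map_zero, ee_scale hA (map_zero _), hε,
      one_mul, smul_zero]
  have h2 := conj_ee hA hg z u a
  rw [hgz, ee_scale hA hgu] at h2
  have h3 := conj_ee hA (ee_mem hA y 0 c) z u' a'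
  rw [tv_apply, hA.isRefl _ _ hzy, mul_zero, zero_smul, add_zero, tv_apply] at h3
  set t := ee hA y 0 c
  have h4 : ee hA z u' a' * (g * ee hA z u a * g⁻¹) * (ee hA z u a * (t * ee hA z u' a' * t⁻¹))⁻¹ =
      (ee hA z u' a' * g) * (ee hA z u a * t) * ((ee hA z u a * t) * (ee hA z u' a' * g))⁻¹ := by
    have : g⁻¹ * t = t * g⁻¹ := by rw [inv_mul_eq_iff_eq_mul, ← mul_assoc, h1, mul_inv_cancel_right]
    simp only [mul_inv_rev, inv_inv, mul_assoc]
    rw [← mul_assoc g⁻¹ t, this, mul_assoc]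
  have h5 := h4 ▸ M.mul_mem (M.mul_mem hm hk) (M.inv_mem (M.mul_mem hk hm))
  rw [h2, h3, ee_mul hA hu' (by simp [hgu]), ee_mul hA hu (by simp [hu', hzy]),
    ee_inv hA (by simp [hu, hu', hzy]), ee_mul hA (by simp [hu', hgu]) (by simp [hu, hu', hzy])] at h5
  refine ⟨by simp [hu, hgu, hzy], _, by convert h5 using 2; module⟩

/-- `M` covers the transvections with centre `y` modulo those with centre `z`. -/
def Spl (M : Subgroup (V ≃ₗ[F] V)) (z y : V) : Prop := ∀ c, ∃ a, ee hA z 0 a * ee hA y 0 c ∈ M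

theorem spl_conj {g : V ≃ₗ[F] V} (hg : g ∈ Cz B z) (hgM : g ∈ M) {a c : F}
    (h : ee hA z 0 a * ee hA y 0 c ∈ M) : ee hA z 0 a * ee hA (g y) 0 c ∈ M := by
  have h1 := M.mul_mem (M.mul_mem hgM h) (M.inv_mem hgM)
  have h2 := conj_ee hA hg.1 z 0 a
  have h3 := conj_ee hA hg.1 y 0 c
  rw [map_zero] at h2 h3
  rw [show g z = z from hg.2] at h2
  rwa [← h2, ← h3, show g * ee hA z 0 a * g⁻¹ * (g * ee hA y 0 c * g⁻¹) =
    g * (ee hA z 0 a * ee hA y 0 c) * g⁻¹ by simp [mul_assoc]]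

theorem Spl.smul (h : Spl hA M z y) (t : F) : Spl hA M z (t • y) := fun c => by
  rw [ee_scale hA (map_zero _), smul_zero]; exact h _

theorem Spl.uniq (hY : ∀ u ∈ Yz hA M z, u ∈ F ∙ z) (hyz : y ∉ F ∙ z) (hzy : B z y = 0) {β : F}
    (h : Spl hA M z y) (h' : Spl hA M z (y + β • z)) : β = 0 := by
  obtain ⟨a, ha⟩ := h 1
  obtain ⟨a', ha'⟩ := h' 1
  have h1 := tv_comb hA hzy 1 β 1
  rw [one_smul] at h1
  have h2 := M.mul_mem ha' (M.inv_mem ha)
  rw [h1, one_pow, mul_one, mul_inv_rev, ← mul_assoc, ← mul_assoc, mul_inv_cancel_right,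
    ee_inv hA (map_zero _), ee_mul hA (map_zero _) (by simp [hzy]),
    ee_mul hA (by simp [hzy]) (by simp)] at h2
  by_contra hβ
  exact hyz (((F ∙ z).smul_mem_iff hβ).1 (by simpa using hY _ ⟨by simp [hzy], _, h2⟩))

theorem Spl.good {g : V ≃ₗ[F] V} (hg : g ∈ Cz B z) (hgM : g ∈ M) {l : F} (hl : l ^ 2 ≠ 1)
    (hgy : g y = l • y) (h : Spl hA M z y) : Good hA M y :=
  (good_iff hA).2 (eq_top_of_mul (sub_ne_zero.2 hl) fun c => by
    obtain ⟨a, ha⟩ := h c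
    have h1 := M.mul_mem (M.inv_mem ha) (spl_conj hA hg hgM ha)
    rw [hgy, ee_scale hA (map_zero _), smul_zero, mul_inv_rev, mul_assoc, inv_mul_cancel_left,
      ee_inv hA (map_zero _), ee_mul hA (by simp) (map_zero _)] at h1
    rw [mem_Rz]
    convert h1 using 2 <;> simp; ring)

theorem mul_mem_Cz {e g : V ≃ₗ[F] V} (he : e ∈ Ez hA z) (hg : g ∈ Cz B z) {u : V}
    (hu : B z u = 0) : e * g ∈ Cz B z ∧ ∃ β : F, (e * g) u = g u + β • z := by
  refine ⟨Subgroup.mul_mem _ (Ez_le_Cz hA he) hg, ?_⟩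
  obtain ⟨w, a, h, rfl⟩ := he
  have h1 := hg.1 z u
  rw [show g z = z from hg.2, hu] at h1
  exact ⟨_, ee_perp hA h a h1⟩

variable [FiniteDimensional F V] (hB : B.Nondegenerate)
include hA hB

theorem exists_neg (hyz : y ∉ F ∙ z) (hz : z ≠ 0) (hzy : B z y = 0) :
    ∃ g ∈ Cz B z, g y = (-1 : F) • y ∧ ∀ u, B z u = 0 → ∃ c : F, g u = -u + c • z := by
  obtain ⟨z', h1, h2⟩ := exists_partner hA hB (H62.notMem_span_symm hz hyz)
  have h3 := hA.isRefl _ _ (h2 y (mem_span_singleton_self y))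
  obtain ⟨g, hg, h4⟩ := exists_hs hA hB h1 (t := -1) (by simp)
  refine ⟨g * LinearEquiv.neg F, ⟨Subgroup.mul_mem _ hg fun u v => by simp, ?_⟩, ?_, fun u hu =>
    ⟨-(2 * B z' u), ?_⟩⟩
  · change g (-z) = z
    simp [h4, hA.self_eq_zero, ← hA.neg_eq z z', h1]; module
  · change g (-y) = _
    simp [h4, h3, hzy]
  · change g (-u) = _
    simp [h4, hu]; module

section odd

variable (h2 : (2 : F) ≠ 0) (hz : z ≠ 0)
include h2 hz

theorem exists_spl (hY : ∀ u ∈ Yz hA M z, u ∈ F ∙ z) (hf : ∀ g ∈ Cz B z, ∃ e ∈ Ez hA z, e * g ∈ M)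
    (hyz : y ∉ F ∙ z) (hzy : B z y = 0) : ∃ s : F, Spl hA M z (y + s • z) := by
  obtain ⟨g, hg, h3, h4⟩ := exists_neg hA hB hyz hz hzy
  obtain ⟨_, ⟨u', a', hu', rfl⟩, hm⟩ := hf g hg
  refine ⟨-(B y u') / 2, fun c => ?_⟩
  obtain ⟨_, ⟨u, a, hu, rfl⟩, hk⟩ := hf (ee hA y 0 c) ⟨ee_mem hA _ _ _, by
    change ee hA y 0 c z = z
    simp [tv_apply, hA.isRefl _ _ hzy]⟩
  obtain ⟨κ, hκ⟩ := h4 u hu
  obtain ⟨b, hb⟩ := mem_span_singleton.1 (hY _ (rel hA hg.1 (χ := 1) (by simpa using hg.2)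
    (by simp) h3 hzy hu (by simp [hκ, hu, hA.self_eq_zero]) hu' hm hk))
  have h5 : u = (c * 1 * (-(B y u') / 2)) • y + ((κ - b) / 2) • z := by
    refine smul_right_injective V h2 ?_
    rw [hκ] at hb
    simp only [smul_add, smul_smul]
    field_simp
    linear_combination (norm := module) hb
  have h6 := tv_comb hA hzy 1 (-(B y u') / 2) c
  rw [one_smul, one_pow, mul_one] at h6
  rw [h5, ee_shift hA (by simp [hzy])] at hk
  refine ⟨a + 2 * ((κ - b) / 2) - c * (-(B y u') / 2) ^ 2, ?_⟩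
  rw [h6, ← mul_assoc, ee_mul hA (map_zero _) (by simp [hzy])]
  simpa using hk

theorem good_of_zero (hex : (∃ l : F, l ≠ 0 ∧ l ^ 2 ≠ 1) ∨ (3 : F) = 0 ∧ 5 ≤ finrank F V)
    (hY : ∀ u ∈ Yz hA M z, u ∈ F ∙ z) (hf : ∀ g ∈ Cz B z, ∃ e ∈ Ez hA z, e * g ∈ M)
    (hzy : B z y = 0) : ∃ s : F, Good hA M (y + s • z) := by
  by_cases hyz : y ∈ F ∙ z
  · obtain ⟨c, rfl⟩ := mem_span_singleton.1 hyz
    exact ⟨-c, by simp [good_zero]⟩
  have hsh : ∀ {y : V} (s : F), y ∉ F ∙ z → y + s • z ∉ F ∙ z := fun s h hm =>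
    h (((F ∙ z).add_mem_iff_left (smul_mem _ _ (mem_span_singleton_self z))).1 hm)
  obtain ⟨s, hs⟩ := exists_spl hA hB h2 hz hY hf hyz hzy
  refine ⟨s, ?_⟩
  have h3 := hsh s hyz
  have h4 : B z (y + s • z) = 0 := by simp [hzy, hA.self_eq_zero]
  generalize y + s • z = y at hs h3 h4
  have hmove : ∀ w w', Spl hA M z w → Spl hA M z w' → w ∉ F ∙ z → w' ∉ F ∙ z → B z w = 0 →
      B z w' = 0 → ∃ m ∈ Cz B z, m ∈ M ∧ m w = w' := fun w w' h5 h6 h7 h8 h9 h10 => by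
    obtain ⟨g, hg, rfl⟩ := exists_Cz hA hB h7 h8 (h9.trans h10.symm)
    obtain ⟨e, he, hm⟩ := hf g hg
    obtain ⟨h11, β, h12⟩ := mul_mem_Cz hA he hg h9
    refine ⟨_, h11, hm, ?_⟩
    rw [h12, h6.uniq hA hY h8 h10 (β := β) fun c => by
      obtain ⟨a, ha⟩ := h5 c
      exact ⟨a, h12 ▸ spl_conj hA h11 hm ha⟩, zero_smul, add_zero]
  rcases hex with ⟨l, hl0, hl⟩ | ⟨h5, h6⟩
  · obtain ⟨m, h7, h8, h9⟩ := hmove y (l • y) hs (hs.smul hA l) h3
      (mt ((F ∙ z).smul_mem_iff hl0).1 h3) h4 (by simp [h4])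
    exact hs.good hA h7 h8 hl h9
  obtain ⟨g, hg, -, h7⟩ := exists_neg hA hB h3 hz h4
  obtain ⟨e, he, hm⟩ := hf g hg
  have h8 : ∀ w, Spl hA M z w → w ∉ F ∙ z → B z w = 0 → (e * g) w = -w := fun w h9 h10 h11 => by
    obtain ⟨h12, β, h13⟩ := mul_mem_Cz hA he hg h11
    obtain ⟨κ, hκ⟩ := h7 w h11
    rw [hκ, add_assoc, ← add_smul, ← neg_one_smul F w] at h13
    rw [h13, (h9.smul hA (-1)).uniq hA hY (mt ((F ∙ z).smul_mem_iff (by simp)).1 h10)
      (by simp [h11]) (β := κ + β) fun c => by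
        obtain ⟨a, ha⟩ := h9 c
        exact ⟨a, h13 ▸ spl_conj hA h12 hm ha⟩]
    simp
  have h9 : ∀ w, (e * g) w = -w → w ∉ F ∙ z → B z w = 0 → Spl hA M z w := fun w h9 h10 h11 => by
    obtain ⟨s, hs⟩ := exists_spl hA hB h2 hz hY hf h10 h11
    have h12 := h8 _ hs (hsh s h10) (by simp [h11, hA.self_eq_zero])
    rw [map_add, map_smul, h9, show (e * g) z = z from (mul_mem_Cz hA he hg h11).1.2] at h12
    have h13 : (2 * s) • z = 0 := by linear_combination (norm := module) h12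
    rw [(mul_eq_zero.1 ((smul_eq_zero.1 h13).resolve_right hz)).resolve_left h2] at hs
    simpa using hs
  obtain ⟨w, -, hw1, hw2⟩ := H62.exists_mem_notMem_ker [B z, B y] (W := ⊤) (Z := span F {z, y})
    (by rw [finrank_top, ML.finrank_span_pair hz h3]; simp; omega)
  have hzw := hw2 (B z) (by simp)
  have hyw := hw2 (B y) (by simp)
  obtain ⟨s', hs'⟩ := exists_spl hA hB h2 hz hY hf (fun hm => hw1 (span_mono (by simp) hm)) hzw
  have h10 : w + s' • z ∉ span F {z, y} := fun hm => hw1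
    (((span F {z, y}).add_mem_iff_left (smul_mem _ _ (subset_span (by simp)))).1 hm)
  have h11 : B z (w + s' • z) = 0 := by simp [hzw, hA.self_eq_zero]
  have h12 : B y (w + s' • z) = 0 := by simp [hyw, hA.isRefl _ _ h4]
  generalize w + s' • z = x at hs' h10 h11 h12
  have h13 : x ∉ F ∙ z := fun hm => h10 (span_mono (by simp) hm)
  have h14 : ∀ t : F, t ≠ 0 → y + t • x ∉ F ∙ z := fun t ht hm => h10 (((span F {z, y}).smul_mem_iff
    ht).1 (((span F {z, y}).add_mem_iff_right (subset_span (by simp))).1 (span_mono (by simp) hm)))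
  have h15 : ∀ t : F, t ≠ 0 → Spl hA M z (y + t • x) := fun t ht => h9 _
    (by rw [map_add, map_smul, h8 y hs h3 h4, h8 x hs' h13 h11]; module) (h14 t ht)
    (by simp [h4, h11])
  intro c
  obtain ⟨a, ha⟩ := hs c
  have h16 : ∀ w, Spl hA M z w → w ∉ F ∙ z → B z w = 0 → ee hA z 0 a * ee hA w 0 c ∈ M :=
    fun w h h' h'' => by
    obtain ⟨m, h7, h8, rfl⟩ := hmove y w hs h h3 h' h4 h''
    exact spl_conj hA h7 h8 ha
  have h17 := M.mul_mem (M.mul_mem (M.mul_mem (h16 _ (h15 1 one_ne_zero) (h14 1 one_ne_zero)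
    (by simp [h4, h11])) (h16 _ (h15 (-1) (by simp)) (h14 (-1) (by simp)) (by simp [h4, h11]))) ha)
    (h16 x hs' h13 h11)
  refine (M.mul_mem_cancel_left ?_).1 ha
  convert h17 using 1
  ext v
  simp only [LinearEquiv.mul_apply, tv_apply, map_add, map_smul, LinearMap.add_apply,
    LinearMap.smul_apply, smul_eq_mul, h4, h11, h12, hA.isRefl _ _ h4, hA.isRefl _ _ h11,
    hA.isRefl _ _ h12, hA.self_eq_zero]
  linear_combination (norm := module) (-(a * B z v) * h5) • z + (-(c * B y v) * h5) • y +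
    (-(c * B x v) * h5) • x

theorem good_of_line [Fintype F] {l : F} (hl0 : l ≠ 0) (hl : l ^ 2 ≠ 1) (hbad : ¬ Good hA M z)
    (hyz : y ∉ F ∙ z) (hzy : B z y = 0) (hY : ∀ u, u ∈ Yz hA M z ↔ u ∈ span F {z, y})
    (hf : ∀ g ∈ Cz B z, g y ∈ span F {z, y} → ∃ e ∈ Ez hA z, e * g ∈ M) :
    ∃ s : F, Good hA M (y + s • z) ∧ ∀ b : F, ee hA z (b • (y + s • z)) 0 ∈ M := by
  have hsp : ∀ c : F, c • y ∈ span F {z, y} := fun c => smul_mem _ _ (subset_span (by simp))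
  obtain ⟨g, hg, h3, h4⟩ := exists_neg hA hB hyz hz hzy
  obtain ⟨e, he, hm⟩ := hf g hg (h3 ▸ hsp _)
  obtain ⟨h5, β, h6⟩ := mul_mem_Cz hA he hg hzy
  have h7 : ∀ b : F, ee hA z (b • (y + (-β / 2) • z)) 0 ∈ M := fun b => by
    obtain ⟨h8, a, ha⟩ := (hY _).2 (hsp b)
    have h9 := mem_conj hA h5.1 hm ha
    rw [show (e * g) z = z from h5.2, map_smul, h6, h3, smul_add, smul_smul b β,
      ee_shift hA (by simp [hzy])] at h9
    have h10 := mem_add hA (by simp [hzy]) h8 h9 ha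
    rw [smul_add, smul_smul, ee_shift hA h8]
    refine mem_of_Rz hA h8 ha ((Rz hA M z).neg_mem_iff.1 (half_mem h2 ?_))
    rw [mem_Rz]
    convert h10 using 2
    · module
    · simp [hA.self_eq_zero]; field_simp; ring
  refine ⟨_, ?_, h7⟩
  have h8 : y + (-β / 2) • z ∉ F ∙ z := fun hm =>
    hyz (((F ∙ z).add_mem_iff_left (smul_mem _ _ (mem_span_singleton_self z))).1 hm)
  have h9 : B z (y + (-β / 2) • z) = 0 := by simp [hzy, hA.self_eq_zero]
  have h10 : span F {z, y} = span F {z, y + (-β / 2) • z} := by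
    ext v
    simp only [mem_span_pair]
    exact ⟨fun ⟨a, b, h⟩ => ⟨a + b * (β / 2), b, by rw [← h]; module⟩,
      fun ⟨a, b, h⟩ => ⟨a - b * (β / 2), b, by rw [← h]; module⟩⟩
  have hf' : ∀ g ∈ Cz B z, g (y + (-β / 2) • z) ∈ span F {z, y + (-β / 2) • z} →
      ∃ e ∈ Ez hA z, e * g ∈ M := fun g hg h => hf g hg (by
    rwa [← h10, map_add, map_smul, show g z = z from hg.2,
      Submodule.add_mem_iff_left _ (smul_mem _ _ (subset_span (by simp)))] at h)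
  rw [h10] at hY
  generalize y + (-β / 2) • z = x at h7 h8 h9 hY hf'
  have hsp : ∀ c : F, c • x ∈ span F {z, x} := fun c => smul_mem _ _ (subset_span (by simp))
  have hs : Spl hA M z x := fun c => by
    obtain ⟨g, hg, h3, h4⟩ := exists_neg hA hB h8 hz h9
    obtain ⟨_, ⟨u', a', hu', rfl⟩, hm⟩ := hf' g hg (h3 ▸ hsp _)
    obtain ⟨_, ⟨u, a, hu, rfl⟩, hk⟩ := hf' (ee hA x 0 c) ⟨ee_mem hA _ _ _, by
      change ee hA x 0 c z = z
      simp [tv_apply, hA.isRefl _ _ h9]⟩ (by simpa [tv_apply, hA.self_eq_zero] using hsp 1)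
    obtain ⟨κ, hκ⟩ := h4 u hu
    have h11 := (hY _).1 (rel hA hg.1 (χ := 1) (by simpa using hg.2)
      (by simp) h3 h9 hu (by simp [hκ, hu, hA.self_eq_zero]) hu' hm hk)
    rw [Submodule.sub_mem_iff_left _ (hsp _), hκ, one_smul,
      show -u + κ • z - u = κ • z - (2 : F) • u by module,
      Submodule.sub_mem_iff_right _ (smul_mem _ _ (subset_span (by simp))),
      Submodule.smul_mem_iff _ h2] at h11
    obtain ⟨p, b, rfl⟩ := mem_span_pair.1 h11
    rw [add_comm, ee_shift hA (by simp [h9])] at hk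
    have h12 := M.mul_mem (M.inv_mem (h7 b)) hk
    rw [← mul_assoc, ee_inv hA (by simp [h9]), ee_mul hA (by simp [h9]) (by simp [h9]),
      neg_add_cancel] at h12
    exact ⟨_, h12⟩
  obtain ⟨k, hk, h11⟩ := exists_Cz hA hB h8 (mt ((F ∙ z).smul_mem_iff hl0).1 h8)
    (by simp [h9])
  obtain ⟨e, he, hm⟩ := hf' k hk (h11 ▸ hsp _)
  obtain ⟨h12, γ, h13⟩ := mul_mem_Cz hA he hk h9
  refine hs.good hA h12 hm hl ?_
  by_contra hne
  have h14 : γ ≠ 0 := by rintro rfl; exact hne (by simpa [h11] using h13)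
  refine hbad ((good_iff hA).2 (eq_top_of_mul (mul_ne_zero h2 h14) fun b => ?_))
  have h15 := mem_conj hA h12.1 hm (h7 b)
  rw [show (e * k) z = z from h12.2, map_smul, h13, h11, smul_add, smul_smul, smul_smul,
    ee_shift hA (by simp [h9])] at h15
  convert sub_mem_Rz hA (by simp [h9]) h15 (h7 _) using 1
  ring

end odd

end H26.MS
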