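import Cfsg.Agent.H26.MinS3

/-! Small actions of symplectic groups, part 4: small invariant sets, odd characteristic. -/

namespace H26.MS

open H54 H26.MU Module Finset MulAction Submodule
open scoped Pointwise

theorem num1 {q x k s : ℕ} (hq : 2 ≤ q) (hx : q ^ 2 ≤ x) (h1 : k * q < 2 * s)
    (h2 : s * s ≤ q ^ 2 * x) : ¬ 2 * (x * q) + k * q ≤ k * s + 2 * q := fun h3 => by
  have h4 := Nat.mul_le_mul_left q h3
  rcases le_or_gt s q with h | h
  · have := Nat.mul_le_mul_left k h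
    nlinarith
  · obtain ⟨t, rfl⟩ := Nat.exists_eq_add_of_lt h
    have := Nat.mul_le_mul_right (t + 1) h1.le
    nlinarith

theorem num2 {q x k s : ℕ} (hq : 2 ≤ q) (hx : q ^ 2 ≤ x) (h1 : k * q < 2 * s)
    (h2 : 2 * s ≤ q ^ 2) : ¬ x * q + k * q ≤ k * s + q := fun h3 => by
  have h4 : k < q := by nlinarith
  have h5 := Nat.mul_le_mul_left k h2
  have h6 := Nat.mul_le_mul_right (q ^ 2) h4
  have h7 := Nat.mul_le_mul_right q hx
  nlinarith

theorem num3 {q x k : ℕ} (hq : 2 ≤ q) (hx : q ^ 3 ≤ x) (h1 : k * q < 2 * q ^ 2) :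
    ¬ x * q + k * q ≤ k * q ^ 2 + q := fun h3 => by
  have h4 : k < 2 * q := by nlinarith
  have h5 : x + k ≤ k * q + 1 := by nlinarith
  obtain ⟨r, rfl⟩ := Nat.exists_eq_add_of_le hq
  have h6 := Nat.mul_le_mul_right (1 + r) h4
  nlinarith

theorem num4 {q x k : ℕ} (hq : 2 ≤ q) (hx : q ^ 2 ≤ x) (h3 : x * q + k * q ≤ k * q ^ 2 + q) :
    q ≤ k := by
  have h5 : x + k ≤ k * q + 1 := by nlinarith
  by_contra h
  obtain ⟨r, rfl⟩ := Nat.exists_eq_add_of_le hq
  have h6 := Nat.mul_le_mul_right (1 + r) (not_le.1 h).le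
  nlinarith

variable {F V : Type*} [Field F] [AddCommGroup V] [Module F V] {B : LinearMap.BilinForm F V}
  (hA : B.IsAlt) [FiniteDimensional F V] [Fintype F] {Ω : Type*} [MulAction (V ≃ₗ[F] V) Ω]
  {z : V}

/-- The form as a biadditive map. -/
def bA (B : LinearMap.BilinForm F V) : V →+ V →+ F :=
  AddMonoidHom.mk' (fun v => (B v).toAddMonoidHom) fun v w => by ext; simp

theorem fact (hB : B.Nondegenerate) (hz : z ≠ 0) {d : ℕ} (hd : finrank F V = d + 2) {S : Finset Ω}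
    (hS : ∀ g ∈ Cz B z, ∀ ω ∈ S, g • ω ∈ S) (Φ : Ω → AddSubgroup V)
    (hC : ∀ g ∈ Cz B z, ∀ ω, Φ (g • ω) = g • Φ ω) (hE : ∀ g ∈ Ez hA z, ∀ ω, Φ (g • ω) = Φ ω)
    {ω : Ω} (hω : ω ∈ S) {g : V ≃ₗ[F] V} (hg : g ∈ Cz B z) (hX : g • Φ ω = Φ ω)
    (hlt : #S * (Nat.card (Yz hA (stabilizer _ ω) z) * Nat.card (Rz hA (stabilizer _ ω) z)) <
      #(orb B z (Φ ω)) * 2 * Fintype.card F ^ (d + 2)) :
    ∃ e ∈ Ez hA z, e * g ∈ stabilizer (V ≃ₗ[F] V) ω := by
  by_contra hn
  push Not at hn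
  refine hlt.not_ge ?_
  have := orbfam hA hB hz hd hS Φ hC hE (fun b : Bool => cond b (g • ω) ω)
    (by rintro (_ | _); exacts [hω, hS g hg ω hω]) (X := Φ ω)
    (by rintro (_ | _); exacts [rfl, (hC g hg ω).trans hX]) (by
      rintro (_ | _) (_ | _) e he h
      · rfl
      · exact (hn e⁻¹ (Subgroup.inv_mem _ he) (by
          rw [mem_stabilizer_iff, mul_smul, inv_smul_eq_iff]; exact h.symm)).elim
      · exact (hn e he (by rw [mem_stabilizer_iff, mul_smul]; exact h)).elim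
      · rfl) (m := Nat.card (Yz hA (stabilizer _ ω) z) * Nat.card (Rz hA (stabilizer _ ω) z)) (by
      rintro (_ | _)
      · rfl
      · rw [cond_true, Yz_smul_C hA hg, Rz_smul_C hA hg,
          show Nat.card (g • Yz hA (stabilizer _ ω) z : AddSubgroup V) = _ from
            AddSubgroup.card_map_of_injective (MulAction.injective _)])
  rwa [Nat.card_eq_fintype_card, Fintype.card_bool] at this

omit [FiniteDimensional F V] [Fintype F] hA in
theorem smul_eq_of_span {g : V ≃ₗ[F] V} (hg : g ∈ Cz B z) {y : V} (hy : g y ∈ span F {z, y})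
    {X : AddSubgroup V} [Finite X] (hX : ∀ u, u ∈ X ↔ u ∈ span F {z, y}) : g • X = X := by
  refine AddSubgroup.eq_of_le_of_card_ge (fun v hv => ?_)
    (AddSubgroup.card_map_of_injective (MulAction.injective g)).ge
  obtain ⟨x, hx, rfl⟩ := (AddSubgroup.mem_smul_pointwise_iff_exists _ _ _).1 hv
  obtain ⟨a, b, rfl⟩ := mem_span_pair.1 ((hX x).1 hx)
  rw [hX, LinearEquiv.smul_def, map_add, map_smul, map_smul, show g z = z from hg.2]
  exact add_mem (smul_mem _ _ (subset_span (by simp))) (smul_mem _ _ hy)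

omit hA in
theorem orb_pos (X : AddSubgroup V) : 0 < #(orb B z X) :=
  card_pos.2 ⟨X, mem_orb.2 ⟨1, Subgroup.one_mem _, one_smul _ _⟩⟩

/-- A small invariant set of points. -/
structure Sm (B : LinearMap.BilinForm F V) (d : ℕ) (S : Finset Ω) : Prop where
  nd : B.Nondegenerate
  dim : finrank F V = d + 2
  two : 2 ≤ d
  cl : ∀ g ∈ Isom B, ∀ ω ∈ S, g • ω ∈ S
  small : (Fintype.card F - 1) * #S < Fintype.card F ^ (d + 2)

open Classical in
/-- The points with given group of transvections with centre `z`. -/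
noncomputable def SR (S : Finset Ω) (z : V) (R : AddSubgroup F) : Finset Ω :=
  S.filter fun ω => Rz hA (stabilizer _ ω) z = R

omit [FiniteDimensional F V] [Fintype F] in
theorem mem_SR {S : Finset Ω} {R : AddSubgroup F} {ω : Ω} :
    ω ∈ SR hA S z R ↔ ω ∈ S ∧ Rz hA (stabilizer _ ω) z = R := by
  classical
  exact mem_filter

namespace Sm

variable {d : ℕ} {S : Finset Ω} (hS : Sm B d S) {ω : Ω} (hω : ω ∈ S) (hz : z ≠ 0)
include hS

omit [FiniteDimensional F V] in
theorem SR_cl (R : AddSubgroup F) : ∀ g ∈ Cz B z, ∀ ω ∈ SR hA S z R, g • ω ∈ SR hA S z R := by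
  intro g hg ω hω
  rw [mem_SR] at hω ⊢
  exact ⟨hS.cl g hg.1 ω hω.1, by rw [Rz_smul_C hA hg, hω.2]⟩

include hz

theorem K1 {R : AddSubgroup F} (hR : R ≠ ⊤) :
    #(SR hA S z R) * Nat.card R < 2 * Fintype.card F ^ (d + 1) := by
  have h1 := tor hA hS.nd hz (fun g hg _ _ _ => hS.cl g hg) R
  have h2 := sqOrb_ineq hR
  have h3 := hS.small
  refine lt_of_mul_lt_mul_left (a := Fintype.card F) ?_ (Nat.zero_le _)
  calc _ = Fintype.card F * Nat.card R * #(SR hA S z R) := by ring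
    _ ≤ _ := Nat.mul_le_mul_right _ h2
    _ = 2 * ((Fintype.card F - 1) * (#(sqOrb R) * #(SR hA S z R))) := by ring
    _ ≤ 2 * ((Fintype.card F - 1) * #S) := by gcongr; exact h1
    _ < _ := by rw [pow_succ] at h3; linarith

include hω

theorem odd_types (h2 : (2 : F) ≠ 0) (hbad : ¬ Good hA (stabilizer _ ω) z) :
    ((∀ u ∈ Yz hA (stabilizer _ ω) z, u ∈ F ∙ z) ∧
      ∀ g ∈ Cz B z, ∃ e ∈ Ez hA z, e * g ∈ stabilizer (V ≃ₗ[F] V) ω) ∨
    (d = 2 ∧ ∃ y, y ∉ F ∙ z ∧ B z y = 0 ∧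
      (∀ u, u ∈ Yz hA (stabilizer _ ω) z ↔ u ∈ span F {z, y}) ∧
      ∀ g ∈ Cz B z, g y ∈ span F {z, y} → ∃ e ∈ Ez hA z, e * g ∈ stabilizer (V ≃ₗ[F] V) ω) := by
  have : Finite V := Module.finite_of_finite F
  rw [good_iff] at hbad
  have hq : 2 ≤ Fintype.card F := Fintype.one_lt_card
  have h1 := hS.K1 hA hz hbad
  have hωR : ω ∈ SR hA S z (Rz hA (stabilizer _ ω) z) := (mem_SR hA).2 ⟨hω, rfl⟩
  by_cases hY : ∀ u ∈ Yz hA (stabilizer _ ω) z, u ∈ F ∙ z
  · refine Or.inl ⟨hY, fun g hg => fact hA hS.nd hz hS.dim (hS.SR_cl hA _) (fun _ => ⊥)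
      (fun _ _ _ => (AddSubgroup.map_bot _).symm) (fun _ _ _ => rfl) hωR hg
      (AddSubgroup.map_bot _) ?_⟩
    have h3 : Nat.card (Yz hA (stabilizer _ ω) z) ≤ Fintype.card F := by
      refine (AddSubgroup.card_le_of_le (K := (F ∙ z).toAddSubgroup) hY).trans ?_
      change Nat.card (F ∙ z) ≤ _
      rw [ML.card_V' (F := F), finrank_span_singleton hz, pow_one]
    have h4 := orb_pos (B := B) (z := z) ⊥
    have h5 := Nat.mul_le_mul_right
      (#(SR hA S z (Rz hA (stabilizer _ ω) z)) * Nat.card (Rz hA (stabilizer _ ω) z)) h3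
    have h6 := Nat.mul_le_mul_right (2 * Fintype.card F ^ (d + 2)) h4
    rw [pow_succ _ (d + 1)] at h6 ⊢
    nlinarith
  right
  obtain ⟨c, hc⟩ : ∃ c, c ∉ Rz hA (stabilizer _ ω) z := by
    simpa [AddSubgroup.eq_top_iff'] using hbad
  have h3 := card_mul_le_of_orth' (bA B) _ hc (Yz hA (stabilizer _ ω) z) (Yz hA (stabilizer _ ω) z)
    (fun y hy => by
      obtain ⟨v, hv, -⟩ := exists_partner hA hS.nd (W := ⊥) (x := y) hy
      exact ⟨-c • v, by simp [bA, ← hA.neg_eq y v, hv]⟩) fun y hy y' hy' => half_mem h2 (two_mul_mem_Rz hA hy hy')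
  have h4 := orbfam hA hS.nd hz hS.dim (hS.SR_cl hA _) (fun ω => Yz hA (stabilizer _ ω) z)
    (fun g hg => Yz_smul_C hA hg) (fun g hg => Yz_smul_E hA hg) (fun _ : Unit => ω)
    (fun _ => hωR) (fun _ => rfl) (fun _ _ _ _ _ => rfl) fun _ => le_rfl
  obtain ⟨h5, h6⟩ := cover_orb hA hS.nd hz hS.dim (smul_mem_Yz hA) (fun x hx => hx.1) hY
  have h7 : Fintype.card F ^ 2 ≤ Fintype.card F ^ d := Nat.pow_le_pow_right (by omega) hS.two
  have h8 : 0 < Nat.card (Yz hA (stabilizer _ ω) z) := Nat.card_pos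
  have h9 : #(orb B z (Yz hA (stabilizer _ ω) z)) * Fintype.card F <
      2 * Nat.card (Yz hA (stabilizer _ ω) z) := by
    refine lt_of_mul_lt_mul_right (a := Fintype.card F ^ (d + 1)) ?_ (Nat.zero_le _)
    rw [Nat.card_unique, pow_succ _ (d + 1)] at h4
    nlinarith
  rw [ML.card_V' (F := F) (V := V), hS.dim, pow_add, mul_comm (_ ^ d)] at h3
  rw [pow_succ] at h5 h6
  rcases h6 with h6 | h6 | ⟨y, hy, hyz, h10, h6 | ⟨h6, h11⟩⟩
  · exact (num1 hq h7 h9 h3 h6).elim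
  · obtain ⟨u, -, hu1, hu2⟩ := H62.exists_mem_notMem_ker [B z] (W := ⊤) (Z := F ∙ z)
      (by rw [finrank_top, finrank_span_singleton hz, List.length_singleton, hS.dim]
          have := hS.two; omega)
    obtain ⟨v, hv1, hv2⟩ := exists_partner hA hS.nd hu1
    have := half_mem h2 (two_mul_mem_Rz hA (h6 u (hu2 _ (by simp)))
      (h6 (c • v) (by simp [hv2 z (mem_span_singleton_self z)])))
    exact (hc (by simpa [hv1] using this)).elim
  · exact (num2 hq h7 h9 h6 h5).elim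
  rw [h6] at h5 h9
  have h12 : ∀ u, u ∈ Yz hA (stabilizer _ ω) z ↔ u ∈ span F {z, y} := fun u => ⟨h10 u, h11 u⟩
  have hd : d = 2 := by
    by_contra hd
    exact num3 hq (Nat.pow_le_pow_right (by omega) (by have := hS.two; omega)) h9 h5
  refine ⟨hd, y, hyz, hy.1, h12, fun g hg hgy => fact hA hS.nd hz hS.dim (hS.SR_cl hA _)
    (fun ω => Yz hA (stabilizer _ ω) z) (fun g hg => Yz_smul_C hA hg)
    (fun g hg => Yz_smul_E hA hg) hωR hg (smul_eq_of_span hg hgy h12) ?_⟩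
  have h13 := Nat.mul_le_mul_right (2 * Fintype.card F ^ (d + 2)) (num4 hq h7 h5)
  have h14 := (Nat.mul_lt_mul_left (a := Fintype.card F ^ 2) (by positivity)).2 h1
  subst hd
  rw [h6, mul_left_comm, mul_assoc]
  exact h14.trans_le ((le_of_eq (by ring)).trans h13)

end Sm

omit [FiniteDimensional F V] [Fintype F] hA in
theorem exists_sq_ne_one [Fintype F] (h : 4 ≤ Fintype.card F) : ∃ l : F, l ≠ 0 ∧ l ^ 2 ≠ 1 := by
  classical
  obtain ⟨l, hl⟩ : ∃ l, l ∉ ({0, 1, -1} : Finset F) := by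
    by_contra hn
    push Not at hn
    have := (card_le_card (s := univ) fun x _ => hn x).trans card_le_three
    rw [card_univ] at this
    omega
  simp only [mem_insert, mem_singleton, not_or] at hl
  exact ⟨l, hl.1, fun h => (sq_eq_one_iff.1 h).elim hl.2.1 hl.2.2⟩

omit hA in
theorem ncard_sub (W : Submodule F V) : (W : Set V).ncard = Fintype.card F ^ finrank F W :=
  (Nat.card_coe_set_eq _).symm.trans (ML.card_V' (V := W))

theorem orbit_chain {G X : Type*} [Group G] [Finite G] [MulAction G X] (L M : Subgroup G)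
    (a b : X) : (orbit L a).ncard * (orbit ↥(stabilizer G a ⊓ L) b).ncard ≤
      M.relIndex L * ((orbit ↥(M ⊓ L) a).ncard * (orbit ↥(stabilizer G a ⊓ (M ⊓ L)) b).ncard) := by
  have key : ∀ L : Subgroup G, (orbit L a).ncard * (orbit ↥(stabilizer G a ⊓ L) b).ncard =
      (stabilizer G b ⊓ (stabilizer G a ⊓ L)).relIndex L := fun L => by
    rw [← relIndex_stab, ← relIndex_stab, ← Subgroup.relIndex_mul_relIndex _ (stabilizer G a ⊓ L) L
      inf_le_right inf_le_right, Subgroup.inf_relIndex_right, Subgroup.inf_relIndex_right, mul_comm]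
  rw [key, key, ← Subgroup.inf_relIndex_right M, mul_comm, Subgroup.relIndex_mul_relIndex _ _ _
    (inf_le_right.trans inf_le_right) inf_le_right]
  exact Subgroup.relIndex_le_of_le_left (inf_le_inf_left _ (inf_le_inf_left _ inf_le_right))
    Subgroup.FiniteIndex.index_ne_zero

include hA in
theorem line_count (hB : B.Nondegenerate) (h4 : finrank F V = 4) {y w : V}
    (hy : y ≠ 0) (hw : w ∉ F ∙ y) (hyw : B y w = 0) {M : Subgroup (V ≃ₗ[F] V)}
    (hM : ∀ g ∈ Isom B, g ∈ M → g y ∈ span F {y, w} ∧ g w ∈ span F {y, w}) :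
    Fintype.card F ^ 4 - 1 ≤ (Fintype.card F - 1) * M.relIndex (Isom B) := by
  have := H59.finite_linearEquiv (F := F) (V := V)
  have : Finite V := Module.finite_of_finite F
  have h0 := orbit_chain (Isom B) M y w
  have hd : ∀ {W W' : Submodule F V}, W' ≤ W → ((W : Set V) \ W').ncard =
      Fintype.card F ^ finrank F W - Fintype.card F ^ finrank F W' := fun h => by
    rw [Set.ncard_sdiff h, ncard_sub, ncard_sub]
  have hk := Module.Dual.finrank_ker_add_one_of_ne_zero (f := B y) fun h =>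
    hy (hB.1 y fun x => by simp [h])
  have h1 := Set.ncard_le_ncard (t := orbit (Isom B) y) (s := (⊤ : Submodule F V) \ (⊥ : Submodule F V))
    fun v hv => by
      obtain ⟨g, hg, rfl⟩ := exists_map hA hB hy hv.2
      exact ⟨⟨g, hg⟩, rfl⟩
  have h2 := Set.ncard_le_ncard (t := orbit ↥(stabilizer (V ≃ₗ[F] V) y ⊓ Isom B) w)
    (s := LinearMap.ker (B y) \ (F ∙ y)) fun v hv => by
      obtain ⟨g, hg, rfl⟩ := exists_Cz hA hB hw hv.2 (hyw.trans hv.1.symm)
      exact ⟨⟨g, hg.2, hg.1⟩, rfl⟩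
  have h3 := Set.ncard_le_ncard (s := orbit ↥(M ⊓ Isom B) y)
    (t := span F {y, w} \ (⊥ : Submodule F V)) (by
      rintro _ ⟨g, rfl⟩
      exact ⟨(hM g g.2.2 g.2.1).1, fun h => hy (g.1.injective (h.trans (map_zero _).symm))⟩)
  have h5 := Set.ncard_le_ncard (s := orbit ↥(stabilizer (V ≃ₗ[F] V) y ⊓ (M ⊓ Isom B)) w)
    (t := span F {y, w} \ (F ∙ y)) (by
      rintro _ ⟨g, rfl⟩
      refine ⟨(hM g g.2.2.2 g.2.2.1).2, fun h => hw ?_⟩
      obtain ⟨c, hc⟩ := mem_span_singleton.1 h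
      exact mem_span_singleton.2 ⟨c, g.1.injective (by
        rw [map_smul, show g.1 y = y from g.2.1]; exact hc)⟩)
  rw [hd bot_le, finrank_bot, pow_zero] at h1 h3
  rw [hd (by simpa [span_singleton_le_iff_mem] using hA.self_eq_zero y),
    show finrank F (LinearMap.ker (B y)) = 3 by omega, finrank_span_singleton hy] at h2
  rw [hd (span_mono (by simp)), finrank_span_singleton hy] at h5
  rw [ML.finrank_span_pair hy hw] at h3 h5
  rw [finrank_top, h4] at h1
  have h6 := ((Nat.mul_le_mul h1 h2).trans h0).trans (Nat.mul_le_mul_left _ (Nat.mul_le_mul h3 h5))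
  obtain ⟨r, hr⟩ : ∃ r, Fintype.card F = r + 2 :=
    ⟨Fintype.card F - 2, by have := Fintype.one_lt_card (α := F); omega⟩
  rw [hr] at h6 ⊢
  rw [show (r + 2) ^ 3 - (r + 2) ^ 1 = (r + 1) * (r + 2) * (r + 3) from
      Nat.sub_eq_of_eq_add (by ring), show (r + 2) ^ 2 - 1 = (r + 1) * (r + 3) from
      Nat.sub_eq_of_eq_add (by ring), show (r + 2) ^ 2 - (r + 2) ^ 1 = (r + 1) * (r + 2) from
      Nat.sub_eq_of_eq_add (by ring)] at h6
  refine Nat.le_of_mul_le_mul_right (c := (r + 1) * (r + 2) * (r + 3)) (h6.trans_eq ?_)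
    (by positivity)
  rw [show r + 2 - 1 = r + 1 from rfl]
  ring

end H26.MS
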