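import Cfsg.Agent.H26.MinS4

/-! Small actions of symplectic groups, part 5: characteristic two, local structure. -/

namespace H26.MS

open H54 H26.MU Module Finset MulAction Submodule
open scoped Pointwise

variable {F V : Type*} [Field F] [AddCommGroup V] [Module F V] {B : LinearMap.BilinForm F V}
  (hA : B.IsAlt) {M : Subgroup (V ≃ₗ[F] V)} {z y u : V}

theorem ee_shift2 (h2 : (2 : F) = 0) (h : B z u = 0) (c a : F) :
    ee hA z (u + c • z) a = ee hA z u a := by rw [ee_shift hA h, h2, zero_mul, add_zero]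

theorem ee_comb (h : B z y = 0) (l b a : F) : ee hA (y + l • z) (b • z) a =
    ee hA z ((a * l) • y) (a * l ^ 2 + 2 * (b * l)) * ee hA y (b • z) a := by
  ext x
  simp only [LinearEquiv.mul_apply, ee_apply hA (show B z ((a * l) • y) = 0 by simp [h]),
    ee_apply hA (show B y (b • z) = 0 by simp [hA.isRefl _ _ h]),
    ee_apply hA (show B (y + l • z) (b • z) = 0 by simp [hA.isRefl _ _ h, hA.self_eq_zero]),
    map_add, map_smul, LinearMap.add_apply, LinearMap.smul_apply, smul_eq_mul, h,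
    hA.isRefl _ _ h, hA.self_eq_zero]
  module

/-- `M ∩ E` consists of elements with trivial scalar part. -/
def Nil (M : Subgroup (V ≃ₗ[F] V)) (x : V) : Prop := ∀ u a, B x u = 0 → ee hA x u a ∈ M → a = 0

/-- `M ∩ E` covers `E` modulo the transvections. -/
def Ful (M : Subgroup (V ≃ₗ[F] V)) (x : V) : Prop := ∀ u, B x u = 0 → ∃ a, ee hA x u a ∈ M

theorem good_of_mem (h2 : (2 : F) = 0) [Fintype F] (hN : ∀ x, ¬ Good hA M x → Nil hA M x)
    (hzy : B z y = 0) {a b : F} (h : ee hA z (b • y) a * ee hA y 0 1 ∈ M) :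
    ∃ s : F, Good hA M (y + s • z) := by
  obtain ⟨s, rfl⟩ := exists_sq h2 a
  refine ⟨s, by_contra fun hn => one_ne_zero (hN _ hn ((b - s) • z) 1
    (by simp [hA.isRefl _ _ hzy, hA.self_eq_zero]) ?_)⟩
  convert h using 1
  ext x
  simp only [LinearEquiv.mul_apply, ee_apply hA (show B z (b • y) = 0 by simp [hzy]), tv_apply,
    ee_apply hA (show B (y + s • z) ((b - s) • z) = 0 by simp [hA.isRefl _ _ hzy, hA.self_eq_zero]),
    map_add, map_smul, LinearMap.add_apply, LinearMap.smul_apply, smul_eq_mul, hzy, hA.self_eq_zero]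
  linear_combination (norm := module) ((b - s) * s * B z x * h2) • z

theorem good_of_K {l : F} (hl0 : l ≠ 0) (hl1 : l ≠ 1) (hzy : B z y = 0)
    (h : ∀ c m : F, ee hA z ((c * m) • y) (c * m ^ 2) ∈ M) : Good hA M z :=
  (good_iff hA).2 (eq_top_of_mul (mul_ne_zero hl0 (sub_ne_zero.2 hl1)) fun c => by
    have h1 := h (c * l) 1
    rw [mul_one] at h1
    convert sub_mem_Rz hA (by simp [hzy]) (h c l) h1 using 1
    ring)

theorem Ful.smul (h : Ful hA M z) {t : F} (ht : t ≠ 0) : Ful hA M (t • z) := fun u hu => by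
  have h1 : B z u = 0 := by simpa [ht] using hu
  obtain ⟨a, ha⟩ := h (t • u) (by simp [h1])
  exact ⟨a / t ^ 2, by rwa [ee_scale hA h1, mul_div_cancel₀ _ (pow_ne_zero 2 ht)]⟩

section act

variable {Ω : Type*} [MulAction (V ≃ₗ[F] V) Ω] {g : V ≃ₗ[F] V} (hg : g ∈ Isom B) (ω : Ω)
include hg

theorem ful_smul : Ful hA (stabilizer _ (g • ω)) (g z) ↔ Ful hA (stabilizer _ ω) z := by
  refine ⟨fun h u hu => ?_, fun h u hu => ?_⟩
  · simpa only [ee_mem_smul hA hg] using h (g u) (by rw [hg, hu])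
  · obtain ⟨u, rfl⟩ := g.surjective u
    simpa only [ee_mem_smul hA hg] using h u (by rwa [hg] at hu)

theorem good_smul : Good hA (stabilizer _ (g • ω)) (g z) ↔ Good hA (stabilizer _ ω) z := by
  rw [good_iff, good_iff, Rz_smul hA hg]

end act

variable [FiniteDimensional F V] (hB : B.Nondegenerate)
include hA hB

theorem Ful.move (h : Ful hA M z) (hzy : B z y = 0) (hyz : y ∉ F ∙ z) (l : F) :
    ∃ g ∈ Isom B, g ∈ M ∧ g z = z ∧ g y = y + l • z := by
  obtain ⟨w, h1, h3⟩ := exists_partner hA hB hyz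
  have h4 : B z (-l • w) = 0 := by simp [h3 z (mem_span_singleton_self z)]
  obtain ⟨a, ha⟩ := h _ h4
  exact ⟨_, ee_mem hA _ _ _, ha, ee_self hA h4 a, by
    rw [ee_perp hA h4 a hzy]; simp [← hA.neg_eq y w, h1]⟩

theorem exists_pair (h3 : 3 ≤ finrank F V) (hz : z ≠ 0) :
    ∃ u v, B z u = 0 ∧ B z v = 0 ∧ B u v = 1 := by
  obtain ⟨u, -, hu1, hu2⟩ := H62.exists_mem_notMem_ker [B z] (W := ⊤) (Z := F ∙ z)
    (by rw [finrank_top, finrank_span_singleton hz, List.length_singleton]; omega)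
  obtain ⟨v, hv1, hv2⟩ := exists_partner hA hB hu1
  exact ⟨u, v, hu2 _ (by simp), hv2 z (mem_span_singleton_self z), hv1⟩

variable (h2 : (2 : F) = 0) {l : F} (hl0 : l ≠ 0) (hl1 : l ≠ 1)
include h2 hl0 hl1

theorem good_of_ful [Fintype F] (h3 : 3 ≤ finrank F V) (hF : ∀ x, ¬ Good hA M x → Ful hA M x)
    (x : V) : Good hA M x := by
  by_contra hx
  have hx0 : x ≠ 0 := by rintro rfl; exact hx (good_zero hA)
  have step : ∀ x a : V, Ful hA M a → B a x = 0 → x ∉ F ∙ a → ∀ β α m : F,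
      ee hA x (β • a) α ∈ M → ee hA a ((α * m) • x) (α * m ^ 2) ∈ M := fun x a h h' h'' β α m hm => by
    obtain ⟨g, h4, h5, h6, h7⟩ := h.move hA hB h' h'' m
    have h8 := mem_conj hA h4 h5 hm
    rwa [map_smul, h6, h7, ee_comb hA h', M.mul_mem_cancel_right hm, h2, zero_mul, add_zero] at h8
  have key : ∀ a α, B x a = 0 → a ∉ F ∙ x → ee hA x a α ∈ M → α = 0 := fun a α h4 h5 h6 => by
    have h7 : ¬ Good hA M a := fun h7 => hx (good_of_K hA hl0 hl1 h4 fun c m =>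
      step a x (hF x hx) h4 h5 0 c m (by rw [zero_smul]; exact h7 c))
    by_contra hα
    refine hx (good_of_K hA hl0 hl1 h4 fun c m => ?_)
    obtain ⟨t, ht⟩ := exists_sq h2 (c / α)
    have h8 := step a x (hF x hx) h4 h5 _ _ m (step x a (hF a h7) (hA.isRefl _ _ h4)
      (H62.notMem_span_symm hx0 h5) 1 α t (by rwa [one_smul]))
    rwa [ht, mul_div_cancel₀ _ hα] at h8
  obtain ⟨u, v, h4, h5, h6⟩ := exists_pair hA hB h3 hx0
  have hn : ∀ {a b : V}, B x b = 0 → B a b ≠ 0 → a ∉ F ∙ x := fun {a b} h h' hm => by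
    obtain ⟨c, rfl⟩ := mem_span_singleton.1 hm
    simp [h] at h'
  obtain ⟨a, ha⟩ := hF x hx u h4
  obtain ⟨b, hb⟩ := hF x hx v h5
  have h7 := key _ _ (by simp [h4, h5]) (hn h5 (by simp [h6, hA.self_eq_zero])) (mem_add hA h4 h5 ha hb)
  rw [key u a h4 (hn h5 (by simp [h6])) ha,
    key v b h5 (hn h4 (by simp [← hA.neg_eq u v, h6])) hb, h6] at h7
  simp at h7

theorem reg_mem (hz : z ≠ 0) (hY : ∀ u ∈ Yz hA M z, u ∈ F ∙ z)
    (hf : ∀ g ∈ Isom B, ∀ t : F, t ≠ 0 → g z = t • z → ∃ e ∈ Ez hA z, e * g ∈ M)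
    (hyz : y ∉ F ∙ z) (hzy : B z y = 0) : ∃ b a : F, ee hA z (b • y) a * ee hA y 0 1 ∈ M := by
  obtain ⟨z', h1, h3⟩ := exists_partner hA hB (H62.notMem_span_symm hz hyz)
  have h4 := hA.isRefl _ _ (h3 y (mem_span_singleton_self y))
  obtain ⟨g, hg, h5⟩ := exists_hs hA hB h1 hl0
  have h6 : g z = l • z := by simp [h5, hA.self_eq_zero, ← hA.neg_eq z z', h1]; module
  obtain ⟨_, ⟨u', a', hu', rfl⟩, hm⟩ := hf g hg l hl0 h6
  obtain ⟨_, ⟨u, a, hu, rfl⟩, hk⟩ := hf (ee hA y 0 1) (ee_mem hA _ _ _) 1 one_ne_zero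
    (by simp [tv_apply, hA.isRefl _ _ hzy])
  obtain ⟨b, hb⟩ := mem_span_singleton.1 (hY _ (rel hA hg h6 (ε := 1) (by simp)
    (by simp [h5, h4, hzy]) hzy hu (by simp [h5, hu, hA.self_eq_zero]) hu' hm hk))
  have h7 : u = (B y u' / (l - 1)) • y + ((b + l * ((l - 1) * B z' u)) / (l - 1)) • z := by
    have h8 := sub_ne_zero.2 hl1
    refine smul_right_injective V h8 ?_
    rw [h5, hu] at hb
    simp only [smul_add, smul_smul, mul_div_cancel₀ _ h8]
    linear_combination (norm := module) -hb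
  rw [h7, ee_shift2 hA h2 (by simp [hzy])] at hk
  exact ⟨_, _, hk⟩

theorem line_mem (hR : Rz hA M z = ⊥) (hzy : B z y = 0)
    (hY : ∀ u, u ∈ Yz hA M z ↔ B z u = 0 ∧ B y u = 0)
    (hf : ∀ g ∈ Cz B z, g y ∈ span F {z, y} → ∃ e ∈ Ez hA z, e * g ∈ M) :
    (∀ u ∈ Yz hA M z, ee hA z u 0 ∈ M) ∧ (∀ u ∈ Yz hA M z, u ∈ span F {z, y}) ∧
      ∃ b a : F, ee hA z (b • y) a * ee hA y 0 1 ∈ M := by
  have h1 : ∀ u ∈ Yz hA M z, ee hA z u 0 ∈ M := fun u hu => by
    by_cases huz : u ∈ F ∙ z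
    · obtain ⟨c, rfl⟩ := mem_span_singleton.1 huz
      rw [← zero_add (c • z), ee_shift2 hA h2 (map_zero _), ee_zero]
      exact M.one_mem
    obtain ⟨hzu, a, ha⟩ := id hu
    have h3 : ∀ t : F, t ≠ 0 → ee hA z (t • u) a ∈ M := fun t ht => by
      obtain ⟨g, hg, h4, h5⟩ : ∃ g ∈ Cz B z, g u = t • u ∧ g y ∈ span F {z, y} := by
        by_cases hm : u ∈ span F {z, y}
        · obtain ⟨g, hg, h4⟩ := exists_Cz hA hB huz (mt ((F ∙ z).smul_mem_iff ht).1 huz)
            (by simp [hzu])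
          refine ⟨g, hg, h4, ?_⟩
          obtain ⟨p, r, rfl⟩ := mem_span_pair.1 hm
          have hr : r ≠ 0 := by rintro rfl; exact huz (by simp [smul_mem, mem_span_singleton_self])
          rw [map_add, map_smul, map_smul, show g z = z from hg.2] at h4
          rw [← (span F {z, y}).smul_mem_iff hr]
          exact mem_span_pair.2 ⟨t * p - p, t * r, by linear_combination (norm := module) -h4⟩
        · obtain ⟨g, h4, h5⟩ := isom_move_fixing hB hA (span F {z, y}) hm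
            (mt ((span F {z, y}).smul_mem_iff ht).1 hm) fun x hx => by
            obtain ⟨p, r, rfl⟩ := mem_span_pair.1 hx
            simp [hzu, ((hY u).1 hu).2]
          exact ⟨g, ⟨g.2, h5 z (subset_span (by simp))⟩, h4,
            (show g.1 y = y from h5 y (subset_span (by simp))).symm ▸ subset_span (by simp)⟩
      obtain ⟨e, he, hm⟩ := hf g hg h5
      obtain ⟨h6, β, h7⟩ := mul_mem_Cz hA he hg hzu
      have h8 := mem_conj hA h6.1 hm ha
      rwa [show (e * g) z = z from h6.2, h7, h4, ee_shift2 hA h2 (by simp [hzu])] at h8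
    have h4 := mem_add hA (by simp [hzu]) (by simp [hzu]) (h3 l hl0) (h3 (1 - l) (sub_ne_zero.2 hl1.symm))
    rw [← add_smul, add_sub_cancel, one_smul, ← two_mul, h2] at h4
    simpa [hA.self_eq_zero] using h4
  have hN : Nil hA M z := fun u a hu ha => by
    simpa [hR] using sub_mem_Rz hA hu ha (h1 u ⟨hu, a, ha⟩)
  have h3 : ∀ u ∈ Yz hA M z, u ∈ span F {z, y} := fun u hu => mem_of_perp hA hB fun v hv => by
    have h4 := (hY v).2 ⟨hv z (subset_span (by simp)), hv y (subset_span (by simp))⟩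
    simpa using hN _ _ (by simp [hu.1, h4.1]) (mem_add hA hu.1 h4.1 (h1 u hu) (h1 v h4))
  refine ⟨h1, h3, ?_⟩
  obtain ⟨_, ⟨u, a, hu, rfl⟩, hk⟩ := hf (ee hA y 0 1) ⟨ee_mem hA _ _ _, by
    change ee hA y 0 1 z = z
    simp [tv_apply, hA.isRefl _ _ hzy]⟩ (by
      rw [ee_self hA (map_zero _)]; exact subset_span (by simp))
  have h4 := conj_ee hA (ee_mem hA y 0 1) z u a
  rw [tv_apply, hA.isRefl _ _ hzy, mul_zero, zero_smul, add_zero, tv_apply, one_mul] at h4
  have h5 : ee hA y 0 1 * ee hA y 0 1 = 1 := by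
    rw [ee_mul hA (map_zero _) (map_zero _), one_add_one_eq_two, h2]; simp [ee_zero]
  have h6 := M.mul_mem hk hk
  rw [inv_eq_of_mul_eq_one_right h5] at h4
  rw [mul_assoc, ← mul_assoc (ee hA y 0 1), h4, ee_mul hA hu (by simp [hu, hzy])] at h6
  have h7 := hN _ _ (by simp [hu, hzy]) h6
  rw [← two_mul, h2, zero_mul, zero_add, map_add, map_smul, hA.self_eq_zero, zero_add,
    ← hA.neg_eq y u, smul_eq_mul, mul_neg, neg_eq_zero, mul_self_eq_zero] at h7
  obtain ⟨p, r, rfl⟩ := mem_span_pair.1 (h3 u ((hY u).2 ⟨hu, h7⟩))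
  rw [add_comm, ee_shift2 hA h2 (by simp [hzy])] at hk
  exact ⟨_, _, hk⟩

end H26.MS
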