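import Cfsg.Agent.H52.NCBase

/-! Two sources of the hypothesis `H52.NC.Op2`. -/

set_option autoImplicit false

namespace H26.T4

open Subgroup Cfsg H98 H26.FP H52.NC SemidirectProduct
open scoped commutatorElement

universe u v

variable {Γ : Type*} [Group Γ] {G A K X Y D : Subgroup Γ} {a h x y : Γ}

theorem two_iff (e : X.relIndex Y = 2) (hx : x ∈ Y) (hy : y ∈ Y) : x * y ∈ X ↔ (x ∈ X ↔ y ∈ X) :=
  mul_mem_iff_of_index_two (H := X.subgroupOf Y) e (a := ⟨x, hx⟩) (b := ⟨y, hy⟩)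

theorem two_comm (e : X.relIndex Y = 2) (hx : x ∈ Y) (hy : y ∈ Y) : x * y * x⁻¹ * y⁻¹ ∈ X := by
  rw [two_iff e (mul_mem (mul_mem hx hy) (inv_mem hx)) (inv_mem hy),
    two_iff e (mul_mem hx hy) (inv_mem hx), two_iff e hx hy, inv_mem_iff, inv_mem_iff]
  tauto

theorem exists_out (hn : X ≤ N[G]) (h1 : Y ≤ G ⊔ X) (h2 : X ≤ Y) (e : X.relIndex Y = 2) :
    ∃ g ∈ G ⊓ Y, g ∉ X := by
  obtain ⟨y, hy, hy'⟩ := SetLike.not_le_iff_exists.1 fun k : Y ≤ X => by
    rw [relIndex_eq_one.2 k] at e; omega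
  obtain ⟨g, hg, x, hx, rfl⟩ := (mem_sup_right_norm hn).1 (h1 hy)
  exact ⟨g, ⟨hg, (Y.mul_mem_cancel_right (h2 hx)).1 hy⟩, fun k => hy' (mul_mem k hx)⟩

theorem op2_odd (ha : a ∈ N[G]) (h : ∀ g ∈ G, Odd (orderOf (g * a))) : Op2 G (zpowers a) := by
  refine ⟨zpowers_le.2 ha, fun Y X h1 h2 h3 e => ?_⟩
  have hn : X ≤ N[G] := (h2.trans h1).trans (sup_le le_normalizer (zpowers_le.2 ha))
  obtain ⟨g, hg, hg'⟩ := exists_out hn (h1.trans (sup_le le_sup_left h3)) h2 e
  obtain ⟨k, hk, x, hx, e1⟩ := (mem_sup_right_norm hn).1 (h3 (mem_zpowers a))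
  have h4 := h _ (mul_mem hg.1 (inv_mem hk))
  rw [e1, mul_assoc, inv_mul_cancel_left] at h4
  obtain ⟨m, hm⟩ := exists_pow_eq_self_of_coprime (n := 2) (Nat.coprime_two_left.2 h4)
  have h5 := mul_mem (mem_inf.1 hg).2 (h2 hx)
  exact hg' ((mul_mem_cancel_right hx).1 (hm ▸ pow_mem (sq (g * x) ▸ (two_iff e h5 h5).2 Iff.rfl) m))

variable [Finite Γ]

theorem lang (hx : x ∈ N[D]) (h : ∀ d ∈ D, d * x = x * d → d = 1) {d : Γ} (hd : d ∈ D) :
    ∃ e ∈ D, e * x * e⁻¹ * x⁻¹ = d := by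
  obtain ⟨e, he⟩ := Finite.injective_iff_surjective.1 (show Function.Injective fun e : D =>
    (⟨e * x * (e : Γ)⁻¹ * x⁻¹, by
      simpa [mul_assoc] using mul_mem e.2 (conj_mem_of_mem_normalizer hx (inv_mem e.2))⟩ : D) from fun e e' k =>
      Subtype.ext (inv_mul_eq_one.1 (h _ (mul_mem (inv_mem e.2) e'.2) (by
        have k1 : (e : Γ) * x * (e : Γ)⁻¹ = e' * x * (e' : Γ)⁻¹ :=
          mul_right_cancel (congrArg Subtype.val k)
        calc _ = (e : Γ)⁻¹ * (e' * x * (e' : Γ)⁻¹) * e' := by group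
          _ = _ := by rw [← k1]; group)))) ⟨d, hd⟩
  exact ⟨e, e.2, congrArg Subtype.val he⟩

theorem no2_aux (nK : K ≤ N[G]) (hG : h ∈ N[G]) (hK : h ∈ N[K])
    (cop : (Nat.card K).Coprime (Nat.card G)) (fp : ∀ d ∈ G ⊓ C[K], d * h = h * d → d = 1)
    (h0 : K ≤ X) (h1 : Y ≤ G ⊔ (K ⊔ zpowers h)) (h2 : X ≤ Y) (h3 : h ∈ G ⊔ X) :
    X.relIndex Y ≠ 2 := fun e => by
  have hn : Y ≤ N[G] := h1.trans (sup_le le_normalizer (sup_le nK (zpowers_le.2 hG)))
  obtain ⟨g, hg, hg'⟩ := exists_out (h2.trans hn) (h1.trans (sup_le le_sup_left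
    (sup_le (h0.trans le_sup_right) (zpowers_le.2 h3)))) h2 e
  have n1 : X ≤ N[(G ⊓ X : Subgroup Γ)] := le_normalizer_inf (h2.trans hn) le_normalizer
  have c1 := cop.coprime_dvd_right (card_dvd_of_le (inf_le_left : G ⊓ X ≤ G))
  obtain ⟨k, hk, hc⟩ := H1.exists_centralizer_mem_coset' (h0.trans n1) c1 (solv_of_coprime c1) g
    fun a ha => mem_inf.2 ⟨G.mul_mem (conj_mem_of_mem_normalizer (nK ha) hg.1) (G.inv_mem hg.1),
      two_comm e (h2 (h0 ha)) hg.2⟩
  obtain ⟨g₀, hg₀, x₀, hx₀, e0⟩ := (mem_sup_right_norm (h2.trans hn)).1 h3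
  rw [← card_cj x₀] at c1
  obtain ⟨n, hn', e1⟩ := H1.exists_conj_le_of_le_mul (cj x₀ K) _ K
    ((cj_le_of_le_of_mem h0 hx₀).trans n1) c1 (solv_of_coprime c1) (by
      rintro _ ⟨a, ha, rfl⟩
      have k1 := conj_mem_of_mem_normalizer hK ha
      refine ⟨x₀ * a * x₀⁻¹ * (h * a * h⁻¹)⁻¹, mem_inf.2 ⟨?_, mul_mem (mul_mem (mul_mem hx₀ (h0 ha))
        (inv_mem hx₀)) (inv_mem (h0 k1))⟩, _, k1, (inv_mul_cancel_right _ _).symm⟩
      have := mul_mem (inv_mem hg₀) (conj_mem_of_mem_normalizer (nK k1) hg₀)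
      convert this using 1
      rw [e0]; group)
  have h4 : n * x₀ ∈ N[K] := mem_normalizer_of_cj_le (by rw [← cj_cj]; exact e1)
  have h5 : n * g₀⁻¹ ∈ G ⊓ C[K] := by
    have k1 := mul_mem (mem_inf.1 hn').1 (inv_mem hg₀)
    have k2 : n * g₀⁻¹ ∈ N[K] := by
      have := mul_mem h4 (inv_mem hK)
      rwa [e0, mul_inv_rev, mul_assoc, mul_inv_cancel_left] at this
    refine ⟨k1, fun a ha => commutatorElement_eq_one_iff_mul_comm.1 (mem_bot.1
      ((inf_eq_bot_of_coprime cop).le (mem_inf.2 ⟨?_, ?_⟩)))⟩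
    · simpa [commutatorElement_def, mul_assoc] using
        mul_mem ha (conj_mem_of_mem_normalizer k2 (inv_mem ha))
    · exact mul_mem (conj_mem_of_mem_normalizer (nK ha) k1) (inv_mem k1)
  obtain ⟨c, hc', e2⟩ := lang (zpowers_le.1 (le_normalizer_inf (zpowers_le.2 hG)
    (le_normalizer_centralizer (zpowers_le.2 hK)))) fp h5
  have e3 : n * x₀ = c * h * c⁻¹ := by
    rw [← mul_inv_cancel_right (c * h * c⁻¹) h⁻¹, e2, inv_inv, e0]; group
  have h6 := mul_mem hn'.2 hx₀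
  generalize n * x₀ = x at h4 h6 e3
  obtain ⟨d, hd, e4⟩ := lang (D := G ⊓ C[K] ⊓ Y) (x := x) (zpowers_le.1 (le_normalizer_inf
    (le_normalizer_inf (zpowers_le.2 (hn (h2 h6))) (le_normalizer_centralizer (zpowers_le.2 h4)))
    (zpowers_le.2 (le_normalizer (h2 h6))))) (fun d hd k => by
      have := fp _ (mul_mem (mul_mem (inv_mem hc') (mem_inf.1 hd).1) hc') (by
        calc _ = c⁻¹ * (d * x) * c := by rw [e3]; group
          _ = _ := by rw [k, e3]; group)
      simpa [mul_assoc, inv_mul_eq_one] using this)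
    (mem_inf.2 ⟨mem_inf.2 ⟨mul_mem hk.1 hg.1, hc⟩, mul_mem (h2 hk.2) hg.2⟩)
  exact hg' ((X.mul_mem_cancel_left hk.2).1 (e4 ▸ two_comm e hd.2 (h2 h6)))

theorem op2_cyc (nK : K ≤ N[G]) (hG : h ∈ N[G]) (hK : h ∈ N[K])
    (cop : (Nat.card K).Coprime (Nat.card G)) (fp : ∀ d ∈ G ⊓ C[K], d * h = h * d → d = 1) :
    Op2 G (K ⊔ zpowers h) := by
  have nA := sup_le nK (zpowers_le.2 hG)
  refine ⟨nA, fun Y X h1 h2 h3 => ?_⟩
  have hn : X ≤ N[G] := (h2.trans h1).trans (sup_le le_normalizer nA)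
  obtain ⟨n, hn', e⟩ := H1.exists_conj_le_of_le_mul K G X nK cop (solv_of_coprime cop) fun a ha =>
    (mem_sup_right_norm hn).1 (h3 (mem_sup_left ha))
  have eG := cj_eq_self_of_mem hn'
  have c1 : ∀ Z : Subgroup Γ, ∀ x ∈ G ⊔ Z, n * x * n⁻¹ ∈ G ⊔ Z := fun Z x hx =>
    mul_mem (mul_mem (mem_sup_left hn') hx) (inv_mem (mem_sup_left hn'))
  refine no2_aux (K := cj n K) (h := n * h * n⁻¹) ((le_sup_left.trans le_sup_right).trans
    (sup_le le_normalizer nA) |> fun k => cj_le_of_le_of_mem k (le_normalizer hn'))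
    (mul_mem (mul_mem (le_normalizer hn') hG) (inv_mem (le_normalizer hn')))
    (cj_normalizer n K ▸ conj_mem_cj hK) (by rwa [card_cj]) (fun d hd k => ?_) e (h1.trans ?_) h2
    (c1 _ _ (h3 (mem_sup_right (mem_zpowers h))))
  · rw [← eG, ← cj_centralizer, ← cj_inf] at hd
    obtain ⟨d, hd, rfl⟩ := hd
    change n * d * n⁻¹ * _ = _ * (n * d * n⁻¹) at k
    rw [conj_mul, conj_mul, mul_left_inj, mul_right_inj] at k
    simp [fp d hd k]
  · have k : ∀ x, n * x * n⁻¹ ∈ cj n K ⊔ zpowers (n * h * n⁻¹) →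
        x ∈ G ⊔ (cj n K ⊔ zpowers (n * h * n⁻¹)) := fun x hx => by
      simpa [mul_assoc] using mul_mem (mul_mem (mem_sup_left (inv_mem hn')) (mem_sup_right hx))
        (mem_sup_left hn')
    exact sup_le le_sup_left (sup_le (fun x hx => k x (mem_sup_left (conj_mem_cj hx)))
      (zpowers_le.2 (k h (mem_sup_right (mem_zpowers _)))))

/-- the theorem on `Op2` -/
def Thm2 : Prop := ∀ (Γ : Type u) [Group Γ] [Finite Γ] (G A : Subgroup Γ), Op2 G A →
  Group.IsSolvable G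

omit [Finite Γ] in
theorem conj_prod (g : Γ) (n : ℕ) :
    (g * a) ^ n = ((List.range n).map fun i => a ^ i * g * (a ^ i)⁻¹).prod * a ^ n := by
  induction n with
  | zero => simp
  | succ n ih => rw [pow_succ, ih, List.range_succ, List.map_append, List.prod_append]; simp; group

theorem split_odd (t : Thm2.{u}) {G : Type u} [Group G] [Finite G] (α : MulAut G)
    (hodd : Odd (orderOf α))
    (hs : ∀ x : G, ((List.range (orderOf α)).map (fun i : ℕ => (α ^ i) x)).prod = 1) :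
    Group.IsSolvable G := by
  let φ := MonoidHom.id (MulAut G)
  have : Finite (G ⋊[φ] MulAut G) := Finite.of_equiv _ SemidirectProduct.equivProd.symm
  have hi : Function.Injective (inl : G →* G ⋊[φ] MulAut G) := inl_injective
  have := t _ (inl : G →* G ⋊[φ] MulAut G).range _ (op2_odd (a := inr α) (by
    rw [range_inl_eq_ker_rightHom]; exact le_normalizer_of_normal (mem_top _)) (by
    rintro _ ⟨g, rfl⟩
    refine hodd.of_dvd_nat (orderOf_dvd_of_pow_eq_one ?_)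
    rw [conj_prod, ← map_pow, pow_orderOf_eq_one, map_one, mul_one, ← map_one inl, ← hs g,
      map_list_prod, List.map_map]
    congr 2
    ext i : 1
    rw [← map_pow, ← map_inv, ← inl_aut]; rfl))
  exact Group.isSolvable_of_isSolvable_injective (f := (MonoidHom.ofInjective hi).toMonoidHom)
    (MulEquiv.injective _)

theorem cyc_hall (t : Thm2.{max u v}) {G : Type u} {A : Type v} [Group G] [Finite G] [Group A]
    [Finite A] (φ : A →* MulAut G) (fp : ∀ g : G, (∀ a : A, φ a g = g) → g = 1) {K : Subgroup A}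
    [K.Normal] {h : A} (top : K ⊔ zpowers h = ⊤) (cop : (Nat.card K).Coprime (Nat.card G)) :
    Group.IsSolvable G := by
  have : Finite (G ⋊[φ] A) := Finite.of_equiv _ SemidirectProduct.equivProd.symm
  have hi : Function.Injective (inl : G →* G ⋊[φ] A) := inl_injective
  have : (inl : G →* G ⋊[φ] A).range.Normal := by rw [range_inl_eq_ker_rightHom]; infer_instance
  have := t _ (inl : G →* G ⋊[φ] A).range _ (op2_cyc (K := K.map inr) (h := inr h)
    le_normalizer_of_normal (le_normalizer_of_normal (mem_top _))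
    (le_normalizer_map _ (mem_map_of_mem _ (le_normalizer_of_normal (mem_top h))))
    (by rwa [card_map_of_injective inr_injective, ← Nat.card_congr (MonoidHom.ofInjective hi).toEquiv])
    (by
      rintro _ ⟨⟨g, rfl⟩, hg⟩ e
      have k : (⊤ : Subgroup A).map inr ≤ C1[(inl g : G ⋊[φ] A)] := by
        rw [← top, Subgroup.map_sup, MonoidHom.map_zpowers]
        exact sup_le (fun x hx => mem_centralizer_singleton_iff.2 (hg x hx))
          (zpowers_le.2 (mem_centralizer_singleton_iff.2 e.symm))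
      rw [fp g fun a => hi (by
        rw [inl_aut, mem_centralizer_singleton_iff.1 (k (mem_map_of_mem _ (mem_top a))), map_inv,
          mul_inv_cancel_right]), map_one]))
  exact Group.isSolvable_of_isSolvable_injective (f := (MonoidHom.ofInjective hi).toMonoidHom)
    (MulEquiv.injective _)

theorem cyc_hall' (t : Thm2.{max u v}) {G : Type u} {A : Type v} [Group G] [Finite G]
    [Group A] [Finite A] (φ : A →* MulAut G) (fp : ∀ g : G, (∀ a : A, φ a g = g) → g = 1)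
    (h1 : ∃ H : Subgroup A, IsPiHall {r : ℕ | r.Prime ∧ r ∣ Nat.card G} H ∧ IsCyclic H)
    (h2 : ∃ K : Subgroup A, K.Normal ∧ (∀ r : ℕ, r.Prime → r ∣ Nat.card K → ¬ r ∣ Nat.card G) ∧
      ∀ r : ℕ, r.Prime → r ∣ K.index → r ∣ Nat.card G) : Group.IsSolvable G := by
  obtain ⟨H, h3, h4⟩ := h1
  obtain ⟨K, _, h5, h6⟩ := h2
  obtain ⟨h, rfl⟩ := (Subgroup.isCyclic_iff_exists_zpowers_eq_top H).1 h4
  refine cyc_hall t φ fp (K := K) (h := h) (index_eq_one.1 ?_)
    (Nat.coprime_of_dvd fun r hr k => h5 r hr k)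
  by_contra e
  obtain ⟨r, hr, k⟩ := Nat.exists_prime_and_dvd e
  exact h3.2 r hr ⟨hr, h6 r hr (k.trans (index_dvd_of_le le_sup_left))⟩
    (k.trans (index_dvd_of_le le_sup_right))

end H26.T4
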