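import Cfsg.Agent.H14.NFSpec
import Cfsg.Agent.H22.FrobWt
import Cfsg.Agent.H26.T4Rows
import Cfsg.Agent.H52.NCXq

/-! The job `JobKey` of `blueprints/NF.md`. -/

set_option autoImplicit false

namespace H26.NF

open Subgroup Cfsg H98 H26.FP H14.NF H22 Module
open scoped commutatorElement

universe u v

section
variable {k W X : Type*} [Field k] [AddCommGroup W] [Module k W] [Group X]
  {ρ : Representation k X W} {Q F H Z : Subgroup X} {c g : X}

/-- the elements of `Q` whose action commutes with that of `Q` -/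
def zz (ρ : Representation k X W) (Q : Subgroup X) : Subgroup X :=
  Q ⊓ (C[Q.map ρ.toHomUnits]).comap ρ.toHomUnits

theorem mem_zz : g ∈ zz ρ Q ↔ g ∈ Q ∧ ∀ q ∈ Q, ρ q * ρ g = ρ g * ρ q :=
  and_congr_right fun _ => ⟨fun h q hq => congrArg Units.val (h _ ⟨q, hq, rfl⟩), by
    rintro h _ ⟨q, hq, rfl⟩; exact Units.ext (h q hq)⟩

instance zz_normal [Q.Normal] : (zz ρ Q).Normal := normal_of_top_le_normalizer
  (le_normalizer_inf le_normalizer_of_normal ((le_comap_map _ ⊤).trans ((comap_mono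
    (le_normalizer_centralizer (map_le_normalizer_map _ le_normalizer_of_normal))).trans
    (le_normalizer_comap _))))

theorem map_mem_zz {χ : zz ρ Q → k} {w : W} (hw : w ∈ nwt ρ (zz ρ Q) χ) (hg : g ∈ Q) :
    ρ g w ∈ nwt ρ (zz ρ Q) χ := fun z => by
  rw [← map_smul, ← hw z]
  exact (LinearMap.congr_fun ((mem_zz.1 z.2).2 g hg) w).symm

/-- the stabiliser of a submodule -/
def stb [Finite X] (ρ : Representation k X W) (U : Submodule k W) : Subgroup X where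
  carrier := {g | ∀ u ∈ U, ρ g u ∈ U}
  mul_mem' ha hb u hu := by rw [map_mul]; exact ha _ (hb u hu)
  one_mem' u hu := by simpa using hu
  inv_mem' := fun {g} h => by
    have key : ∀ n : ℕ, ∀ u ∈ U, ρ (g ^ n) u ∈ U := fun n => by
      induction n with
      | zero => simp
      | succ n ih => exact fun u hu => by rw [pow_succ, map_mul]; exact ih _ (h u hu)
    rw [inv_eq_of_mul_eq_one_left (show g ^ (orderOf g - 1) * g = 1 by
      rw [← pow_succ, Nat.sub_add_cancel (orderOf_pos g), pow_orderOf_eq_one])]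
    exact key _

/-- the action on weights -/
@[reducible] def wact (k : Type*) (Z : Subgroup X) [Z.Normal] : MulAction X (Z → k) where
  smul := cwt
  one_smul := cwt_one
  mul_smul := cwt_mul

theorem mem_stb [Finite X] [Z.Normal] {O : Set (Z → k)} (h : ∀ χ ∈ O, cwt g χ ∈ O) :
    g ∈ stb ρ (⨆ χ ∈ O, nwt ρ Z χ) := fun u hu => by
  refine (show (⨆ χ ∈ O, nwt ρ Z χ) ≤ Submodule.comap (ρ g) (⨆ χ ∈ O, nwt ρ Z χ) from
    iSup₂_le fun χ hχ w hw => ?_) hu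
  exact (le_iSup₂_of_le (f := fun χ (_ : χ ∈ O) => nwt ρ Z χ) _ (h χ hχ) le_rfl) (map_mem_nwt ρ hw g)

theorem fr_cop [Finite X] (h : Fr Q F H) : (Nat.card H).Coprime (Nat.card F) := by
  have := H52.NC.dvd_card_sub_one h.hF (m := Nat.card H) fun x hx h1 => by
    rw [← inf_relIndex_right, show C1[x] ⊓ H = ⊥ from eq_bot_iff.2 fun y hy => by_contra fun e =>
      h1 (h.semi y hy.2 e x hx (mem_centralizer_singleton_iff.1 hy.1)), relIndex_bot_left]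
  exact ((Nat.coprime_self_sub_left Nat.card_pos).2 (Nat.coprime_one_left _)).coprime_dvd_left this

omit [Field k] in
/-- a non-trivial element of the complement fixes at most one weight of an orbit of the kernel -/
theorem wt_unique [Finite X] [Z.Normal] (h : Fr Q F H) {μ : Z → k} (hg : g ∈ H) (h1 : g ≠ 1)
    (e : cwt g μ = μ) {f : X} (hf : f ∈ F) (e' : cwt g (cwt f μ) = cwt f μ) : cwt f μ = μ := by
  obtain ⟨a, ha, e1⟩ := H26.T4.lang (D := F ⊓ wtStab μ) (x := g) (zpowers_le.1 (le_normalizer_inf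
    (zpowers_le.2 (h.hF hg)) ((zpowers_le.2 e).trans le_normalizer)))
    (fun d hd k => h.semi g hg h1 d hd.1 k.symm) (d := f⁻¹ * (g * f * g⁻¹))
    (mem_inf.2 ⟨mul_mem (inv_mem hf) (conj_mem_of_mem_normalizer (h.hF hg) hf), by
      rw [← mul_assoc]
      exact mul_mem (show cwt _ μ = μ by rw [cwt_mul, cwt_mul, e', cwt_inv_cwt])
        ((wtStab μ).inv_mem e)⟩)
  have := h.semi g hg h1 _ (mul_mem hf ha.1) (by
    calc _ = f * (f⁻¹ * (g * f * g⁻¹)) * g * a := by group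
      _ = _ := by rw [← e1]; group)
  rw [eq_inv_of_mul_eq_one_left this]
  exact (wtStab μ).inv_mem ha.2

/-- the case of one orbit -/
theorem one_orbit [Finite X] [Q.Normal] (h : Fr Q F H) (nil : Group.IsNilpotent Q) (hc : c ∈ Q)
    {μ : zz ρ Q → k} (top : ⨆ χ ∈ {χ | ∃ f ∈ F, cwt f μ = χ}, nwt ρ (zz ρ Q) χ = ⊤)
    (h1 : ∀ χ ≠ μ, ∀ w ∈ nwt ρ (zz ρ Q) χ, ρ c w = w) : ρ c = 1 := by
  classical
  by_contra e
  have ext : ∀ {a b : Module.End k W},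
      (∀ f ∈ F, ∀ w ∈ nwt ρ (zz ρ Q) (cwt f μ), a w = b w) → a = b := fun {a b} k =>
    LinearMap.ext fun w => (show ⊤ ≤ LinearMap.eqLocus a b from top.ge.trans (iSup₂_le (by
      rintro _ ⟨f, hf, rfl⟩; exact k f hf))) trivial
  let K : Subgroup X := Q ⊓ ⨅ χ ≠ μ, ⨅ w ∈ nwt ρ (zz ρ Q) χ,
    (MulAction.stabilizer (Module.End k W)ˣ w).comap ρ.toHomUnits
  have hK : ∀ {x}, x ∈ K ↔ x ∈ Q ∧ ∀ χ ≠ μ, ∀ w ∈ nwt ρ (zz ρ Q) χ, ρ x w = w := by
    simp only [K, mem_inf, mem_iInf]; exact Iff.rfl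
  obtain ⟨z, hz, h4, h3⟩ : ∃ z ∈ K, z ∈ zz ρ Q ∧ ρ z ≠ 1 := by
    have := H4.isNilpotent_map Q ρ.toHomUnits
    have : Finite (Q.map ρ.toHomUnits) :=
      Finite.of_surjective _ (ρ.toHomUnits.subgroupMap_surjective Q)
    have := (normal_subgroupOf_iff_le_normalizer (map_mono (f := ρ.toHomUnits) inf_le_left)).2
      (map_le_normalizer_map _ (show Q ≤ N[K] from fun q hq => mem_normalizer_fintype fun x hx =>
        hK.2 ⟨Normal.conj_mem inferInstance _ (hK.1 hx).1 q, fun χ hχ w hw => by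
          rw [map_mul, map_mul, Module.End.mul_apply, Module.End.mul_apply,
            (hK.1 hx).2 χ hχ _ (map_mem_zz hw (inv_mem hq)), ← Module.End.mul_apply, ← map_mul,
            mul_inv_cancel, map_one, Module.End.one_apply]⟩))
    obtain ⟨x, h3⟩ := ne_bot_iff_exists_ne_one.1
      (H2.inf_center_ne_bot_of_isNilpotent ((K.map ρ.toHomUnits).subgroupOf (Q.map ρ.toHomUnits))
        fun e' => e (congrArg (fun x => x.1.1) (mem_bot.1 (e'.le
          (show (⟨_, c, hc, rfl⟩ : Q.map ρ.toHomUnits) ∈ _ from ⟨c, hK.2 ⟨hc, h1⟩, rfl⟩)))))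
    obtain ⟨z, hz, e1⟩ := x.2.1
    refine ⟨z, hz, mem_zz.2 ⟨(hK.1 hz).1, fun q hq => ?_⟩, fun k =>
      h3 (Subtype.ext (Subtype.ext (e1.symm.trans (Units.ext k))))⟩
    rw [show ρ z = x.1.1.1 from congrArg Units.val e1]
    exact congrArg (fun x => x.1.1) (mem_center_iff.1 x.2.2 ⟨_, q, hq, rfl⟩)
  have key : ∀ S : Finset (zz ρ Q → k), (∀ χ ∈ S, ∃ f ∈ F, cwt f μ = χ) → ∃ y ∈ Q, ∀ χ,
      ∀ w ∈ nwt ρ (zz ρ Q) χ, ρ y w = (if χ ∈ S then μ ⟨z, h4⟩ else 1) • w := fun S => by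
    induction S using Finset.induction_on with
    | empty => exact fun _ => ⟨1, one_mem _, by simp⟩
    | insert ν S hν ih =>
      intro hS
      obtain ⟨y, hy, e1⟩ := ih fun χ hχ => hS χ (Finset.mem_insert_of_mem hχ)
      obtain ⟨f, -, rfl⟩ := hS ν (Finset.mem_insert_self _ _)
      refine ⟨y * (f * z * f⁻¹), mul_mem hy (Normal.conj_mem inferInstance _ h4.1 f),
        fun χ w hw => ?_⟩
      have e2 := map_mem_nwt ρ hw f⁻¹
      have e3 : ρ f (ρ f⁻¹ w) = w := by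
        rw [← Module.End.mul_apply, ← map_mul, mul_inv_cancel, map_one, Module.End.one_apply]
      simp only [map_mul, Module.End.mul_apply]
      by_cases e4 : χ = cwt f μ
      · rw [e4, cwt_inv_cwt] at e2
        rw [e2 ⟨z, h4⟩, map_smul, e3, map_smul, e1 χ w hw, e4, if_neg hν, one_smul,
          if_pos (Finset.mem_insert_self _ _)]
      · rw [(hK.1 hz).2 _ (fun k => e4 (by rw [← k, ← cwt_mul, mul_inv_cancel, cwt_one])) _ e2, e3,
          e1 χ w hw]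
        simp only [Finset.mem_insert, e4, false_or]
  have fin := Set.toFinite ((fun f => cwt f μ) '' F)
  obtain ⟨y, hy, e1⟩ := key fin.toFinset fun χ hχ => fin.mem_toFinset.1 hχ
  have e2 : ρ y = μ ⟨z, h4⟩ • 1 := ext fun f hf w hw => by
    rw [e1 _ w hw, if_pos (fin.mem_toFinset.2 ⟨f, hf, rfl⟩)]; rfl
  have h5 := h.fp.quo (N := Q ⊓ ρ.toHomUnits.ker) inf_le_left le_normalizer_of_normal
    (sol_le h.sol inf_le_left) hy fun a _ => mem_inf.2 ⟨by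
      rw [mul_assoc, mul_assoc, ← mul_assoc a]
      exact mul_mem hy (Normal.conj_mem inferInstance _ (inv_mem hy) a), Units.ext (by
        change ρ _ = 1
        rw [map_mul, map_mul, map_mul, show ρ y * ρ a = ρ a * ρ y by rw [e2]; simp, mul_assoc (ρ a),
          ← map_mul, ← map_mul, ← map_mul]
        simp)⟩
  have e3 : ρ y = 1 := congrArg Units.val h5.2
  refine h3 (ext fun f _ w hw => ?_)
  by_cases e4 : cwt f μ = μ
  · exact ((e4 ▸ hw) ⟨z, h4⟩).trans (LinearMap.congr_fun (e2.symm.trans e3) w)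
  · exact (hK.1 hz).2 _ e4 w hw

end

theorem key_rep {k : Type*} [Field k] [IsAlgClosed k] (n : ℕ) : ∀ (W : Type v) [AddCommGroup W]
    [Module k W] [FiniteDimensional k W] (X : Type u) [Group X] [Finite X]
    (ρ : Representation k X W) (Q F H : Subgroup X) [Q.Normal] (c : X), finrank k W = n → Fr Q F H →
    Group.IsNilpotent Q → (Nat.card Q : k) ≠ 0 → c ∈ Q ⊓ C[H] →
    (∀ w, trSub ρ H (ρ c w - w) = 0) → ρ c = 1 := by
  induction n using Nat.strong_induction_on with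
  | _ n ih =>
  intro W _ _ _ X _ _ ρ Q F H _ c hn h nil hQ hc hT
  classical
  have := Fintype.ofFinite H
  by_contra e
  have top := iSup_nwt_eq_top ρ (zz ρ Q) (natCast_card_ne_zero_of_le inf_le_left hQ)
    fun a ha b hb => (mem_zz.1 hb).2 a ha.1
  have fix : ∀ χ, ∀ w ∈ nwt ρ (zz ρ Q) χ, ρ c w ≠ w → ∃ g ∈ H, g ≠ 1 ∧ cwt g χ = χ :=
    fun χ w hw k => by
      by_contra k'
      push Not at k'
      exact k (sub_eq_zero.1 (eq_zero_of_trSub_eq_zero ρ H _ k'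
        (sub_mem (map_mem_zz hw hc.1) hw) (hT w)))
  obtain ⟨χ, w, hw, h1⟩ : ∃ χ, ∃ w ∈ nwt ρ (zz ρ Q) χ, ρ c w ≠ w := by
    by_contra k
    push Not at k
    exact e (LinearMap.ext fun w => (show ⊤ ≤ LinearMap.eqLocus (ρ c) 1 from
      top.ge.trans (iSup_le k)) trivial)
  obtain ⟨O, hO⟩ : ∃ O, O = {ν | ∃ f ∈ F, cwt f χ = ν} := ⟨_, rfl⟩
  have h2 : χ ∈ O := hO ▸ ⟨1, one_mem _, cwt_one χ⟩
  have h3 : ∀ f ∈ F, ∀ ν ∈ O, cwt f ν ∈ O := by
    subst hO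
    rintro f hf _ ⟨f', hf', rfl⟩
    exact ⟨_, mul_mem hf hf', cwt_mul _ _ _⟩
  have h4 : ∀ g ∈ H, ∀ ν ∈ O, cwt g ν ∈ O → ∀ ν' ∈ O, cwt g ν' ∈ O := fun g hg ν k1 k2 ν' k3 => by
    rw [hO] at k1 k3
    obtain ⟨f, hf, rfl⟩ := k1
    obtain ⟨f', hf', rfl⟩ := k3
    have := h3 _ (conj_mem_of_mem_normalizer (h.hF hg) (mul_mem hf' (inv_mem hf))) _ k2
    rwa [← cwt_mul, ← cwt_mul, inv_mul_cancel_right, mul_assoc, inv_mul_cancel_right, cwt_mul] at this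
  have dj := (iSupIndep_wt fun n : zz ρ Q => ρ n).disjoint_biSup_biSup (s := O) (t := Oᶜ)
    disjoint_compl_right
  have h5 : w ∈ ⨆ ν ∈ O, nwt ρ (zz ρ Q) ν :=
    (le_iSup₂_of_le (f := fun ν (_ : ν ∈ O) => nwt ρ (zz ρ Q) ν) χ h2 le_rfl) hw
  by_cases h6 : ⨆ ν ∈ O, nwt ρ (zz ρ Q) ν = ⊤
  · have h7 : ∀ ν, ∀ v ∈ nwt ρ (zz ρ Q) ν, v ≠ 0 → ν ∈ O := fun ν v hv k => by
      by_contra k'
      exact k (Submodule.disjoint_def.1 dj v (h6.ge trivial)
        ((le_iSup₂_of_le (f := fun ν (_ : ν ∈ Oᶜ) => nwt ρ (zz ρ Q) ν) ν k' le_rfl) hv))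
    let _ := wact k (zz ρ Q)
    have := h.fp.nil
    obtain ⟨f, hf, h8⟩ := H1.glauberman_subgroup H F h.hF (fr_cop h) (.inr inferInstance) χ
      fun a _ => by
        have := h7 _ _ (map_mem_nwt ρ hw a) fun k => h1 (by
          rw [show w = 0 by simpa [← Module.End.mul_apply, ← map_mul] using congrArg (ρ (a : X)⁻¹) k,
            map_zero])
        rw [hO] at this
        exact this.imp fun f k => ⟨k.1, k.2.symm⟩
    have h9 : O = {ν | ∃ f' ∈ F, cwt f' (cwt f χ) = ν} := by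
      rw [hO]
      ext ν
      exact ⟨fun ⟨a, ha, k⟩ => ⟨_, mul_mem ha (inv_mem hf), by
        rw [← cwt_mul, inv_mul_cancel_right, k]⟩, fun ⟨a, ha, k⟩ =>
        ⟨_, mul_mem ha hf, by rw [cwt_mul, k]⟩⟩
    refine e (one_orbit h nil hc.1 (h9 ▸ h6) fun ν hν v hv => by_contra fun k => hν ?_)
    obtain ⟨g, hg, k1, k2⟩ := fix ν v hv k
    obtain ⟨a, ha, rfl⟩ := h9.le (h7 ν v hv fun k' => k (by rw [k', map_zero]))
    exact wt_unique h hg k1 (h8 g hg) ha k2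
  obtain ⟨U, hU⟩ : ∃ U, U = ⨆ ν ∈ O, nwt ρ (zz ρ Q) ν := ⟨_, rfl⟩
  have l1 : Q ≤ stb ρ U := fun q hq u hu => by
    rw [hU] at hu ⊢
    exact (show (⨆ ν ∈ O, nwt ρ (zz ρ Q) ν) ≤ Submodule.comap (ρ q) (⨆ ν ∈ O, nwt ρ (zz ρ Q) ν)
      from iSup₂_le fun ν hν v hv =>
      (le_iSup₂_of_le (f := fun ν (_ : ν ∈ O) => nwt ρ (zz ρ Q) ν) ν hν le_rfl) (map_mem_zz hv hq)) hu
  have l2 : F ≤ stb ρ U := fun f hf => hU ▸ mem_stb (h3 f hf)
  have l3 : ∀ g ∈ H, g ∉ stb ρ U → ∀ u ∈ U, ρ g u ∈ ⨆ ν ∈ Oᶜ, nwt ρ (zz ρ Q) ν := fun g hg k u hu =>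
    (show (⨆ ν ∈ O, nwt ρ (zz ρ Q) ν) ≤ Submodule.comap (ρ g) (⨆ ν ∈ Oᶜ, nwt ρ (zz ρ Q) ν)
      from iSup₂_le fun ν hν v hv =>
      (le_iSup₂_of_le (f := fun ν (_ : ν ∈ Oᶜ) => nwt ρ (zz ρ Q) ν) _
        (fun k' => k (hU ▸ mem_stb (h4 g hg ν hν k'))) le_rfl) (map_mem_nwt ρ hv g)) (hU ▸ hu)
  rw [← hU] at dj h5 h6
  have := ih _ (hn ▸ Submodule.finrank_lt h6) U (stb ρ U)
    (Representation.subrepresentation (ρ.comp (stb ρ U).subtype) U fun g => g.2)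
    (Q.subgroupOf _) (F.subgroupOf _) ((H ⊓ stb ρ U).subgroupOf _) ⟨c, l1 hc.1⟩ rfl
    ((h.monoH inf_le_left).subgroupOf l1 l2 inf_le_right) (H4.isNilpotent_subgroupOf _ _)
    (by rwa [Nat.card_congr (subgroupOfEquivOfLe l1).toEquiv])
    ⟨hc.1, fun a ha => Subtype.ext (hc.2 a ha.1)⟩ fun v => ?_
  · exact h1 (congrArg Subtype.val (LinearMap.congr_fun this ⟨w, h5⟩))
  have := Fintype.ofFinite ((H ⊓ stb ρ U).subgroupOf (stb ρ U))
  have e1 := hT v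
  have e2 : ρ c v - v ∈ U := sub_mem (l1 hc.1 _ v.2) v.2
  rw [trSub_apply, ← Finset.sum_filter_add_sum_filter_not _ fun g : H => (g : X) ∈ stb ρ U] at e1
  have e3 : ∑ g ∈ Finset.univ.filter fun g : H => g.1 ∈ stb ρ U, ρ g.1 (ρ c v - v) = 0 :=
    Submodule.disjoint_def.1 dj _ (Submodule.sum_mem _ fun g hg => (Finset.mem_filter.1 hg).2 _ e2) (by
      rw [eq_neg_of_add_eq_zero_left e1]
      exact neg_mem (Submodule.sum_mem _ fun g hg => l3 g g.2 (Finset.mem_filter.1 hg).2 _ e2))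
  refine Subtype.ext (Eq.trans ?_ e3)
  rw [trSub_apply, Submodule.coe_sum]
  exact Finset.sum_bij (fun g _ => ⟨g.1.1, g.2.1⟩) (fun g _ => by simp)
    (fun a _ b _ k => Subtype.ext (Subtype.ext (congrArg (fun g : H => g.1) k)))
    (fun g hg => ⟨⟨⟨g, (Finset.mem_filter.1 hg).2⟩, g.2, (Finset.mem_filter.1 hg).2⟩,
      Finset.mem_univ _, rfl⟩) fun _ _ => rfl

theorem jobKey : JobKey.{u} := by
  intro Γ _ _ Q F H V c p hp h nil cop hV hn hc h1
  have := Fact.mk hp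
  obtain ⟨L, hL⟩ : ∃ L, L = Q ⊔ (F ⊔ H) := ⟨_, rfl⟩
  have l1 : Q ≤ L := hL ▸ le_sup_left
  have l2 : F ≤ L := hL ▸ le_sup_left.trans le_sup_right
  have l3 : H ≤ L := hL ▸ le_sup_right.trans le_sup_right
  obtain ⟨W, _, _, _, ρ, ι, k1, -, k2, k3, k4, k5⟩ := exists_rep_elemAb V hV L (hL ▸ hn)
  have := (normal_subgroupOf_iff_le_normalizer l1).2 (hL ▸ h.nor)
  have := Fintype.ofFinite (H.subgroupOf L)
  have k0 : ι 1 = 0 := by simpa using k2 1 1
  have k6 : ∀ (g : L) (v : V), ρ g (ι v) = ι ⟨_, conj_mem_of_mem_normalizer ((hL ▸ hn) g.2) v.2⟩ :=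
    fun g v => k5 g v _ rfl
  have := (k1 ⟨c, l1 hc.1⟩).1 (key_rep _ W L ρ (Q.subgroupOf L) (F.subgroupOf L) (H.subgroupOf L)
    ⟨c, l1 hc.1⟩ rfl (h.subgroupOf l1 l2 l3) (H4.isNilpotent_subgroupOf _ _) (by
      rw [Nat.card_congr (subgroupOfEquivOfLe l1).toEquiv, Ne,
        CharP.cast_eq_zero_iff (AlgebraicClosure (ZMod p)) p]
      exact hp.coprime_iff_not_dvd.1 cop.symm)
    ⟨hc.1, fun a ha => Subtype.ext (hc.2 a ha)⟩ fun w => ?_)
  · exact fun v hv => mem_centralizer_singleton_iff.2 (this v hv)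
  refine LinearMap.congr_fun (LinearMap.ext_on_range (f := trSub ρ (H.subgroupOf L) *
    (ρ ⟨c, l1 hc.1⟩ - 1)) (g := 0) k4 fun v => ?_) w
  obtain ⟨t, ht⟩ : ∃ t, ι t = trSub ρ (H.subgroupOf L) (ι v) := by
    rw [trSub_apply]
    exact Finset.sum_induction _ (fun w => ∃ t, ι t = w) (by
      rintro _ _ ⟨a, rfl⟩ ⟨b, rfl⟩; exact ⟨_, k2 a b⟩) ⟨1, k0⟩ fun g _ => ⟨_, (k6 g v).symm⟩
  have h2 : (t : Γ) ∈ C1[c] := h1 ⟨t.2, fun a ha => mul_inv_eq_iff_eq_mul.1 (congrArg Subtype.val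
    (k3 ((k6 ⟨a, l3 ha⟩ t).symm.trans (ht ▸ trSub_mem_fixSp ρ _ (ι v) ⟨a, l3 ha⟩ ha))))⟩
  have h3 : trSub ρ (H.subgroupOf L) (ρ ⟨c, l1 hc.1⟩ (ι v)) =
      ρ ⟨c, l1 hc.1⟩ (trSub ρ (H.subgroupOf L) (ι v)) := by
    rw [trSub_apply, trSub_apply, map_sum]
    exact Finset.sum_congr rfl fun g _ => by
      rw [← Module.End.mul_apply, ← map_mul, ← Module.End.mul_apply, ← map_mul]
      exact congrArg (fun x => ρ x (ι v)) (Subtype.ext (hc.2 _ g.2))
  change trSub ρ _ (ρ _ (ι v) - ι v) = 0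
  rw [map_sub, h3, ← ht, sub_eq_zero]
  exact k5 _ t t (by rw [← mem_centralizer_singleton_iff.1 h2, mul_inv_cancel_right])

end H26.NF
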