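/- Rows S4123, S4392, S4124 from the theorem on nilpotent fixed-point-free operator groups. -/
import Cfsg.Agent.H14.NFSpec

set_option autoImplicit false

namespace H26.NF

open Subgroup Cfsg H98 H26.FP H14.NF SemidirectProduct

universe u v

variable {G : Type u} {A : Type v} [Group G] [Finite G] [Group A] [Finite A] [MulDistribMulAction A G]

omit [Finite G] [Finite A] in
theorem sol_of_map {K : Subgroup G} (h : Group.IsSolvable (K.map (inl : G →* SD G A))) :
    Group.IsSolvable K :=
  Group.isSolvable_of_isSolvable_injective (f := (inl : G →* SD G A).subgroupMap K) fun _ _ e =>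
    Subtype.ext (inl_injective (congrArg Subtype.val e))

omit [Finite A] in
theorem nil_top (hA : Group.IsNilpotent A) : Group.IsNilpotent (⊤ : Subgroup A) := inferInstance

theorem row4124 (thm : H14.NF.Thm.{max u v}) (hA : Group.IsNilpotent A)
    (hCF : ∀ g : G, (∀ a : A, a • g = g) → g = 1) : Group.IsSolvable G := by
  have h := sd_fp (K := (⊤ : Subgroup G)) (B := (⊤ : Subgroup A)) (nil_top hA)
    (fun _ _ _ _ => mem_top _) fun g _ h => hCF g fun a => h a (mem_top a)
  have := sol_of_map (thm _ _ _ h)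
  exact Group.isSolvable_of_surjective (f := (⊤ : Subgroup G).subtype) fun x => ⟨⟨x, mem_top x⟩, rfl⟩

theorem row4392 (thm : H14.NF.Thm.{max u v}) (hA : Group.IsNilpotent A)
    (hCF : ∀ g : G, (∀ a : A, a • g = g) → g = 1) (N : Subgroup G) [N.Normal]
    (hN : ∀ (a : A) (n : G), n ∈ N → a • n ∈ N) (g : G) (hg : ∀ a : A, g⁻¹ * a • g ∈ N) : g ∈ N := by
  have h := sd_fp (K := (⊤ : Subgroup G)) (B := (⊤ : Subgroup A)) (nil_top hA)
    (fun _ _ _ _ => mem_top _) fun g _ h => hCF g fun a => h a (mem_top a)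
  have hn : (⊤ : Subgroup A).map (inr : A →* SD G A) ≤ N[N.map (inl : G →* SD G A)] :=
    sd_nor.2 fun a _ => hN a
  have := h.quo (x := inl g⁻¹) (map_mono le_top) hn (thm _ _ _ (h.mono (map_mono le_top) hn))
    (mem_map_of_mem _ (mem_top _)) (by
      rintro _ ⟨a, -, rfl⟩
      refine ⟨_, hg a, ?_⟩
      rw [map_mul, ← sd_conj, map_inv, inv_inv]; group)
  rwa [mem_map_iff_mem inl_injective, inv_mem_iff] at this

theorem row4123 (thm : H14.NF.Thm.{max u v}) (Fk Hc : Subgroup A) [Fk.Normal]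
    (hHc : IsFrobeniusComplement Hc) (hker : frobeniusKernel Hc = (Fk : Set A))
    (hCF : ∀ g : G, (∀ f ∈ Fk, f • g = g) → g = 1) (p : ℕ) [Fact p.Prime] :
    ∃! P : Sylow p G, ∀ (a : A) (x : G), x ∈ (P : Subgroup G) → a • x ∈ (P : Subgroup G) := by
  have h := sd_fr (K := (⊤ : Subgroup G)) (thm _) hHc hker (fun _ _ _ => mem_top _) fun g _ => hCF g
  have e : H5.frobKer hHc = Fk := Subgroup.ext fun x => by rw [H5.mem_frobKer, hker]; rfl
  have et : Fk ⊔ Hc = ⊤ := e ▸ (H5.frobKer_isComplement' hHc).sup_eq_top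
  obtain ⟨P, hP, h1, h2⟩ := h.exists_syl p
  have eP : (P.comap (inl : G →* SD G A)).map inl = P :=
    map_comap_eq_self (by simpa only [← MonoidHom.range_eq_map] using hP.le)
  have hP' : IsSyl p (P.comap (inl : G →* SD G A)) ⊤ :=
    IsSyl.of_map_injective inl_injective (by rwa [eP])
  refine ⟨hP'.toSylowTop, fun a => ?_, fun Q hQ => Sylow.ext ?_⟩
  · refine (sd_nor (B := ⊤)).1 ?_ a (mem_top a)
    rw [hP'.coe_toSylowTop, eP, ← et, Subgroup.map_sup]
    exact sup_le h1 h2
  · rw [hP'.coe_toSylowTop, ← h.fp.syl_unique h.sol hP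
      ((isSyl_sylow Q).map_of_injective inl_injective) h1 (sd_nor.2 fun a _ => hQ a),
      comap_map_eq_self_of_injective inl_injective]

end H26.NF
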