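import Cfsg.Agent.H26.NilpComm
import Cfsg.Agent.H26.SylowTI
import Cfsg.Agent.H26.FrobConstruct
import Cfsg.Agent.S3889

/-!
Minimal covers of a finite group by proper subgroups; nilpotent minimal covers.
-/

set_option autoImplicit false

namespace H26

open scoped Pointwise

variable {G : Type*} [Group G]

/-- `𝓐` is a minimal cover by nilpotent subgroups (the form used in the statements). -/
def IsNilpMinCover (𝓐 : Finset (Subgroup G)) : Prop :=
  ((∀ A ∈ 𝓐, A ≠ ⊤) ∧ (∀ g : G, ∃ A ∈ 𝓐, g ∈ A)) ∧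
    (∀ 𝓑 : Finset (Subgroup G), (∀ A ∈ 𝓑, A ≠ ⊤) ∧ (∀ g : G, ∃ A ∈ 𝓑, g ∈ A) → 𝓐.card ≤ 𝓑.card) ∧
    (∀ A ∈ 𝓐, Group.IsNilpotent ↥A)

/-- Two distinct members of a minimal cover lie in no proper subgroup. -/
theorem IsNilpMinCover.eq_top {𝓐 : Finset (Subgroup G)} (h : IsNilpMinCover 𝓐) {A B M : Subgroup G}
    (hA : A ∈ 𝓐) (hB : B ∈ 𝓐) (hne : A ≠ B) (hAM : A ≤ M) (hBM : B ≤ M) : M = ⊤ := by
  classical
  by_contra hM
  obtain ⟨⟨h1, h2⟩, h3, -⟩ := h
  have := h3 (insert M ((𝓐.erase A).erase B)) ⟨?_, ?_⟩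
  · have hc := Finset.card_insert_le M ((𝓐.erase A).erase B)
    rw [Finset.card_erase_of_mem (Finset.mem_erase.2 ⟨hne.symm, hB⟩), Finset.card_erase_of_mem hA] at hc
    have : 1 < 𝓐.card := Finset.one_lt_card.2 ⟨A, hA, B, hB, hne⟩
    omega
  · intro C hC
    rcases Finset.mem_insert.1 hC with rfl | hC
    · exact hM
    · exact h1 C (Finset.mem_of_mem_erase (Finset.mem_of_mem_erase hC))
  · intro g
    obtain ⟨C, hC, hg⟩ := h2 g
    by_cases h4 : C = A
    · exact ⟨M, Finset.mem_insert_self _ _, hAM (h4 ▸ hg)⟩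
    by_cases h5 : C = B
    · exact ⟨M, Finset.mem_insert_self _ _, hBM (h5 ▸ hg)⟩
    exact ⟨C, Finset.mem_insert_of_mem (Finset.mem_erase.2 ⟨h5, Finset.mem_erase.2 ⟨h4, hC⟩⟩), hg⟩

/-- With trivial centre and abelian Sylow `p`-subgroups a `p`-element `≠ 1` lies in a unique member. -/
theorem IsNilpMinCover.eq_of_pElt [Finite G] {𝓐 : Finset (Subgroup G)} (h : IsNilpMinCover 𝓐)
    (hZ : Subgroup.center G = ⊥) {p : ℕ} [Fact p.Prime] (P : Sylow p G)
    (hab : IsMulCommutative (P : Subgroup G)) {x : G} (hx : x ≠ 1) {k : ℕ} (hk : x ^ p ^ k = 1)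
    {A B : Subgroup G} (hA : A ∈ 𝓐) (hB : B ∈ 𝓐) (hxA : x ∈ A) (hxB : x ∈ B) : A = B := by
  by_contra hne
  have key : ∀ C ∈ 𝓐, x ∈ C → C ≤ Subgroup.centralizer {x} := by
    intro C hC hxC a ha
    rw [Subgroup.mem_centralizer_singleton_iff]
    exact (commute_of_nilpotent_of_abelian_sylow P hab (h.2.2 C hC) hxC ha hk).symm
  have := h.eq_top hA hB hne (key A hA hxA) (key B hB hxB)
  apply hx
  rw [← Subgroup.mem_bot, ← hZ, Subgroup.mem_center_iff]
  intro g
  exact Subgroup.mem_centralizer_singleton_iff.1 (by rw [this]; trivial)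

open scoped IsMulCommutative in
theorem IsNilpMinCover.exists_sylow_le [Finite G] {𝓐 : Finset (Subgroup G)} (h : IsNilpMinCover 𝓐)
    (hZ : Subgroup.center G = ⊥) {p : ℕ} [hp : Fact p.Prime] (P : Sylow p G)
    (hP : IsCyclic ↥(P : Subgroup G) ∨
      (IsMulCommutative ↥(P : Subgroup G) ∧ ¬ Cfsg.IsElementaryAbelian p (P : Subgroup G))) :
    ∃ A ∈ 𝓐, (P : Subgroup G) ≤ A := by
  rcases hP with hc | ⟨hab, hne⟩
  · obtain ⟨y, hy⟩ := hc.exists_generator
    obtain ⟨A, hA, hyA⟩ := h.1.2 y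
    refine ⟨A, hA, fun x hx => ?_⟩
    obtain ⟨m, hm⟩ := hy ⟨x, hx⟩
    have : x = (y : G) ^ m := (congrArg Subtype.val hm).symm
    rw [this]
    exact A.zpow_mem hyA m
  · by_contra hcon
    push Not at hcon
    apply hne
    refine ⟨hab, ?_⟩
    have hpr := Cfsg.Agent.S3889.result (G := (P : Subgroup G))
      {B | ∃ A ∈ 𝓐, B = A.subgroupOf (P : Subgroup G)} ?_ ?_ ?_
    · intro a ha
      obtain ⟨k, hk⟩ := IsPGroup.iff_orderOf.1 P.isPGroup' ⟨a, ha⟩
      have h1 := Monoid.order_dvd_exponent (⟨a, ha⟩ : (P : Subgroup G))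
      have h2 : orderOf (⟨a, ha⟩ : (P : Subgroup G)) ∣ p := by
        rcases (Nat.dvd_prime hpr).1 h1 with h3 | h3
        · rw [h3]; exact one_dvd _
        · rw [← h3, hk] at hpr
          rw [hk, hpr.eq_one_of_pow, pow_one]
      exact congrArg Subtype.val (orderOf_dvd_iff_pow_eq_one.1 h2)
    · rintro _ ⟨A, hA, rfl⟩ ht
      exact hcon A hA (Subgroup.subgroupOf_eq_top.1 ht)
    · intro g
      obtain ⟨A, hA, hg⟩ := h.1.2 g
      exact ⟨_, ⟨A, hA, rfl⟩, hg⟩
    · rintro _ ⟨A, hA, rfl⟩ _ ⟨B, hB, rfl⟩ hAB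
      rw [Subgroup.eq_bot_iff_forall]
      rintro x ⟨hxA, hxB⟩
      by_contra hx
      obtain ⟨k, hk⟩ := P.isPGroup' x
      exact hAB (by rw [h.eq_of_pElt hZ P hab (fun h => hx (Subtype.ext h))
        (congrArg Subtype.val hk) hA hB hxA hxB])

theorem IsNilpMinCover.centralizer_eq [Finite G] {𝓐 : Finset (Subgroup G)} (h : IsNilpMinCover 𝓐)
    (hZ : Subgroup.center G = ⊥) {p : ℕ} [hp : Fact p.Prime] (P : Sylow p G)
    (hab : IsMulCommutative (P : Subgroup G)) (hb : (P : Subgroup G) ≠ ⊥) {A : Subgroup G} (hA : A ∈ 𝓐)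
    (hPA : (P : Subgroup G) ≤ A) : Subgroup.centralizer ((P : Subgroup G) : Set G) = A := by
  apply le_antisymm
  · intro g hg
    obtain ⟨e, f, h1, ⟨l, h2⟩, h3⟩ := H24.exists_p_decomp hp.out g
    rw [← h1]
    apply A.mul_mem
    · apply hPA
      refine le_sylow_of_le_normalizer' P (isPGroup_zpowers_of_pow (k := l) (x := g ^ e)
        (by rw [← h2, pow_orderOf_eq_one])) (Subgroup.zpowers_le.2 ?_) (Subgroup.mem_zpowers _)
      exact Subgroup.centralizer_le_normalizer _ (Subgroup.pow_mem _ hg e)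
    · obtain ⟨⟨x, hxP⟩, hx⟩ := Subgroup.ne_bot_iff_exists_ne_one.1 hb
      have hx' : x ≠ 1 := fun h => hx (Subtype.ext h)
      obtain ⟨k, hk⟩ := P.isPGroup' ⟨x, hxP⟩
      have hk' : x ^ p ^ k = 1 := congrArg Subtype.val hk
      have hc : Commute x (g ^ f) := Commute.pow_right (hg x hxP) f
      have hcop : (orderOf x).Coprime (orderOf (g ^ f)) :=
        Nat.Coprime.coprime_dvd_left (orderOf_dvd_of_pow_eq_one hk')
          (Nat.Coprime.pow_left k ((Nat.Prime.coprime_iff_not_dvd hp.out).2 h3))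
      obtain ⟨B, hB, hxB⟩ := h.1.2 (x * g ^ f)
      obtain ⟨m, hm⟩ := H24.exists_pow_mul_eq_of_coprime hc hcop
      have hxB' : x ∈ B := by rw [← hm]; exact B.pow_mem hxB m
      rw [h.eq_of_pElt hZ P hab hx' hk' hA hB (hPA hxP) hxB']
      simpa using B.mul_mem (B.inv_mem hxB') hxB
  · intro a ha x hx
    obtain ⟨k, hk⟩ := P.isPGroup' ⟨x, hx⟩
    exact commute_of_nilpotent_of_abelian_sylow P hab (h.2.2 A hA) (hPA hx) ha (congrArg Subtype.val hk)

/-- The main structure statement for a Sylow subgroup that is cyclic or abelian non-elementary. -/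
theorem IsNilpMinCover.sylow_structure [Finite G] {𝓐 : Finset (Subgroup G)} (h : IsNilpMinCover 𝓐)
    (hZ : Subgroup.center G = ⊥) {p : ℕ} [hp : Fact p.Prime] (P : Sylow p G)
    (hP : IsCyclic ↥(P : Subgroup G) ∨
      (IsMulCommutative ↥(P : Subgroup G) ∧ ¬ Cfsg.IsElementaryAbelian p (P : Subgroup G)))
    (hb : (P : Subgroup G) ≠ ⊥) :
    (∃ A ∈ 𝓐, (P : Subgroup G) ≤ A ∧ Subgroup.centralizer ((P : Subgroup G) : Set G) = A) ∧
    (∀ Q R : Sylow p G, Q ≠ R → (Q : Subgroup G) ⊓ (R : Subgroup G) = ⊥) ∧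
    ∀ M : Subgroup G, M ≠ ⊤ → Subgroup.centralizer ((P : Subgroup G) : Set G) ≤ M →
      M ≤ Subgroup.normalizer ((P : Subgroup G) : Set G) := by
  have hall : ∀ Q : Sylow p G, (IsCyclic ↥(Q : Subgroup G) ∨
      (IsMulCommutative ↥(Q : Subgroup G) ∧ ¬ Cfsg.IsElementaryAbelian p (Q : Subgroup G))) := by
    intro Q
    let e := P.equiv Q
    rcases hP with hc | ⟨hab, hne⟩
    · exact Or.inl (isCyclic_of_surjective e e.surjective)
    · refine Or.inr ⟨⟨⟨fun u v => e.symm.injective (by rw [map_mul, map_mul, mul_comm'])⟩⟩, fun hQ => hne ⟨hab, ?_⟩⟩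
      intro a ha
      have : (⟨a, ha⟩ : (P : Subgroup G)) ^ p = 1 := by
        apply e.injective
        rw [map_pow, map_one]
        exact Subtype.ext (hQ.2 _ (e ⟨a, ha⟩).2)
      exact congrArg Subtype.val this
  have hab : ∀ Q : Sylow p G, IsMulCommutative (Q : Subgroup G) := fun Q =>
    (hall Q).elim (fun hc => hc.isMulCommutative) (fun h => h.1)
  have hbQ : ∀ Q : Sylow p G, (Q : Subgroup G) ≠ ⊥ := by
    intro Q hQ
    apply hb
    rw [← Subgroup.card_eq_one] at hQ ⊢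
    rw [Nat.card_congr (P.equiv Q).toEquiv, hQ]
  have hex : ∀ Q : Sylow p G, ∃ A ∈ 𝓐, (Q : Subgroup G) ≤ A ∧
      Subgroup.centralizer ((Q : Subgroup G) : Set G) = A := by
    intro Q
    obtain ⟨A, hA, hle⟩ := h.exists_sylow_le hZ Q (hall Q)
    exact ⟨A, hA, hle, h.centralizer_eq hZ Q (hab Q) (hbQ Q) hA hle⟩
  have huniq : ∀ Q R : Sylow p G, (R : Subgroup G) ≤ Subgroup.centralizer ((Q : Subgroup G) : Set G) →
      Q = R := by
    intro Q R hle
    exact Sylow.ext (R.is_maximal' Q.isPGroup' (le_sylow_of_le_normalizer' Q R.isPGroup'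
      (hle.trans (Subgroup.centralizer_le_normalizer _))))
  refine ⟨hex P, ?_, ?_⟩
  · intro Q R hQR
    rw [Subgroup.eq_bot_iff_forall]
    rintro x ⟨hxQ, hxR⟩
    by_contra hx
    obtain ⟨A, hA, h1, h2⟩ := hex Q
    obtain ⟨B, hB, h3, h4⟩ := hex R
    obtain ⟨k, hk⟩ := Q.isPGroup' ⟨x, hxQ⟩
    have := h.eq_of_pElt hZ P (hab P) hx (congrArg Subtype.val hk) hA hB (h1 hxQ) (h3 hxR)
    exact hQR (huniq Q R (by rw [h2, this]; exact h3))
  · intro M hM hCM g hg
    obtain ⟨A, hA, h1, h2⟩ := hex P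
    obtain ⟨B, hB, h3, h4⟩ := hex (g • P)
    have hBM : B ≤ M := by
      rw [← h4]
      intro c hc
      have : g⁻¹ * c * g ∈ M := by
        apply hCM
        intro x hx
        have hx' : g * x * g⁻¹ ∈ ((g • P : Sylow p G) : Subgroup G) :=
          (mem_conj_smul_iff _ _ _).2 (by
            rw [show g⁻¹ * (g * x * g⁻¹) * g = x by group]; exact hx)
        have := hc _ hx'
        calc x * (g⁻¹ * c * g) = g⁻¹ * (g * x * g⁻¹ * c) * g := by group
          _ = g⁻¹ * c * g * x := by rw [this]; group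
      simpa [mul_assoc] using M.mul_mem (M.mul_mem hg this) (M.inv_mem hg)
    have hAB : A = B := by
      by_contra hne
      exact hM (h.eq_top hA hB hne (h2 ▸ hCM) hBM)
    rw [Sylow.coe_coe, ← Sylow.smul_eq_iff_mem_normalizer]
    exact (huniq P (g • P) (by rw [h2, hAB]; exact h3)).symm

end H26
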