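import Cfsg.Agent.H74.O8Kit2
import Cfsg.Agent.H26.NilpComm
import Cfsg.Agent.S2751

/-! Tower O8, slot `SOL+HM+GOLD`. -/

set_option autoImplicit false
set_option linter.style.haveILetI false

namespace H26.O8

open Cfsg Subgroup H98 H74.OC H74.O8

universe u

theorem comm_cen {G : Type*} [Group G] (N : Subgroup G) [N.Normal] [IsCyclic N] (g h : G) :
    g * h * g⁻¹ * h⁻¹ ∈ centralizer (N : Set G) := by
  have e := IsCyclic.mulAutMulEquiv N
  have c : MulAut.conjNormal (H := N) (g * h * g⁻¹ * h⁻¹) = 1 := by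
    apply e.injective
    simp only [map_mul, map_inv, map_one]
    rw [mul_comm (e _) (e (MulAut.conjNormal h))]
    group
  exact fun v hv => (mul_inv_eq_iff_eq_mul.1 (show _ * v * _⁻¹ = v from
    congrArg Subtype.val (DFunLike.congr_fun c (⟨v, hv⟩ : N)))).symm

theorem prime_cases {p : ℕ} (hp : p.Prime) (h : p ≤ 8) : p = 2 ∨ p = 3 ∨ p = 5 ∨ p = 7 := by
  interval_cases p <;> simp_all (config := {decide := true})

/-- A solvable group of characteristic `2` with an element of order `5` or `7`. -/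
theorem sol {K : Type u} [Group K] [Finite K] (hs : Sp 8 K)
    (hc : centralizer (pCore 2 K : Set K) ≤ pCore 2 K) (hsol : Group.IsSolvable K) {σ : K}
    (hσ : orderOf σ = 5 ∨ orderOf σ = 7) :
    ∃ q : ℕ, (q = 5 ∨ q = 7) ∧ ∀ g h : K, (g * h * g⁻¹ * h⁻¹) ^ q ∈ pCore 2 K := by
  haveI := Fact.mk Nat.prime_two
  set R := pCore 2 K with hR
  have R2 : IsPGroup 2 R := isPGroup_pCore 2 K
  have hp : (orderOf σ).Prime := by rcases hσ with e | e <;> rw [e] <;> norm_num
  have nσ : σ ∉ R := fun k => by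
    have := two_dvd_order R2 k (fun e => by rw [e, orderOf_one] at hσ; omega)
    omega
  haveI : Nontrivial (K ⧸ R) := ⟨⟨σ, 1, fun e => nσ ((QuotientGroup.eq_one_iff σ).1 e)⟩⟩
  obtain ⟨M, hM, h0, hmin⟩ := H2.exists_minimal_normal (K ⧸ R)
  obtain ⟨q, hq, hd, he, hP⟩ := H2.exists_elementaryAbelian_of_minimal_normal h0 hmin
  haveI := Fact.mk hq
  have q2 : q ≠ 2 := fun e => by
    subst e
    exact h0 (le_bot_iff.1 ((H2.le_pCore hP).trans (H2.pCore_quotient_pCore 2 K).le))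
  have q8 : q ≤ 8 := (hs.quot R).prime_le hq (hd.trans (card_subgroup_dvd_card M))
  let π := QuotientGroup.mk' R
  let N := M.comap π
  have RN : R ≤ N := fun r hr => by
    show π r ∈ M
    rw [show π r = 1 from (QuotientGroup.eq_one_iff r).2 hr]
    exact one_mem _
  have pw : ∀ n ∈ N, n ^ q ∈ R := fun n hn => (QuotientGroup.eq_one_iff _).1 (he.2 (π n) hn)
  obtain ⟨A, hA⟩ := exists_isSyl q N
  have AM : A.map π = M := by
    have := hA.map π
    rw [map_comap_eq_self_of_surjective (QuotientGroup.mk'_surjective R)] at this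
    exact this.eq_of_isPGroup hP
  have cop : (Nat.card A).Coprime (Nat.card R) :=
    IsPGroup.coprime_card_of_ne q 2 q2 A R hA.isPGroup R2
  have AR : ∀ a ∈ A, a ∈ R → a = 1 := fun a h1 h2 => by
    have : a ∈ A ⊓ R := ⟨h1, h2⟩
    rwa [H46.inf_eq_bot_of_coprime' cop] at this
  have oA : ∀ a ∈ A, a ≠ 1 → orderOf a = q := fun a h1 h2 =>
    orderOf_eq_prime (AR _ (pow_mem h1 q) (pw a (hA.le h1))) h2
  obtain ⟨⟨a, ha⟩, a1⟩ := ne_bot_iff_exists_ne_one.1 (show A ≠ ⊥ from fun e => h0 (by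
    rw [← AM, e, Subgroup.map_bot]))
  replace a1 : a ≠ 1 := fun e => a1 (Subtype.ext e)
  have q57 : q = 5 ∨ q = 7 := by
    rcases prime_cases hq q8 with e | e | e
    · exact absurd e q2
    · subst e
      have nil : Group.IsNilpotent N := H5.isNilpotent_of_fpf_elem hp (by
        rw [normalizer_eq_top]; trivial) (eq_bot_iff.2 fun x hx => by_contra fun r => by
          have c : Commute x σ := mem_centralizer_singleton_iff.1 hx.2
          by_cases e3 : x ^ 3 = 1
          · have := H26.OC.pr hs c Nat.prime_three hp (orderOf_eq_prime e3 r).symm.dvd dvd_rfl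
              (by omega)
            omega
          · have := H26.OC.pr hs (c.pow_left 3) Nat.prime_two hp
              (two_dvd_order R2 (pw x hx.1) e3) dvd_rfl (by omega)
            omega)
      refine absurd (AR a ha (hc fun r hr => ?_)) a1
      refine (H26.commute_of_coprime_orderOf_of_mem nil (RN hr) (hA.le ha) ?_).eq
      exact (cop.symm.coprime_dvd_left (orderOf_dvd_natCard R hr)).coprime_dvd_right
        (orderOf_dvd_natCard A ha)
    · exact e
  have cyc : IsCyclic A := by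
    by_contra k
    have ab : IsMulCommutative A := ⟨⟨fun x y => Subtype.ext (by
      have e : π x * π y = π y * π x := congrArg Subtype.val
        (he.1.is_comm.comm (⟨π x, hA.le x.2⟩ : M) ⟨π y, hA.le y.2⟩)
      have := AR ((x * y)⁻¹ * (y * x)) (mul_mem (inv_mem (mul_mem x.2 y.2)) (mul_mem y.2 x.2))
        (QuotientGroup.eq.1 e)
      exact inv_mul_eq_one.1 this)⟩⟩
    have : R ≤ ⊥ := H46.coprime_abelian_gen_cent1 ab k (by rw [H46.Nrm, normalizer_eq_top]; exact le_top)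
      cop fun b hb b1 => (fpf hs (by rw [oA b hb b1]; exact q57) R2).le
    refine nσ (hc fun r hr => ?_)
    rw [mem_bot.1 (this hr), one_mul, mul_one]
  haveI : IsCyclic M := AM ▸ isCyclic_of_surjective _ (π.subgroupMap_surjective A)
  refine ⟨q, q57, fun g h => (QuotientGroup.eq_one_iff _).1 ?_⟩
  have c := comm_cen M (π g) (π h) (π a) (hA.le ha)
  simp only [← map_inv, ← map_mul] at c
  change π ((g * h * g⁻¹ * h⁻¹) ^ q) = 1
  rw [map_pow]
  set z := π (g * h * g⁻¹ * h⁻¹)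
  have oa : orderOf (π a) = q := orderOf_eq_prime (he.2 _ (hA.le ha))
    fun e => a1 (AR a ha ((QuotientGroup.eq_one_iff a).1 e))
  have cz : Commute (π a) z := by rw [Commute, SemiconjBy, ← map_mul, ← map_mul]; exact c
  have e := Nat.eq_prime_pow_of_unique_prime_dvd (p := q) (orderOf_pos z).ne' fun {r} hr hd =>
    by_contra fun k => by
      have := H26.OC.pr (hs.quot R) cz hq hr oa.symm.dvd hd (Ne.symm k)
      have := hr.two_le
      rcases q57 with rfl | rfl <;> omega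
  generalize (orderOf z).primeFactorsList.length = j at e
  have h8 := hs.quot R z
  rcases j with _ | _ | j
  · rw [orderOf_eq_one_iff.1 e, one_pow]
  · rw [← orderOf_dvd_iff_pow_eq_one, e]; simp
  · have : q ^ 2 ≤ q ^ (j + 1 + 1) := Nat.pow_le_pow_right hq.pos (by omega)
    rcases q57 with rfl | rfl <;> omega

theorem jobSOL : JobSOL.{u} := by
  intro G _ _ S H W X hs h hX hc hsol p hp hd
  haveI := Fact.mk hp
  by_contra k
  obtain ⟨σ, hσ⟩ := exists_prime_orderOf_dvd_card' (G := X) p hd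
  have p8 := (hs.sub X).prime_le hp hd
  obtain ⟨q, hq, e⟩ := sol (hs.sub X) (charP_iff.1 hc) hsol (σ := σ) (by
    rw [hσ]; rcases prime_cases hp p8 with e | e | e <;> tauto)
  refine h.nn fun g hg => mem_normalizer_of_cj_le fun y hy => ?_
  obtain ⟨s, hs', rfl⟩ := hy
  have m : g * s * g⁻¹ * s⁻¹ ∈ H := mul_mem (mul_mem (mul_mem hg (h.le2 hs')) (inv_mem hg))
    (inv_mem (h.le2 hs'))
  have e1 := e ⟨g, hX hg⟩ ⟨s, hX (h.le2 hs')⟩
  rw [← pCoreOf_subgroupOf, mem_subgroupOf] at e1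
  have e2 : (g * s * g⁻¹ * s⁻¹) ^ q ∈ S :=
    h.le1 (h.core_eq ▸ pCoreOf_inf_le_of_le hX ⟨e1, pow_mem m q⟩)
  have e3 := mem_of_pow_mem_of_coprime e2 (by
    have q' : q.Prime := by rcases hq with rfl | rfl <;> norm_num
    refine ((Nat.Prime.coprime_iff_not_dvd q').2 fun d => ?_).symm
    have := h.t23 q q' (d.trans (orderOf_dvd_natCard H m))
    omega)
  simpa using mul_mem e3 hs'

theorem prm_sup {G : Type u} [Group G] {H P₁ P₂ : Subgroup G} (h1 : Prm H P₁) (h2 : Prm H P₂) :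
    Prm H (P₁ ⊔ P₂) := by
  let R : G → Prop := fun m => ∀ h ∈ H, ∃ h' ∈ H, ∃ m' ∈ P₁ ⊔ P₂, m * h = h' * m'
  have mul : ∀ a b, R a → R b → R (a * b) := fun a b ha hb h hh => by
    obtain ⟨h₁, k1, m₁, k2, e1⟩ := hb h hh
    obtain ⟨h₂, k3, m₂, k4, e2⟩ := ha h₁ k1
    exact ⟨h₂, k3, m₂ * m₁, mul_mem k4 k2, by rw [mul_assoc, e1, ← mul_assoc, e2, mul_assoc]⟩
  let K : Subgroup G :=
    { carrier := {m | R m ∧ R m⁻¹}
      one_mem' := ⟨fun h hh => ⟨h, hh, 1, one_mem _, by simp⟩, fun h hh => ⟨h, hh, 1, one_mem _, by simp⟩⟩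
      mul_mem' := fun a b => ⟨mul _ _ a.1 b.1, by rw [mul_inv_rev]; exact mul _ _ b.2 a.2⟩
      inv_mem' := fun a => ⟨a.2, by rw [inv_inv]; exact a.1⟩ }
  have key : ∀ P ≤ P₁ ⊔ P₂, Prm H P → P ≤ K := fun P hP h => by
    have : ∀ p ∈ P, R p := fun p hp x hx => by
      obtain ⟨h', a, p', b, e⟩ := h x hx p hp
      exact ⟨h', a, p', hP b, e⟩
    exact fun p hp => ⟨this p hp, this _ (inv_mem hp)⟩
  exact fun h hh p hp => (sup_le (key _ le_sup_left h1) (key _ le_sup_right h2) hp).1 h hh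

theorem prm_mem {G : Type u} [Group G] {H M : Subgroup G} (h : Prm H M) {y : G} (hy : y ∈ H ⊔ M) :
    ∃ a ∈ H, ∃ m ∈ M, y = a * m := by
  let K : Subgroup G :=
    { carrier := {y | ∃ a ∈ H, ∃ m ∈ M, y = a * m}
      one_mem' := ⟨1, one_mem _, 1, one_mem _, by simp⟩
      mul_mem' := by
        rintro _ _ ⟨a, ha, m, hm, rfl⟩ ⟨b, hb, n, hn, rfl⟩
        obtain ⟨c, hc, k, hk, e⟩ := h b hb m hm
        exact ⟨a * c, mul_mem ha hc, k * n, mul_mem hk hn, by
          rw [mul_assoc, ← mul_assoc m, e]; group⟩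
      inv_mem' := by
        rintro _ ⟨a, ha, m, hm, rfl⟩
        obtain ⟨c, hc, k, hk, e⟩ := h _ (inv_mem ha) _ (inv_mem hm)
        exact ⟨c, hc, k, hk, by rw [mul_inv_rev, e]⟩ }
  exact (sup_le (fun a ha => ⟨a, ha, 1, one_mem _, by simp⟩)
    (fun m hm => ⟨1, one_mem _, m, hm, by simp⟩) : H ⊔ M ≤ K) hy

theorem prm_index {G : Type u} [Group G] [Finite G] {H M T : Subgroup G} (h : Prm H M) (hT : T ≤ M) :
    M.relIndex (H ⊔ M) ≤ T.relIndex H := by
  let f : H ⧸ T.subgroupOf H → ↥(H ⊔ M) ⧸ M.subgroupOf (H ⊔ M) :=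
    Quotient.map' (inclusion le_sup_left) fun a b e => by
      rw [QuotientGroup.leftRel_apply] at e ⊢
      exact hT e
  refine Nat.card_le_card_of_surjective f fun y => ?_
  obtain ⟨⟨y, hy⟩, rfl⟩ := QuotientGroup.mk_surjective y
  obtain ⟨a, ha, m, hm, rfl⟩ := prm_mem h hy
  refine ⟨QuotientGroup.mk ⟨a, ha⟩, QuotientGroup.eq.2 ?_⟩
  simpa [mem_subgroupOf] using hm

theorem jobHM : JobHM.{u} := by
  intro G _ _ M Q T P₁ P₂ H W k hs hM ht e hQ hT h p1 p2
  have pm : Prm H M := e ▸ prm_sup p1 p2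
  have i3 : T.relIndex H = 3 := Nat.eq_of_mul_eq_mul_right (Nat.card_pos (α := T)) (by
    rw [← h.c2, ← index_mul_card (T.subgroupOf H), Nat.card_congr (subgroupOfEquivOfLe h.le2).toEquiv]
    rfl)
  have ix := (prm_index pm hT).trans i3.le
  obtain ⟨σ, hσ, oσ⟩ := ht.sig
  let N : Subgroup G := ((M.subgroupOf (H ⊔ M)).normalCore).map (H ⊔ M).subtype
  have nN : H ⊔ M ≤ normalizer (N : Set G) := le_normalizer_map_subtype _
  have NM : N ≤ M := by
    rintro _ ⟨x, hx, rfl⟩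
    exact normalCore_le (M.subgroupOf (H ⊔ M)) hx
  have σN : σ ∈ N := by
    refine mem_of_pow_mem_of_coprime (n := 6) ⟨⟨σ, mem_sup_right hσ⟩ ^ 6, fun b => ?_, rfl⟩
      (by rcases oσ with e | e <;> rw [e] <;> norm_num)
    rw [← conj_pow]
    refine pow_mem_of_index_ne_zero_of_dvd FiniteIndex.index_ne_zero _ fun m m0 m1 => ?_
    have : m ≤ 3 := m1.trans ix
    interval_cases m <;> norm_num
  have ne : pCoreOf 2 N ≠ ⊥ := fun e0 => hM.ne (by
    rw [← fpf hs oσ hM.two]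
    refine (inf_eq_left.2 fun x hx => mem_centralizer_singleton_iff.2 ?_).symm
    have : x * σ * x⁻¹ * σ⁻¹ ∈ pCoreOf 2 M ⊓ N := mem_inf.2 ⟨by
      rw [hM.core_eq, mul_assoc, mul_assoc, ← mul_assoc σ]
      exact mul_mem hx (conj_mem_of_mem_normalizer (hM.nor hσ) (inv_mem hx)),
      mul_mem (conj_mem_of_mem_normalizer (nN (mem_sup_right (hM.le hx))) σN) (inv_mem σN)⟩
    have := pCoreOf_inf_le_of_le NM this
    rw [e0, mem_bot, mul_inv_eq_one, mul_inv_eq_iff_eq_mul] at this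
    exact this)
  have nB := le_normalizer_pCoreOf (p := 2) nN
  exact hM.max _ (isPGroup_pCoreOf N) ne (le_sup_right.trans nB) ▸ le_sup_left.trans nB

theorem quo {G : Type u} [Group G] [Finite G] {S H W : Subgroup G} (h : S3T S H W) :
    Nonempty (H ⧸ pCore 2 H ≃* Equiv.Perm (Fin 3)) := by
  obtain ⟨f, hf, k⟩ := h.iso
  rw [← h.core_eq, pCoreOf_subgroupOf] at k
  exact ⟨(QuotientGroup.quotientMulEquivOfEq k.symm).trans
    (QuotientGroup.quotientKerEquivOfSurjective f hf)⟩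

theorem jobGOLD : JobGOLD.{u} := by
  intro G _ _ S H W P D hc h1 h2 ne
  have e : H ⊓ P = S := (h1.ovr (le_inf h1.le2 h2.le2) inf_le_left).resolve_right fun e =>
    (h2.ovr h1.le2 (inf_eq_left.1 e)).elim (fun k => h1.nn (k.le.trans le_normalizer)) ne
  by_contra! k
  have := Cfsg.Agent.S2751.result H P (e ▸ h1.syl.exists_sylow) (e ▸ h2.syl.exists_sylow) (quo h1)
    (quo h2) fun N hN n1 n2 => by_contra fun r => k N (e ▸ hN) r
      ((normal_subgroupOf_iff_le_normalizer (hN.trans inf_le_left)).1 n1)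
      ((normal_subgroupOf_iff_le_normalizer (hN.trans inf_le_right)).1 n2)
  rw [e] at this
  omega

end H26.O8
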