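import Cfsg.Agent.H74.OCSpec
import Cfsg.Agent.H2.MinNormal
import Cfsg.Agent.S0144
import Cfsg.Agent.S0205
import Cfsg.Agent.H5.ThompsonFpf

/-! Tower OC, slot `RAD`: the solvable radical is a `2`-group. -/

set_option autoImplicit false
set_option linter.style.haveILetI false

namespace H26.OC

open Cfsg Subgroup H74.OC

universe u

theorem eq23 {n : ℕ} (h0 : n ≠ 0) (h : ∀ p, p.Prime → p ∣ n → p = 2 ∨ p = 3) :
    ∃ a b, n = 2 ^ a * 3 ^ b := by
  obtain ⟨a, m, h1, rfl⟩ := Nat.exists_eq_pow_mul_and_not_dvd h0 2 (by norm_num)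
  obtain ⟨b, k, h2, rfl⟩ := Nat.exists_eq_pow_mul_and_not_dvd (right_ne_zero_of_mul h0) 3 (by norm_num)
  refine ⟨a, b, ?_⟩
  rw [Nat.eq_one_iff_not_exists_prime_dvd.2 fun p hp (hd : p ∣ k) => ?_, mul_one]
  rcases h p hp ((hd.mul_left _).mul_left _) with rfl | rfl
  exacts [h1 (hd.mul_left _), h2 hd]

variable {G : Type u} [Group G] [Finite G]

/-- A nonsolvable group has an element of prime order at least `5`. -/
theorem big (h : ¬ Group.IsSolvable G) : ∃ x : G, (orderOf x).Prime ∧ 5 ≤ orderOf x := by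
  by_contra! k
  obtain ⟨a, b, e⟩ := eq23 (Nat.card_pos (α := G)).ne' fun p hp hd => by
    haveI := Fact.mk hp
    obtain ⟨x, rfl⟩ := exists_prime_orderOf_dvd_card' p hd
    have h1 := k x hp
    have h2 := hp.two_le
    have h3 : orderOf x ≠ 4 := fun e => by rw [e] at hp; norm_num at hp
    omega
  exact h (Cfsg.Agent.S0144.result 2 3 a b Nat.prime_two Nat.prime_three e)

theorem pr (h : Sp 8 G) {a b : G} (hc : Commute a b) {p r : ℕ} (hp : p.Prime) (hr : r.Prime)
    (h1 : p ∣ orderOf a) (h2 : r ∣ orderOf b) (hne : p ≠ r) : p * r ≤ 8 := by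
  have e1 := orderOf_pow_orderOf_div (orderOf_pos a).ne' h1
  have e2 := orderOf_pow_orderOf_div (orderOf_pos b).ne' h2
  have := h.mul_le (hc.pow_pow (orderOf a / p) (orderOf b / r)).eq
    (by rw [e1, e2]; exact (Nat.coprime_primes hp hr).2 hne)
  rwa [e1, e2] at this

omit [Finite G] in
theorem not_solv (N : Subgroup G) [N.Normal] (hN : Group.IsSolvable N) (h : ¬ Group.IsSolvable G) :
    ¬ Group.IsSolvable (G ⧸ N) := fun _ =>
  h (Group.isSolvable_of_ker_le_range N.subtype (QuotientGroup.mk' N) (by simp))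

theorem solv_of_p {p : ℕ} (hp : p.Prime) (h : IsPGroup p G) : Group.IsSolvable G := by
  haveI := Fact.mk hp
  haveI := h.isNilpotent
  infer_instance

theorem noF (hs : Sp 8 G) (hn : ¬ Group.IsSolvable G) {V : Subgroup G} [hV : V.Normal] {p : ℕ}
    (hp : p.Prime) (h5 : 5 ≤ p) (he : IsElementaryAbelian p V) (h0 : V ≠ ⊥) : False := by
  haveI := Fact.mk hp
  have ord : ∀ v ∈ V, v ≠ 1 → orderOf v = p := fun v hv h1 => orderOf_eq_prime (he.2 v hv) h1
  have key : ∀ v ∈ V, v ≠ 1 → ∀ c, Commute v c → ∀ r, r.Prime → r ∣ orderOf c → r = p :=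
    fun v hv h1 c hc r hr hd => by_contra fun k => by
      have := pr hs hc hp hr (ord v hv h1).symm.dvd hd (Ne.symm k)
      have := hr.two_le
      nlinarith
  obtain ⟨⟨v, hv⟩, h1⟩ := ne_bot_iff_exists_ne_one.1 h0
  replace h1 : v ≠ 1 := fun e => h1 (Subtype.ext e)
  have hC : IsPGroup p (centralizer (V : Set G)) := IsPGroup.iff_orderOf.2 fun c =>
    ⟨_, Nat.eq_prime_pow_of_unique_prime_dvd (orderOf_pos c).ne' fun hr hd =>
      key v hv h1 c (c.2 v hv) _ hr (by rwa [orderOf_coe])⟩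
  obtain ⟨x, x1, x2⟩ := big (not_solv _ (solv_of_p hp hC) hn)
  obtain ⟨z, hz⟩ := exists_prime_orderOf_dvd_card' (G := G) 2 (by
    rw [← even_iff_two_dvd, ← Nat.not_odd_iff_even]
    exact fun k => hn (Cfsg.Agent.S0205.result k))
  have z2 : z * z = 1 := by rw [← pow_two, ← hz, pow_orderOf_eq_one]
  have nz : ∀ w ∈ V, Commute w z → w = 1 := fun w hw hc => by_contra fun k => by
    have := key w hw k z hc 2 Nat.prime_two hz.symm.dvd
    omega
  have inv : ∀ w ∈ V, z * w * z⁻¹ = w⁻¹ := fun w hw => by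
    have m := hV.conj_mem w hw z
    have c : w * (z * w * z⁻¹) = z * w * z⁻¹ * w :=
      congrArg Subtype.val (he.1.is_comm.comm (⟨w, hw⟩ : V) ⟨_, m⟩)
    refine eq_inv_of_mul_eq_one_right (nz _ (mul_mem hw m) ?_)
    rw [Commute, SemiconjBy]
    conv_rhs => rw [c, ← mul_assoc, ← mul_assoc, ← mul_assoc, z2, one_mul,
      inv_eq_of_mul_eq_one_right z2]
    group
  obtain ⟨x, rfl⟩ := QuotientGroup.mk_surjective x
  have o2 : orderOf (z : G ⧸ centralizer (V : Set G)) = 2 := orderOf_eq_prime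
    (by rw [pow_two, ← QuotientGroup.mk_mul, z2, QuotientGroup.mk_one])
    fun k => h1 (nz v hv ((QuotientGroup.eq_one_iff z).1 k v hv))
  have := pr (hs.quot _) (a := (z : G ⧸ centralizer (V : Set G))) (b := x) (by
    rw [Commute, SemiconjBy, ← QuotientGroup.mk_mul, ← QuotientGroup.mk_mul, QuotientGroup.eq]
    intro w hw
    have e1 := inv _ (hV.conj_mem w hw x)
    have e2 := inv _ hw
    have e3 := inv _ (inv_mem (hV.conj_mem w hw x))
    calc w * ((z * x)⁻¹ * (x * z)) = x⁻¹ * z⁻¹ * (z * (x * w * x⁻¹) * z⁻¹) * x * z := by group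
      _ = x⁻¹ * z⁻¹ * x * z * (z⁻¹ * w⁻¹ * z) * (z⁻¹ * x⁻¹ * x * z) := by rw [e1]; group
      _ = _ := by rw [← e2]; group) Nat.prime_two x1 o2.symm.dvd dvd_rfl (by omega)
  omega

/-- `A₄` cannot act faithfully in odd characteristic with a quadratic element of order `3`. -/
theorem a4 {V : Type*} [CommGroup V] (h2 : ∀ v : V, v * v = 1 → v = 1) {α β η : MulAut V}
    (h1 : α * α = 1) (hc : α * β = β * α) (h3 : η * α * η⁻¹ = β) (h4 : η * β * η⁻¹ = α * β)
    (h : ∀ v, v * η v * η (η v) = 1) : α = 1 := by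
  have aa : ∀ v, α (α v) = v := fun v => DFunLike.congr_fun h1 v
  have ab : ∀ v, α (β v) = β (α v) := fun v => DFunLike.congr_fun hc v
  have e3 : ∀ v, β (η v) = η (α v) := fun v => by simp [← h3]
  have e4 : ∀ v, α (β (η v)) = η (β v) := fun v => by
    rw [← MulAut.mul_apply, ← h4]; simp
  have bb : ∀ v, β (β v) = v := fun v => by
    obtain ⟨v, rfl⟩ := η.surjective v
    rw [e3, e3, aa]
  have k1 : ∀ w, α w = w⁻¹ → β w = w → w = 1 := fun w a b => by
    have r1 : β (η w) = (η w)⁻¹ := by rw [e3, a, map_inv]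
    have r2 : α (η w) = (η w)⁻¹ := by rw [← inv_inj, ← map_inv, ← r1, e4, b, r1, inv_inv]
    have r3 := congrArg β (h w)
    rw [map_mul, map_mul, b, r1, e3, r2, map_inv, map_one] at r3
    refine h2 w ?_
    calc w * w = w * η w * η (η w) * (w * (η w)⁻¹ * (η (η w))⁻¹) := by
          rw [mul_mul_mul_comm, mul_mul_mul_comm w]; simp
      _ = 1 := by rw [h, r3, one_mul]
  have k2 : ∀ w, α w = w⁻¹ → β w = w⁻¹ → w = 1 := fun w a b => by
    have r1 : β (η w) = (η w)⁻¹ := by rw [e3, a, map_inv]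
    have r2 : α (η w) = η w := by rw [← inv_inj, ← map_inv, ← r1, e4, b, map_inv, r1]
    have r3 := congrArg β (h w)
    rw [map_mul, map_mul, b, r1, e3, r2, map_one] at r3
    have : η (η w) = 1 := h2 _ (by
      calc _ = w * η w * η (η w) * (w⁻¹ * (η w)⁻¹ * η (η w)) := by
            rw [mul_mul_mul_comm, mul_mul_mul_comm w]; simp
        _ = 1 := by rw [h, r3, one_mul])
    simpa using this
  ext v
  have a : α (v * (α v)⁻¹) = (v * (α v)⁻¹)⁻¹ := by simp [aa, mul_comm]
  generalize hu : v * (α v)⁻¹ = u at a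
  have r1 := k1 (u * β u) (by rw [map_mul, ab, a, map_inv, mul_inv]) (by rw [map_mul, bb, mul_comm])
  have r2 := k2 (u * (β u)⁻¹) (by rw [map_mul, map_inv, ab, a, map_inv, mul_inv])
    (by simp [bb, mul_comm])
  rw [← mul_inv_eq_one.1 r2] at r1
  rw [h2 u r1, mul_inv_eq_one] at hu
  exact hu.symm

theorem noT (hs : Sp 8 G) {V : Subgroup G} [hV : V.Normal] (he : IsElementaryAbelian 3 V)
    (hC : centralizer (V : Set G) ≤ V) {N : Subgroup (G ⧸ V)} (hN : HasA4 N) : False := by
  obtain ⟨a, b, y, h0, h1, h2, h3, h4, h5⟩ := hN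
  letI : CommGroup V := { (inferInstance : Group V) with mul_comm := he.1.is_comm.comm }
  let ρ : G ⧸ V →* MulAut V := QuotientGroup.lift V MulAut.conjNormal fun g hg => by
    ext v
    have : g * v = v * g := congrArg Subtype.val (mul_comm (⟨g, hg⟩ : V) v)
    simp [this]
  let φ := ρ.comp N.subtype
  obtain ⟨A, hA⟩ := QuotientGroup.mk_surjective a.1
  obtain ⟨Y, hY⟩ := QuotientGroup.mk_surjective y.1
  have cube : ∀ g : G, (g : G ⧸ V) = y → g ^ 3 = 1 := fun g hg => by
    have e1 : g ^ 3 ∈ V := by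
      rw [← QuotientGroup.eq_one_iff, QuotientGroup.mk_pow, hg, ← coe_pow, h3, coe_one]
    have e2 : orderOf g ∣ 3 ^ 2 := orderOf_dvd_of_pow_eq_one (by rw [pow_two, pow_mul, he.2 _ e1])
    obtain ⟨i, hi, e⟩ := (Nat.dvd_prime_pow Nat.prime_three).1 e2
    have := hs g
    refine orderOf_dvd_iff_pow_eq_one.1 ?_
    rw [e] at this ⊢
    interval_cases i <;> simp_all
  have := a4 (α := φ a) (β := φ b) (η := φ y) (fun v hv => by
      have : v ^ 3 = 1 := Subtype.ext (he.2 _ v.2)
      rwa [pow_succ, pow_two, hv, one_mul] at this)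
    (by rw [← map_mul, h1, map_one]) (by rw [← map_mul, h2, map_mul])
    (by rw [← map_inv, ← map_mul, ← map_mul, h4]) (by rw [← map_inv, ← map_mul, ← map_mul, h5, map_mul])
    fun v => by
      have e : φ y = MulAut.conjNormal Y := congrArg ρ hY.symm
      have e1 := cube (v * Y) (by
        rw [QuotientGroup.mk_mul, (QuotientGroup.eq_one_iff _).2 v.2, one_mul, hY])
      ext
      simp only [e, coe_mul, MulAut.conjNormal_apply, coe_one]
      rw [← e1, ← mul_one (_ * _ * _), ← cube Y hY, pow_three, pow_three]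
      group
  refine h0 (Subtype.ext (hA ▸ (QuotientGroup.eq_one_iff A).2 (hC fun v hv => ?_)))
  exact (mul_inv_eq_iff_eq_mul.1 (congrArg Subtype.val
    (DFunLike.congr_fun ((congrArg ρ hA).trans this) ⟨v, hv⟩))).symm

theorem main (hA : JobALM.{u}) {n M : ℕ} (hn : n ≤ 8)
    (hL : ∀ (L : Type u) [Group L] [Finite L] [IsSimpleGroup L], ¬ IsMulCommutative L → Sp n L →
      Nat.card L ≤ M → HasA4 L) (k : ℕ) : ∀ (H : Type u) [Group H] [Finite H], Nat.card H = k →
      k ≤ M → Sp n H → ¬ Group.IsSolvable H → ∀ R : Subgroup H, R.Normal → Group.IsSolvable R →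
      IsPGroup 2 R := by
  induction k using Nat.strong_induction_on with | _ k ih => ?_
  intro H _ _ hk hM hs hH R hR sR
  have s8 := hs.mono hn
  have lt : ∀ (W : Subgroup H) [W.Normal], W ≠ ⊥ → Nat.card (H ⧸ W) < k := fun W _ h0 => by
    rw [← hk, card_eq_card_quotient_mul_card_subgroup W]
    exact lt_mul_of_one_lt_right Nat.card_pos ((one_lt_card_iff_ne_bot W).2 h0)
  have key : ∀ (W : Subgroup H) [W.Normal], W ≠ ⊥ → Group.IsSolvable W → ∀ N : Subgroup (H ⧸ W),
      N.Normal → Group.IsSolvable N → IsPGroup 2 N := fun W _ h0 sW =>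
    ih _ (lt W h0) _ rfl ((lt W h0).le.trans hM) (hs.quot W) (not_solv W sW hH)
  have sm : ∀ (W S : Subgroup H) [W.Normal], Group.IsSolvable S →
      Group.IsSolvable (S.map (QuotientGroup.mk' W)) := fun W S _ _ =>
    Group.isSolvable_of_surjective (MonoidHom.subgroupMap_surjective _ S)
  by_cases hW : ∃ W : Subgroup H, W.Normal ∧ IsPGroup 2 W ∧ W ≠ ⊥
  · obtain ⟨W, _, h2, h0⟩ := hW
    exact ((key W h0 (solv_of_p Nat.prime_two h2) _ (hR.map _ (QuotientGroup.mk'_surjective W))
      (sm W R sR)).comap_of_ker_isPGroup _ (by rwa [QuotientGroup.ker_mk'])).to_le (le_comap_map _ _)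
  by_cases h0 : R = ⊥
  · exact h0 ▸ IsPGroup.of_bot
  exfalso
  obtain ⟨p, V, hp, hV, -, h0, he, hP, -⟩ := H2.exists_elementaryAbelian_normal_le R h0
  by_cases h5 : 5 ≤ p
  · exact noF s8 hH hp h5 he h0
  obtain rfl : p = 3 := by
    have h2 : p ≠ 2 := fun e => hW ⟨V, hV, e ▸ hP, h0⟩
    have h4 : p ≠ 4 := fun e => by rw [e] at hp; norm_num at hp
    have := hp.two_le
    omega
  have sV := solv_of_p hp hP
  obtain ⟨s, s1, s2⟩ := big hH
  have nr : NoRad (H ⧸ V) := fun N hN sN => by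
    have h2 := key V h0 sV N hN sN
    set S := N.comap (QuotientGroup.mk' V) with hS
    haveI : S.Normal := hN.comap _
    haveI : Group.IsNilpotent S := H5.isNilpotent_of_fpf_aut (MulAut.conjNormal s) s1
      (by rw [← map_pow, pow_orderOf_eq_one, map_one]) fun g hg => by_contra fun k => by
        obtain ⟨r, hr, hd⟩ := Nat.exists_prime_and_dvd (n := orderOf g.1) (by simpa using k)
        obtain ⟨j, hj⟩ := h2 ⟨_, g.2⟩
        have e1 : g.1 ^ 2 ^ j ∈ V := (QuotientGroup.eq_one_iff _).1 (congrArg Subtype.val hj)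
        have e2 := hd.trans (orderOf_dvd_of_pow_eq_one ((pow_mul _ _ _).trans (he.2 _ e1)))
        have e3 : r ≤ 3 := ((Nat.Prime.dvd_mul hr).1 e2).elim
          (fun e => (Nat.le_of_dvd two_pos (hr.dvd_of_dvd_pow e)).trans (by norm_num))
          (Nat.le_of_dvd three_pos)
        have := pr s8 (mul_inv_eq_iff_eq_mul.1 (congrArg Subtype.val hg) : Commute s g) s1 hr dvd_rfl hd
          (by omega)
        have := hr.two_le
        nlinarith
    obtain ⟨P⟩ : Nonempty (Sylow 2 S) := inferInstance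
    haveI := P.characteristic_of_normal inferInstance
    have hP : (P : Subgroup S).map S.subtype = ⊥ := by_contra fun k =>
      hW ⟨_, ConjAct.normal_of_characteristic_of_normal, P.2.map _, k⟩
    rw [map_eq_bot_iff_of_injective _ S.subtype_injective] at hP
    obtain ⟨j, hj⟩ := IsPGroup.iff_card.1 h2
    by_contra k
    have e1 : 2 ∣ Nat.card N := by
      rw [hj]; refine dvd_pow_self 2 fun e => k ?_
      rwa [e, pow_zero, card_eq_one] at hj
    have e2 : Nat.card N ∣ Nat.card S := by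
      rw [← map_comap_eq_self_of_surjective (QuotientGroup.mk'_surjective V) N]
      exact card_dvd_of_surjective _ (MonoidHom.subgroupMap_surjective _ S)
    simpa [hP] using P.dvd_card_of_dvd_card (e1.trans e2)
  obtain ⟨⟨v, hv⟩, h1⟩ := ne_bot_iff_exists_ne_one.1 h0
  have hC : centralizer (V : Set H) ≤ V := by
    have := nr _ (Normal.map inferInstance _ (QuotientGroup.mk'_surjective V))
      (sm V (centralizer (V : Set H)) (by_contra fun k => by
        obtain ⟨c, c1, c2⟩ := big k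
        haveI := Fact.mk hp
        have := pr s8 (c.2 v hv : Commute v c) hp c1
          (orderOf_eq_prime (he.2 v hv) fun e => h1 (Subtype.ext e)).symm.dvd (orderOf_coe c).symm.dvd
          (by omega)
        omega))
    rwa [Subgroup.map_eq_bot_iff, QuotientGroup.ker_mk'] at this
  haveI : Nontrivial (H ⧸ V) := not_subsingleton_iff_nontrivial.1 fun _ =>
    not_solv V sV hH inferInstance
  obtain ⟨N, -, _, h3, -⟩ := hA (H ⧸ V) (s8.quot V) nr
  exact noT s8 he hC (hL N h3 ((hs.quot V).sub N)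
    ((card_le_card_group N).trans ((lt V h0).le.trans hM)))

theorem jobRAD : JobRAD.{u} := by
  intro hA n hn H _ _ hs hH hL Q _ hQ hm N hN sN
  have := hm _ (hN.comap (QuotientGroup.mk' Q)) (main hA hn hL _ H rfl le_rfl hs hH _ (hN.comap _) (by
    haveI := solv_of_p Nat.prime_two hQ
    refine Group.isSolvable_of_ker_le_range (inclusion (H := Q) (K := N.comap (QuotientGroup.mk' Q))
      fun g hg => ?_) ((QuotientGroup.mk' Q).subgroupComap N) fun g hg => ?_
    · simp [(QuotientGroup.eq_one_iff g).2 hg]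
    · exact ⟨⟨g, (QuotientGroup.eq_one_iff _).1 (congrArg Subtype.val hg)⟩, rfl⟩))
  rw [← map_comap_eq_self_of_surjective (QuotientGroup.mk'_surjective Q) N,
    Subgroup.map_eq_bot_iff,
    QuotientGroup.ker_mk']
  exact this

end H26.OC
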