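import Cfsg.Agent.H66.RITSpec
import Cfsg.Agent.H70.RI4

/-! RIT (row S5056): `JobNP`, a bad pair excludes polar pairs. -/

set_option autoImplicit false
set_option linter.unusedSectionVars false

namespace H26.RITNP

open Cfsg H70 H66.RST H66.RIT

universe u

variable {G : Type u} [Group G] [Finite G] {D : Set G} {a b c e k u w z : G}

/-- `e ∈ X_c` -/
structure X (D : Set G) (c e : G) : Prop where
  mem : e ∈ D
  com : Commute c e
  mul : c * e ∈ D

/-- opposite `b` and not good -/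
def Bad (D : Set G) (b k : G) : Prop := IOpp k b ∧ ¬ Good D k b

/-- a polar pair -/
structure Pol (D : Set G) (c w : G) : Prop where
  hc : c ∈ D
  hw : w ∈ D
  ne : w ≠ c
  com : Commute c w
  nm : c * w ∉ D

theorem X.symm (h : X D c e) (hc : c ∈ D) : X D e c := ⟨hc, h.com.symm, h.com.eq ▸ h.mul⟩

theorem Pol.symm (h : Pol D c w) : Pol D w c :=
  ⟨h.hw, h.hc, h.ne.symm, h.com.symm, h.com.eq ▸ h.nm⟩

theorem self_E (hc : c ∈ D) : c ∈ EC D c := mem_E.2 ⟨hc, fun _ _ => Iff.rfl⟩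

theorem s4 {s t r : G} (hs : s * s = 1) (ht : t * t = 1) (hr : r * r = 1) (c : Commute s t)
    (h1 : orderOf (s * r) = 3) (h2 : orderOf (t * r) = 3) :
    s * t * r * (s * t) * r * (s * t * r * (s * t) * r) = 1 := by
  have b1 := braid hs hr h1
  have b2 := braid ht hr h2
  have e1 : s * t * r * (s * t) = s * r * t * r * s := by
    calc s * t * r * (s * t) = s * t * r * (t * s) := by rw [← c.eq]
      _ = s * (t * r * t) * s := by simp only [mul_assoc]
      _ = s * r * t * r * s := by rw [← b2]; simp only [mul_assoc]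
  have e2 : r * (s * r * t * r * s) = s * r * t * r * s * r := by
    calc r * (s * r * t * r * s) = (r * s * r) * t * r * s := by simp only [mul_assoc]
      _ = s * r * (s * t) * r * s := by rw [b1]; simp only [mul_assoc]
      _ = s * r * t * (s * r * s) := by rw [c.eq]; simp only [mul_assoc]
      _ = s * r * t * r * s * r := by rw [← b1]; simp only [mul_assoc]
  have e3 : s * t * r * (s * t) * (s * t * r * (s * t)) = 1 := by
    have e4 : s * t * (s * t) = 1 := sq_mul_of_commute hs ht c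
    calc s * t * r * (s * t) * (s * t * r * (s * t)) = s * t * r * (s * t * (s * t)) * r * (s * t) := by
          simp only [mul_assoc]
      _ = 1 := by rw [e4, mul_one, mul_assoc (s * t), hr, mul_one, e4]
  calc s * t * r * (s * t) * r * (s * t * r * (s * t) * r)
      = s * t * r * (s * t) * (r * (s * t * r * (s * t))) * r := by simp only [mul_assoc]
    _ = s * t * r * (s * t) * (s * t * r * (s * t)) * (r * r) := by
        rw [e1, e2]; simp only [mul_assoc]
    _ = 1 := by rw [e3, hr, mul_one]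

section
variable (h : HE D)
include h

theorem X.W (x : X D c e) (hc : c ∈ D) : e ∈ W D c := col_W h.ri hc x.mem x.com x.mul

theorem X.nc (x : X D c e) (hc : c ∈ D) (hb : b ∈ D) (o : IOpp c b) : ¬ Commute b e :=
  ri_not_commute_of_opp h.ri x.mem hc (x.com.eq ▸ x.mul) x.com.symm hb o.symm

theorem X.no (x : X D c e) (hc : c ∈ D) (hb : b ∈ D) (o : Commute c b) : ¬ IOpp b e :=
  not_opp h.ri hc x.mem x.mul x.com hb o

theorem xe (hz : z ∈ D) (x : X D z a) {a' : G} (m : a' ∈ EC D a) : a' = z ∨ X D z a' := by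
  obtain ⟨m1, m2⟩ := mem_E.1 m
  have c : Commute z a' := ((m2 z hz).1 x.com.symm).symm
  have w : a' ∈ W D z := ⟨m1, c, fun y hy cy o => (x.W h hz).2.2 y hy cy
    (opp_of_comm_subset h.ri m1 x.mem (fun v hv => (m2 v hv).1) hy o)⟩
  exact (h.col_of_W hz w).imp id fun k => ⟨m1, c, k⟩

theorem four_l (ha : a ∈ D) (he : e ∈ D) (f : Four a e) : X D a (a * e * a * e) :=
  ⟨ri_four_mem h.ri ha he f, f.comm_left (ri_sq h.ri ha) (ri_sq h.ri he), ri_four_mul h.ri ha he⟩

theorem four_r (ha : a ∈ D) (he : e ∈ D) (f : Four a e) : X D e (a * e * a * e) :=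
  f.swap (ri_sq h.ri ha) (ri_sq h.ri he) ▸ four_l h he ha f.symm

theorem bad_opp (hb : b ∈ D) (hk : k ∈ D) (B : Bad D b k) (x : X D k e) : IOpp e b := by
  rcases ri_tri h.ri x.mem hb with m | m | m
  · exact (x.nc h hk hb B.1 m.symm).elim
  · exact m
  · exact (B.2 ⟨e, x.mem, x.com, x.mul, m⟩).elim

theorem off (hb : b ∈ D) (hk : k ∈ D) (B : Bad D b k) (he : e ∈ D) (f : Four e b) :
    ¬ Commute k e := fun c => by
  have f1 := four_l h he hb f
  have f2 := four_r h he hb f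
  have f3 : Four k (e * b * e * b) :=
    ri_four_of h.ri hk f1.mem (f2.nc h hb hk B.1.symm) (f1.no h he hk c.symm)
  exact (four_r h hk f1.mem f3).no h f1.mem hb f2.com.symm
    (bad_opp h hb hk B (four_l h hk f1.mem f3)).symm

theorem lemL (P : JobPart.{u}) (hb : b ∈ D) (hc : c ∈ D) (o : IOpp c b) (g : Good D c b)
    (x : X D c k) (hE : k ∉ EC D c) (B : ¬ Bad D b k) :
    ∃ e ∈ D, Four e b ∧ ∀ y ∈ D, Commute k y → Commute c y → Commute e y := by
  by_cases o' : IOpp k b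
  swap
  · exact ⟨k, x.mem, ri_four_of h.ri x.mem hb (fun m => x.nc h hc hb o m.symm) o',
      fun _ _ m _ => m⟩
  have g' : Good D k b := by_contra fun m => B ⟨o', m⟩
  obtain ⟨k', k1, k2⟩ := P G D h.toRIC k x.mem b hb o' g'
  obtain ⟨c', c1, c2⟩ := P G D h.toRIC c hc b hb o g
  have k3 := mem_E.1 k1
  have c3 := mem_E.1 c1
  have hk : k ∈ EC D k' := (E_of_E k1).ge (self_E x.mem)
  have x1 : X D c k' := (xe h hc x k1).resolve_left fun m => hE (m ▸ hk)
  have x2 : X D k' c' := (xe h k3.1 (x1.symm hc) c1).resolve_left fun m =>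
    hE ((E_of_E c1).le (m ▸ hk))
  have sk := ri_sq h.ri k3.1
  have sc := ri_sq h.ri c3.1
  have sb := ri_sq h.ri hb
  have oc : IOpp c' b := ⟨fun m => by rw [m, sb, orderOf_one] at c2; omega, by rw [c2]; decide⟩
  have x3 : X D c' (k' * c') := ⟨x2.mul, x2.com.symm.mul_right (Commute.refl _), by
    rw [x2.com.eq, sqc sc]; exact k3.1⟩
  refine ⟨k' * c', x2.mul, four_of_pow (ri_sq h.ri x2.mul) sb
    (fun m => x3.nc h c3.1 hb oc m.symm) (s4 sk sc sb x2.com k2 c2), fun y hy m1 m2 => ?_⟩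
  exact ((k3.2 y hy).1 m1).mul_left ((c3.2 y hy).1 m2)

theorem Pol.nW (p : Pol D c w) : w ∉ W D c := fun m => (h.col_of_W p.hc m).elim p.ne p.nm

theorem Pol.star (p : Pol D c w) {c' : G} (m : c' ∈ EC D c) : c' ∉ Subgroup.closure (W D w) :=
  fun m1 => by
  have m2 := (mem_E.1 m).1
  have m3 := W_of_N h.ri p.hw m2 m1
  rcases h.col_of_W p.hw m3 with m4 | m4
  · exact p.nW h (m4 ▸ E_W h.ri p.hc m)
  · exact p.nW h (W_of_E m ▸ ((⟨m2, m3.2.1, m4⟩ : X D w c').symm p.hw).W h m2)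

theorem Pol.lemC (p : Pol D c w) (x : X D c u) (m : ¬ Commute w u) :
    ∃ κ, X D c κ ∧ X D w κ ∧ Commute u κ := by
  have f : Four w u := ri_four_of h.ri p.hw x.mem m (x.no h p.hc p.hw p.com)
  have f1 := four_l h p.hw x.mem f
  have w1 := W_conj' h.ri (x.W h p.hc) p.com.symm
  rw [ri_inv h.ri p.hw] at w1
  have w2 : w * u * w * u ∈ W D c := W_of_N h.ri p.hc f1.mem
    (mul_mem (Subgroup.subset_closure w1) (Subgroup.subset_closure (x.W h p.hc)))
  refine ⟨_, ⟨f1.mem, w2.2.1, (h.col_of_W p.hc w2).resolve_left fun k => p.symm.nm ?_⟩, f1,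
    (four_r h p.hw x.mem f).com⟩
  have := f1.mul
  rwa [k] at this

theorem Pol.lemT (p : Pol D c w) (x : X D c u) (k1 : X D c k) (k2 : X D w k)
    (m : ¬ Commute u k) : ¬ Commute w u := fun m1 => by
  have f : Four u k := ri_four_of h.ri x.mem k1.mem m ((x.W h p.hc).2.2 k k1.mem k1.com)
  have w1 := W_conj' h.ri (k2.W h p.hw) m1.symm
  rw [ri_inv h.ri x.mem] at w1
  exact p.star h (h.tee p.hc x.mem x.com x.mul (k1.W h p.hc) f)
    (mul_mem (Subgroup.subset_closure w1) (Subgroup.subset_closure (k2.W h p.hw)))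

theorem Pol.exK (p : Pol D c w) (N : NDC D) (Z : Subgroup.center G = ⊥) :
    ∃ k, X D c k ∧ X D w k := by
  obtain ⟨y, hy, y1, y2⟩ : ∃ y ∈ D, Commute c y ∧ IOpp w y := by
    by_contra m
    exact p.nW h ⟨p.hw, p.com, fun y hy y1 y2 => m ⟨y, hy, y1, y2⟩⟩
  obtain ⟨u, x, m⟩ : ∃ u, X D w u ∧ ¬ Commute c u := by
    by_contra m
    have m1 : Subgroup.centralizer {c} = ⊤ := N.generation N.prod_connected p.hw hy y2
      (fun v hv v1 v2 => Subgroup.mem_centralizer_singleton_iff.2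
        (Commute.eq (by_contra fun m2 => m ⟨v, ⟨hv, v1, v2⟩, fun m3 => m2 m3.symm⟩)))
      (Subgroup.mem_centralizer_singleton_iff.2 y1.symm.eq)
    have m2 : c ∈ Subgroup.center G := Subgroup.mem_center_iff.2 fun g =>
      Subgroup.mem_centralizer_singleton_iff.1 (m1 ▸ Subgroup.mem_top g)
    rw [Z] at m2
    exact ri_ne_one h.ri p.hc (Subgroup.mem_bot.1 m2)
  obtain ⟨κ, k1, k2, -⟩ := p.symm.lemC h x m
  exact ⟨κ, k2, k1⟩

theorem Pol.false (p : Pol D c w) (P : JobPart.{u}) (N : NDC D) (Z : Subgroup.center G = ⊥)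
    (hb : b ∈ D) (o : IOpp c b) (g : Good D c b) (x : X D c a) (B : Bad D b a) : False := by
  have nE : ∀ k, X D w k → k ∉ EC D c := fun k k2 m =>
    p.star h m (Subgroup.subset_closure (k2.W h p.hw))
  have allbad : ∀ k, X D c k → X D w k → Bad D b k := fun k k1 k2 => by
    by_contra m
    obtain ⟨e, he, f, m1⟩ := lemL h P hb p.hc o g k1 (nE k k2) m
    have m2 : ¬ Commute a k := fun m2 =>
      off h hb x.mem B he f (m1 a x.mem m2.symm x.com).symm
    obtain ⟨κ, l1, l2, l3⟩ := p.lemC h x (p.lemT h x k1 k2 m2)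
    have m3 : Bad D b κ := by
      by_contra m3
      obtain ⟨e', he', f', m4⟩ := lemL h P hb p.hc o g l1 (nE κ l2) m3
      exact off h hb x.mem B he' f' (m4 a x.mem l3.symm x.com).symm
    have m5 : Commute κ k := by_contra fun m5 => p.lemT h l1 k1 k2 m5 l2.com
    exact off h hb l1.mem m3 he f (m1 κ l1.mem m5.symm l1.com).symm
  obtain ⟨k, k1, k2⟩ := p.exK h N Z
  obtain ⟨e, he, e1, e2, f⟩ := g
  have xe : X D c e := ⟨he, e1, e2⟩
  obtain ⟨κ, l1, l2, l3⟩ := p.lemC h xe (p.lemT h xe k1 k2 fun m =>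
    off h hb k1.mem (allbad k k1 k2) he f m.symm)
  exact off h hb l1.mem (allbad κ l1 l2) he f l3.symm

end

theorem exists_edge {B : G → Prop} (hp : Relation.ReflTransGen (ProdAdj D) a b) (h1 : B a)
    (h2 : ¬ B b) : ∃ a c, ProdAdj D a c ∧ B a ∧ ¬ B c := by
  induction hp with
  | refl => exact (h2 h1).elim
  | @tail x y _ e ih =>
    by_cases m : B x
    · exact ⟨x, y, e, m, h2⟩
    · exact ih m

theorem jobNP : JobNP.{u} := by
  intro P G _ _ D h N Z ⟨a0, ha0, b, hb, o0, g0⟩ x hx y hy ne co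
  obtain ⟨a, c, ⟨ha, hc, -, e1, e2⟩, B, B'⟩ := exists_edge (B := Bad D b)
    (N.prod_connected a0 ha0 b hb) ⟨o0, g0⟩ fun m => m.1.1 rfl
  have xa : X D a c := ⟨hc, e1, e2⟩
  have o : IOpp c b := bad_opp h hb ha B xa
  have g : Good D c b := by_contra fun m => B' ⟨o, m⟩
  obtain ⟨γ, rfl⟩ := h.cl x hx c hc
  by_contra m
  refine Pol.false h (w := γ * y * γ⁻¹) ⟨hc, ri_conj h.ri hy γ, fun k => ne (by simpa using k.symm),
    ?_, fun k => m ?_⟩ P N Z hb o g (xa.symm ha) B
  · change _ = _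
    simp only [conj_mul, co]
  · simpa [mul_assoc] using ri_conj h.ri k γ⁻¹

end H26.RITNP
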