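import Cfsg.Agent.H86.SPODef

/-! STD-SP endgame (row S3129), orthogonal model, slot `OC`: the subgroups `R₁ ≤ R₀ ≤ R`. -/

set_option autoImplicit false
set_option linter.unusedSectionVars false

namespace H26.SPOC

open H64.SG (Cz Ns cjs mem_Cz)
open H64.YE (OC Co LS)
open H67.UA (XU)
open H67.SA (St mem_St_of_finite mem_cjs mem_cI)
open H59.SO
open H86.SPO
open H56 H58 QuadraticMap Module Subgroup

variable {F V : Type} [Field F] [CharP F 2] [Finite F] [AddCommGroup V] [Module F V]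
  {Q : QuadraticForm F V}

theorem memR0 {e x a : V} (h1 : polar Q e x = 0) (h2 : polar Q a x = 0) : E Q e x ∈ R0 Q e a :=
  subset_closure ⟨x, h1, h2, rfl⟩

theorem mem_R0 {e a : V} (he : Q e = 0) {g : Om Q} :
    g ∈ R0 Q e a ↔ ∃ x, polar Q e x = 0 ∧ polar Q a x = 0 ∧ g = E Q e x := by
  refine ⟨fun h => ?_, fun h => subset_closure h⟩
  induction h using closure_induction with
  | mem _ h => exact h
  | one => exact ⟨0, by simp, by simp, by simp⟩
  | mul _ _ _ _ h1 h2 =>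
    obtain ⟨x, x1, x2, rfl⟩ := h1
    obtain ⟨y, y1, y2, rfl⟩ := h2
    exact ⟨x + y, by simp [x1, y1], by simp [x2, y2], (E_add he x1 y1).symm⟩
  | inv _ _ h => rwa [h.choose_spec.2.2, E_inv, ← h.choose_spec.2.2]

theorem cjs_R0 (g : Om Q) {e a : V} (he : Q e = 0) :
    cjs g (R0 Q e a) = R0 Q (g.1 e) (g.1 a) := by
  ext y
  rw [mem_R0 (by rw [O.map_Q, he])]
  constructor
  · rintro ⟨z, hz, rfl⟩
    obtain ⟨x, x1, x2, rfl⟩ := (mem_R0 he).1 hz
    exact ⟨g.1 x, by rw [O.map_polar, x1], by rw [O.map_polar, x2], E_conj g e x⟩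
  · rintro ⟨x, x1, x2, rfl⟩
    obtain ⟨x, rfl⟩ : ∃ z, x = g.1 z := ⟨g.1⁻¹ x, by simp⟩
    rw [O.map_polar] at x1 x2
    exact ⟨_, memR0 x1 x2, E_conj g e x⟩

variable {n : ℕ} [StarRing F] [TrivialStar F] [FiniteDimensional F V] {ι : XU n F →* Om Q}
  {r : Fr Q} {w : V} (d : Dc ι r w)

local notation "e0" => Fr.e r 0
local notation "w'" => (w + Fr.e r 1)

include d

theorem pe (i : Fin 3) : polar Q (r.e i) w' = 0 := by rw [polar_add_right, d.we, r.ee, add_zero]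
theorem pe' (i : Fin 3) : polar Q w' (r.e i) = 0 := by rw [polar_comm, pe d]
theorem pf (i : Fin 3) : polar Q (r.f i) w' = if i = 1 then 1 else 0 := by
  rw [polar_add_right, d.wf, r.fe, zero_add]
theorem pw : polar Q w w' = 0 := by
  rw [polar_add_right, polar_self2, polar_comm, d.we, add_zero]
theorem qw : Q w' = 1 := by
  rw [H56.Q_add, d.qw, r.qe, polar_comm, d.we]; simp

theorem cR0 : cc r w ∈ R0 Q e0 w' := memR0 (pe d 0) (polar_self2 _)

theorem li {x : V} (h : ¬ ∃ s t : F, x = s • w' + t • e0) : LinearIndependent F ![e0, w', x] := by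
  refine Fintype.linearIndependent_iff.2 fun g hg => ?_
  simp only [Fin.sum_univ_three, Matrix.cons_val_zero, Matrix.cons_val_one, Matrix.cons_val] at hg
  have h2 : g 2 = 0 := by
    by_contra k
    refine h ⟨-(g 2)⁻¹ * g 1, -(g 2)⁻¹ * g 0, ?_⟩
    rw [← one_smul F x, ← inv_mul_cancel₀ k, mul_smul, eq_neg_of_add_eq_zero_right hg]
    module
  have h1 : g 1 = 0 := by simpa [h2, r.fe, d.wf] using congrArg (polar Q (r.f 1)) hg
  have h0 : g 0 = 0 := by simpa [h1, h2, r.ne] using hg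
  intro i
  fin_cases i
  exacts [h0, h1, h2]

/-- An automorphism that fixes `c`. -/
theorem aut (k : KK r) {α : Au Q} (h : α (cc r w) = cc r w) : ∃ T : Gam Q, (T.c : F) = 1 ∧
    α = gam Q T ∧ T e0 = e0 ∧ ∀ a, polar Q e0 a = 0 →
      polar Q e0 (T a) = 0 ∧ polar Q w' (T a) = T.σ (polar Q w' a) ∧ α (E Q e0 a) = E Q e0 (T a) := by
  obtain ⟨T, h1, rfl⟩ := (d.fa.lin α _ _ (r.ne 0) (r.qe 0) (pe d 0) (by rw [qw d]; simp)
    ⟨_, _, h⟩).exists_one
  obtain ⟨h2, s, h3⟩ := k.cG T _ _ h1 (r.ne 0) (r.qe 0) (pe d 0) (qw d) h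
  refine ⟨T, h1, rfl, h2, fun a ha => ?_⟩
  have h4 : polar Q e0 (T a) = 0 := by rw [← h2, T.polar_apply_eq_zero, ha]
  refine ⟨h4, ?_, by rw [gam_E_one h1, h2]⟩
  have := T.map_polar w' a
  rwa [h3, h1, one_mul, polar_add_left, polar_smul_left, h4, smul_zero, add_zero] at this

theorem sig {T : Gam Q} (h : ∀ s : F, ∃ t : F, T (s • r.e 2) = s • r.e 2 + t • e0) (s : F) :
    T.σ s = s := by
  obtain ⟨t, h1⟩ := h 1
  obtain ⟨t', h2⟩ := h s
  rw [one_smul] at h1
  rw [T.map_smul, h1] at h2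
  simpa [r.fe] using congrArg (polar Q (r.f 2)) h2

theorem gr (k : KK r) (kd : KD ι r w) : R0 Q e0 w' ≤ H64.YE.EG ι LS (Cz (cc r w)) := by
  have m : ∀ a, E Q e0 a ∈ Cz (cc r w) := fun a => mem_Cz.2 (E_comm _ _ _)
  have b1 : ∀ s : F, E Q e0 (s • w') ∈ H64.YE.EG ι LS (Cz (cc r w)) := fun s => by
    rw [smul_add, E_add (r.qe 0) (by simp [d.we]) (by simp [r.ee])]
    refine mul_mem (kd.ee _ 1 (one_mem _) _ s (r.qe 0) (d.we 0) (m _)) ?_
    by_cases hs : s = 0
    · simp [hs]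
    · exact kd.er _ _ (m _) (r.z_root hs) (E_fix (d.we 0) (by simp [d.we]))
  have b2 : ∀ x, polar Q e0 x = 0 → polar Q w' x = 0 → (¬ ∃ s t : F, x = s • w' + t • e0) →
      Q x ≠ 0 → E Q e0 x ∈ H64.YE.EG ι LS (Cz (cc r w)) := fun x x1 x2 x3 x4 => by
    obtain ⟨s, s0, s1⟩ := k.nm x x4
    obtain ⟨z, z0, z1, z2, z3⟩ := k.p3 e0 w' (s • x)
    have l1 : ¬ ∃ s t : F, w = s • w' + t • e0 := by
      rintro ⟨a, b, e⟩
      have ha : a = 0 := by simpa [d.wf, pf d, r.fe, eq_comm] using congrArg (polar Q (r.f 1)) e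
      have := d.qw
      rw [e, ha, zero_smul, zero_add, H56.Q_smul, r.qe] at this
      simp at this
    have l2 : ¬ ∃ a t : F, s • x = a • w' + t • e0 := by
      rintro ⟨a, b, e⟩
      exact x3 ⟨s⁻¹ * a, s⁻¹ * b, by
        rw [mul_smul, mul_smul, ← smul_add, ← e, smul_smul, inv_mul_cancel₀ s0, one_smul]⟩
    have x1' : polar Q x e0 = 0 := by rw [polar_comm, x1]
    have x2' : polar Q x w' = 0 := by rw [polar_comm, x2]
    have w1 : polar Q w e0 = 0 := by rw [polar_comm, d.we]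
    have w2 : polar Q w' w = 0 := by rw [polar_comm, pw d]
    obtain ⟨g, hg⟩ := d.par.toPar0.witt (a := z) (li d l1) (li d l2)
      (fun i => by fin_cases i <;> simp [s1, d.qw])
      (fun i j hij => by
        fin_cases i <;> fin_cases j <;>
          simp only [Fin.zero_eta, Fin.mk_one, Fin.reduceFinMk, Matrix.cons_val_zero,
            Matrix.cons_val_one, Matrix.cons_val, polar_smul_left, polar_smul_right, x1, x2, x1',
            x2', w1, w2, d.we, pw d, smul_zero, polar_self2])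
      (by rw [z0]; simp) fun i => by
        fin_cases i <;> rw [polar_comm]
        exacts [z1, z2, z3]
    have g0 : g.1 e0 = e0 := hg 0
    have g1 : g.1 w' = w' := hg 1
    have g2 : g.1 w = s • x := hg 2
    have e : x = s⁻¹ • g.1 w := by rw [g2, smul_smul, inv_mul_cancel₀ s0, one_smul]
    rw [e]
    exact kd.ee _ g (mem_Cz.2 (comm_E g0 g1).symm) _ _ (r.qe 0) (by simp [g2, x1]) (m _)
  refine (closure_le _).2 ?_
  rintro _ ⟨x, x1, x2, rfl⟩
  by_cases x3 : ∃ s t : F, x = s • w' + t • e0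
  · obtain ⟨s, t, rfl⟩ := x3
    rw [E_add_smul_self t (r.qe 0) (by rw [polar_smul_right, pe d, smul_zero])]
    exact b1 s
  by_cases x4 : Q x = 0
  swap
  · exact b2 x x1 x2 x3 x4
  have e : x = x + w' + (1 : F) • w' := by rw [one_smul, add_assoc x, add_self2 F, add_zero]
  have y1 : polar Q e0 (x + w') = 0 := by rw [polar_add_right, x1, pe d, add_zero]
  rw [e, E_add (r.qe 0) y1 (by rw [one_smul, pe d])]
  refine mul_mem (b2 _ y1 (by rw [polar_add_right, x2, polar_self2, add_zero]) ?_ ?_) (b1 1)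
  · rintro ⟨a, b, h⟩
    exact x3 ⟨a + 1, b, by rw [e, h]; module⟩
  · rw [H56.Q_add, x4, qw d, polar_comm, x2]; simp

theorem co (k : KK r) : Co (R0 Q e0 w' ⊓ R0 Q e0 w) := fun α h ho => by
  obtain ⟨T, h1, h2, h3, h4⟩ := aut d k (h _ ⟨cR0 d, memR0 (pe d 0) (pw d)⟩)
  have f : ∀ y, polar Q e0 y = 0 → polar Q w' y = 0 → polar Q w y = 0 →
      ∃ t : F, T y = y + t • e0 := fun y y1 y2 y3 =>
    (E_inj d.par.nd (r.ne 0) (r.qe 0) (h4 y y1).1 y1).1
      ((h4 y y1).2.2.symm.trans (h _ ⟨memR0 y1 y2, memR0 y1 y3⟩))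
  have w1 : ∀ i, polar Q w (r.e i) = 0 := fun i => by rw [polar_comm, d.we]
  have hs := sig d fun s => f (s • r.e 2) (by simp [r.ee]) (by rw [polar_smul_right, pe' d, smul_zero])
    (by simp [w1])
  have h5 : ∀ u ∈ r.R, (α * α) u = u := fun u hu => by
    obtain ⟨a, ha, rfl⟩ := (mem_Ru (r.qe 0)).1 hu
    obtain ⟨a1, a2, a3⟩ := h4 a ha
    obtain ⟨t, ht⟩ := f w (d.we 0) (by rw [polar_comm, pw d]) (polar_self2 _)
    have a4 := T.map_polar w a
    rw [ht, h1, one_mul, hs, polar_add_left, polar_smul_left, a1, smul_zero, add_zero] at a4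
    obtain ⟨t', ht'⟩ := f (T a + a) (by rw [polar_add_right, a1, ha, add_zero])
      (by rw [polar_add_right, a2, hs, CharTwo.add_self_eq_zero])
      (by rw [polar_add_right, a4, CharTwo.add_self_eq_zero])
    rw [MulAut.mul_apply, a3, (h4 _ a1).2.2]
    refine (E_inj d.par.nd (r.ne 0) (r.qe 0) (h4 _ a1).1 ha).2 ⟨t', ?_⟩
    have : T (T a + a) = T (T a) + T a := map_add T.toEquiv _ _
    rw [this, add_assoc, add_comm (T a)] at ht'
    rw [add_comm, add_comm _ (T a)] at ht'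
    exact add_left_cancel ht'
  obtain ⟨ζ, z1, z2⟩ := mem_cI.1 (d.fb.ctR _ h5)
  have h6 : α ^ 4 = 1 := by
    rw [show α ^ 4 = α * α * (α * α) by simp [pow_succ, mul_assoc], z2, ← map_mul,
      d.fg.ab.2.2.1 ζ z1, map_one]
  exact orderOf_eq_one_iff.1 (Nat.Coprime.eq_one_of_dvd
    ((Nat.coprime_two_right.2 ho).pow_right 2) (orderOf_dvd_of_pow_eq_one h6))

theorem oc (k : KK r) (kd : KD ι r w) (ir : IR r w) :
    OC ι (ta Q w) LS (cc r w) r.R (R0 Q e0 w') (Xl Q e0 w') := by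
  refine ⟨Xl_le.2 fun c => memR0 (by rw [polar_smul_right, pe d, smul_zero])
    (by rw [polar_smul_right, polar_self2, smul_zero]), (closure_le _).2 ?_, fun h => ?_,
    fun h => ?_, ir, fun α h => ?_, fun α _ h x hx => ?_, gr d k kd, ?_⟩
  · rintro _ ⟨x, -, -, rfl⟩
    exact E_mem_Ru _ _
  · obtain ⟨s, hs⟩ := (mem_Xl (r.qe 0) (pe d 0)).1 (h (memR0 (r.ee 0 2) (pe' d 2)))
    obtain ⟨t, ht⟩ := (E_inj d.par.nd (r.ne 0) (r.qe 0) (r.ee 0 2)
      (by rw [polar_smul_right, pe d, smul_zero])).1 hs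
    simpa [r.fe, d.wf] using congrArg (polar Q (r.f 2)) ht
  · obtain ⟨x, x1, x2, hx⟩ := (mem_R0 (r.qe 0)).1 (h (E_mem_Ru _ (r.f 1)))
    obtain ⟨t, ht⟩ := (E_inj d.par.nd (r.ne 0) (r.qe 0) (by simp [r.ef]) x1).1 hx
    have := congrArg (polar Q w') ht
    rw [polar_add_right, x2, polar_smul_right, pe' d, polar_comm, pf d] at this
    simp at this
  · obtain ⟨T, -, -, -, h4⟩ := aut d k h
    refine mem_St_of_finite fun g hg => ?_
    obtain ⟨x, x1, x2, rfl⟩ := (mem_R0 (r.qe 0)).1 hg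
    obtain ⟨a1, a2, a3⟩ := h4 x x1
    rw [a3]
    exact memR0 a1 (by rw [a2, x2, map_zero])
  · obtain ⟨T, -, -, -, h4⟩ := aut d k (h _ (cR0 d))
    have hs := sig d (T := T) fun s => by
      have y1 : polar Q e0 (s • r.e 2) = 0 := by simp [r.ee]
      exact (E_inj d.par.nd (r.ne 0) (r.qe 0) (h4 _ y1).1 y1).1 ((h4 _ y1).2.2.symm.trans
        (h _ (memR0 y1 (by rw [polar_smul_right, pe' d, smul_zero]))))
    obtain ⟨a, ha, rfl⟩ := (mem_Ru (r.qe 0)).1 hx
    obtain ⟨a1, a2, a3⟩ := h4 a ha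
    rw [a3, E_inv, ← E_add (r.qe 0) a1 ha]
    exact memR0 (by rw [polar_add_right, a1, ha, add_zero])
      (by rw [polar_add_right, a2, hs, CharTwo.add_self_eq_zero])
  · obtain ⟨x, x1, x2⟩ := Fr.exists_polar d.par.toPar0 r (x := w) (fun i => ⟨d.we i, d.wf i⟩)
      (fun e => by simpa [e] using d.qw)
    have g0 : (E Q (r.e 1) x).1 e0 = e0 := E_fix (r.ee 1 0) (by rw [polar_comm, (x1 0).1])
    have g1 : (E Q (r.e 1) x).1 w' = w := by
      rw [E_apply_orth (r.qe 1) (x1 1).1 (pe d 1), polar_add_right, polar_comm, x2, polar_comm,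
        (x1 1).1, add_zero, one_smul, add_assoc, add_self2 F, add_zero]
    refine ⟨E Q (r.e 1) x, H48.SOI.Ru_nor (r.qe 0) g0, ?_⟩
    rw [cjs_R0 _ (r.qe 0), g0, g1]
    refine ⟨memR0 (pe d 0) (pw d), (Ru_le (r.qe 0)).2 fun a ha => ?_, co d k⟩
    have e : a = a + polar Q w' a • r.f 1 + polar Q w' a • r.f 1 := by
      rw [add_assoc, add_self2 F, add_zero]
    have a1 : polar Q e0 (polar Q w' a • r.f 1) = 0 := by simp [r.ef]
    have a2 : polar Q e0 (a + polar Q w' a • r.f 1) = 0 := by rw [polar_add_right, ha, a1, add_zero]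
    rw [e, E_add (r.qe 0) a2 a1]
    refine mul_mem (mem_sup_left (memR0 a2 ?_)) (mem_sup_right (memR0 a1 ?_))
    · rw [polar_add_right, polar_smul_right, polar_comm Q _ (r.f 1), pf d, if_pos rfl, smul_eq_mul,
        mul_one, CharTwo.add_self_eq_zero]
    · rw [polar_smul_right, polar_comm Q _ (r.f 1), d.wf, smul_zero]

omit d in
theorem jobOC : JobOC := fun _ _ _ _ _ _ _ _ _ _ _ _ _ _ _ _ _ _ _ d k kd ir => oc d k kd ir

end H26.SPOC
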