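import Cfsg.Agent.H2.MinNormal

/-!
Minimal supplements of a normal subgroup.
-/

set_option autoImplicit false

namespace H26

variable {G : Type*} [Group G]

/-- If no proper subgroup supplements the normal subgroup `K`, Sylow subgroups inside `K` are normal. -/
theorem sylow_normal_of_no_supplement [Finite G] {K : Subgroup G} [K.Normal]
    (h : ∀ L : Subgroup G, L ⊔ K = ⊤ → L = ⊤) {p : ℕ} [Fact p.Prime] (P : Sylow p K) :
    ((P : Subgroup K).map K.subtype).Normal := by
  rw [← Subgroup.normalizer_eq_top_iff]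
  exact h _ (Sylow.normalizer_sup_eq_top P)

/-- If no proper subgroup supplements the normal subgroup `K`, every prime divisor of the group order
divides the index of `K`. -/
theorem dvd_index_of_no_supplement [Finite G] {K : Subgroup G} [K.Normal]
    (h : ∀ L : Subgroup G, L ⊔ K = ⊤ → L = ⊤) {p : ℕ} (hp : p.Prime) (hd : p ∣ Nat.card G) :
    p ∣ K.index := by
  by_contra hn
  have : Fact p.Prime := ⟨hp⟩
  obtain ⟨P⟩ : Nonempty (Sylow p G) := inferInstance
  have hPK : (P : Subgroup G) ≤ K := by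
    intro x hx
    obtain ⟨k, hk⟩ := P.isPGroup' ⟨x, hx⟩
    have hk' : x ^ p ^ k = 1 := congrArg Subtype.val hk
    have h1 : x ^ K.index ∈ K := K.pow_index_mem x
    have hcop : (p ^ k).Coprime K.index := Nat.Coprime.pow_left k ((Nat.Prime.coprime_iff_not_dvd hp).2 hn)
    obtain ⟨a, b, hab⟩ := Nat.isCoprime_iff_coprime.2 hcop
    have : x = (x ^ p ^ k) ^ a * (x ^ K.index) ^ b := by
      rw [← zpow_natCast, ← zpow_natCast, ← zpow_mul, ← zpow_mul, ← zpow_add, mul_comm _ a, mul_comm _ b,
        hab, zpow_one]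
    rw [this, hk', one_zpow, one_mul]
    exact K.zpow_mem h1 b
  have hN : (P : Subgroup G).Normal := by
    rw [← Subgroup.normalizer_eq_top_iff]
    exact h _ (Sylow.normalizer_sup_eq_top' P hPK)
  obtain ⟨L, hL⟩ := Subgroup.exists_right_complement'_of_coprime (N := (P : Subgroup G))
    P.card_coprime_index
  have hLt : L = ⊤ := by
    apply h
    rw [eq_top_iff, ← hL.sup_eq_top]
    exact sup_le (le_sup_of_le_right hPK) le_sup_left
  have hPb : (P : Subgroup G) = ⊥ := by
    have := hL.disjoint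
    rwa [hLt, disjoint_top] at this
  exact P.ne_bot_of_dvd_card hd hPb

/-- Transfer of minimality of a supplement into the supplement itself. -/
theorem no_supplement_of_minimal {N H : Subgroup G} [N.Normal] (hH : H ⊔ N = ⊤)
    (hmin : ∀ L : Subgroup G, L ⊔ N = ⊤ → L ≤ H → L = H) :
    ∀ L : Subgroup H, L ⊔ N.subgroupOf H = ⊤ → L = ⊤ := by
  intro L hL
  have h1 : L.map H.subtype ⊔ N = ⊤ := by
    rw [eq_top_iff, ← hH]
    refine sup_le ?_ le_sup_right
    have h2 := congrArg (Subgroup.map H.subtype) hL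
    rw [Subgroup.map_sup, Subgroup.subgroupOf_map_subtype, ← MonoidHom.range_eq_map,
      Subgroup.range_subtype] at h2
    conv_lhs => rw [← h2]
    exact sup_le_sup_left inf_le_left _
  have h2 := hmin _ h1 (Subgroup.map_subtype_le L)
  apply Subgroup.map_injective H.subtype_injective
  rw [h2, ← MonoidHom.range_eq_map, Subgroup.range_subtype]

theorem relIndex_eq_index_of_sup_top {N H : Subgroup G} [N.Normal] (hH : H ⊔ N = ⊤) :
    N.relIndex H = N.index := by
  rw [← Subgroup.relIndex_sup_right H N, hH, Subgroup.relIndex_top_right]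

/-- A normal subgroup `N` has a supplement (inside any given supplement) whose order involves only primes
dividing the index of `N`. -/
theorem exists_supplement_primes [Finite G] (N : Subgroup G) [N.Normal] (H₀ : Subgroup G)
    (h₀ : H₀ ⊔ N = ⊤) :
    ∃ H : Subgroup G, H ≤ H₀ ∧ H ⊔ N = ⊤ ∧ (∀ p : ℕ, p.Prime → p ∣ Nat.card H → p ∣ N.index) ∧
      ∀ L : Subgroup G, L ⊔ N = ⊤ → L ≤ H → L = H := by
  obtain ⟨H, ⟨h1, h2⟩, hmin⟩ := H2.exists_minimal_subgroup
    (fun H : Subgroup G => H ≤ H₀ ∧ H ⊔ N = ⊤) ⟨H₀, le_rfl, h₀⟩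
  have hmin' : ∀ L : Subgroup G, L ⊔ N = ⊤ → L ≤ H → L = H :=
    fun L hL hle => hmin L ⟨hle.trans h1, hL⟩ hle
  refine ⟨H, h1, h2, fun p hp hd => ?_, hmin'⟩
  rw [← relIndex_eq_index_of_sup_top h2]
  exact dvd_index_of_no_supplement (no_supplement_of_minimal h2 hmin') hp hd

end H26
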