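import Cfsg.Agent.H26.T4Spec
import Cfsg.Agent.H26.FPCtl

/-! The Alperin argument and case II for `Env2` (adapted from `FPAlp`, `FPCtl`). -/

set_option autoImplicit false

namespace H26.T4

open Subgroup Cfsg H98 H26.FP
open scoped commutatorElement

universe u

variable {Γ : Type u} [Group Γ] [Finite Γ] {S M X E T T₁ R A U K : Subgroup Γ}
  {𝒜 : Subgroup (MulAut Γ)} {g m : Γ} {q : ℕ}

omit [Finite Γ] in
theorem Env2.two (h : Env2 S M 𝒜) : IsPGroup 2 S := h.syl.isPGroup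

omit [Finite Γ] in
theorem Env2.le (h : Env2 S M 𝒜) : S ≤ M := le_normalizer.trans h.ns

omit [Finite Γ] in
theorem Env2.inv_oz (h : Env2 S M 𝒜) : Inv 𝒜 (oz 2 S) := fun a ha => by
  rw [map_oz a.injective, h.inv a ha]

theorem Env2.fa_oz (h : Env2 S M 𝒜) : Fa M (oz 2 S) :=
  h.loc _ (oz_le S) (oz_ne_bot h.two h.ne) (le_normalizer_oz le_normalizer) h.inv_oz

/-- centralisers of subgroups containing `Ω₁Z(S)` are solvable -/
theorem Env2.solv_cent (h : Env2 S M 𝒜) (hR : oz 2 S ≤ R) : Group.IsSolvable C[R] := by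
  have := h.sol _ (oz_ne_bot h.two h.ne) (isPGroup_oz S) h.inv_oz
  exact Group.isSolvable_of_isSolvable_injective (inclusion_injective
    ((centralizer_anti hR).trans (centralizer_le_normalizer _)))

theorem Env2.cent_oz (h : Env2 S M 𝒜) (hE : E ≤ S) :
    N[E] ⊓ C[oz 2 S] ≤ (M ⊓ N[E]) ⊔ C[E] :=
  (inf_le_inf_left _ (centralizer_le_normalizer _)).trans (h.fa_oz.ce (h.two.to_le hE)
    (hE.trans h.le) (hE.trans (le_normalizer_oz le_normalizer)))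

section

/-- the Alperin argument -/
theorem Env2.exists_bad (h : Env2 S M 𝒜) (hX : ¬ Good S M X) :
    ∃ E T k, Bad S M E T ∧ cj k X ≤ E ∧ E < T := by
  have h0 : ∃ g, cj g X ≤ S := by
    by_contra e
    exact hX fun g _ h1 => (e ⟨g, h1⟩).elim
  obtain ⟨g, hg⟩ := h0
  obtain ⟨E₀, ⟨h1, h2, k, h3⟩, hmax⟩ := Set.exists_max_image
    {E : Subgroup Γ | ¬ Good S M E ∧ E ≤ S ∧ ∃ k, cj k X ≤ E} (fun E => Nat.card E) (Set.toFinite _)
    ⟨cj g X, fun e => hX (cj_inv_cj g X ▸ e.cj g⁻¹), hg, g, le_rfl⟩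
  obtain ⟨T₀, hT₀, h4⟩ := exists_isSyl_le (h.two.to_le h2) (le_normalizer (H := E₀))
  obtain ⟨l, -, hl⟩ := h.syl.exists_cj_le hT₀.isPGroup le_top
  have hT := cj_normalizer l E₀ ▸ hT₀.cj l
  have h5 := cj_mono l h4
  have h6 : ¬ Good S M (cj l E₀) := fun e => h1 (cj_inv_cj l E₀ ▸ e.cj l⁻¹)
  have h7 : cj (l * k) X ≤ cj l E₀ := cj_cj l k X ▸ cj_mono l h3
  rw [← card_cj l] at hmax
  generalize cj l E₀ = E at hT h5 h6 h7 hmax
  generalize cj l T₀ = T at hT h5 hl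
  have big : ∀ P a, E < P → cj a P ≤ S → Good S M P := fun P a h8 h9 => by
    by_contra e
    exact (card_lt_of_lt' h8).not_ge (card_cj a P ▸ hmax _ ⟨fun e' => e (cj_inv_cj a P ▸ e'.cj a⁻¹),
      h9, a * (l * k), cj_cj a _ X ▸ cj_mono a (h7.trans h8.le)⟩)
  have lt : ∀ a, cj a E ≤ S → cj a E < S := fun a ha => lt_of_le_of_ne ha fun e => h6 fun b c hb hc => by
    have e' : ∀ b, cj b E ≤ S → cj b E = S := fun b hb =>
      eq_of_le_of_card_ge hb (by rw [← e, card_cj, card_cj])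
    exact ⟨c * b⁻¹, h.ns (cj_eq_self_iff.1 (by rw [← cj_cj, ← e' b hb, cj_inv_cj, e' c hc, e' b hb])),
      1, one_mem _, by group⟩
  have hES := h5.trans hl
  have hlt : E < T := by
    have := lt_inf_normalizer h.two (cj_one E ▸ lt 1 (by rwa [cj_one]))
    rwa [hT.eq_of_le (h.two.to_le inf_le_left) (le_inf hl hT.le) inf_le_right] at this
  have nle : ¬ N[E] ≤ (M ⊓ N[E]) ⊔ C[E] := fun e => h6 fun a b ha hb => by
    have key : ∀ a, cj a E ≤ S → ∃ m ∈ M, ∃ c ∈ C[E], a = m * c := fun a ha => by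
      have h8 := cj_lt_cj_iff (g := a⁻¹).2 (lt_inf_normalizer h.two (lt a ha))
      rw [cj_inv_cj] at h8
      obtain ⟨n, hn, h9⟩ := hT.exists_cj_le (isPGroup_cj a⁻¹ (h.two.to_le inf_le_left))
        (cj_le_iff.2 (by rw [inv_inv, cj_normalizer]; exact inf_le_right) :
          cj a⁻¹ (S ⊓ N[cj a E]) ≤ _)
      have h10 : cj a (cj a⁻¹ (S ⊓ N[cj a E])) ≤ S := by rw [cj_cj_inv]; exact inf_le_left
      obtain ⟨m, hm, c, hc, rfl⟩ := big _ a h8 h10 n a (h9.trans hl) h10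
      obtain ⟨m', hm', c', hc', rfl⟩ := (mem_sup_left_norm (inf_le_right.trans
        (normalizer_le_normalizer_centralizer E))).1 (e hn)
      exact ⟨m * m', mul_mem hm hm'.1, c' * c, mul_mem hc' (centralizer_anti h8.le hc), by group⟩
    obtain ⟨m, hm, c, hc, rfl⟩ := key a ha
    obtain ⟨m', hm', c', hc', rfl⟩ := key b hb
    exact ⟨m' * m⁻¹, mul_mem hm' (inv_mem hm), c⁻¹ * c', mul_mem (inv_mem hc) hc', by group⟩
  refine ⟨E, T, _, ⟨h5, hl, hT, ?_, nle⟩, h7, hlt⟩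
  have hz : oz 2 S ≤ C[E] := (oz_le_centralizer S).trans (centralizer_anti hES)
  refine (le_inf ((le_inf (oz_le S) (hz.trans (centralizer_le_normalizer _))).trans (hT.eq_of_le
    (h.two.to_le inf_le_left) (le_inf hl hT.le) inf_le_right).le) hz).trans ?_
  by_contra e
  have h8 : E ⊔ T ⊓ C[E] ≤ S := sup_le hES (inf_le_left.trans hl)
  refine nle ((hT.frattini_centralizer le_rfl).ge.trans (sup_le (fun n hn => ?_)
    (inf_le_right.trans le_sup_right)))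
  obtain ⟨m, hm, c, hc, rfl⟩ := (big _ 1 (left_lt_sup.2 e) (by rwa [cj_one])).one h8
    ((cj_eq_self (le_normalizer_sup inf_le_left inf_le_right hn)).le.trans h8)
  have hc' := centralizer_anti le_sup_left hc
  exact mul_mem_sup ⟨hm, (mul_mem_cancel_right (centralizer_le_normalizer _ hc')).1 hn.1⟩ hc'

variable (h : Env2 S M 𝒜) (mx : ∀ E' T', Bad S M E' T' → sg T' ≤ sg T)
include h mx

theorem Env2.good (hX : sg T ≤ sg X) : Good S M X := by
  by_contra e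
  obtain ⟨E', T', k, hb, h1, h2⟩ := h.exists_bad e
  exact (mx _ _ hb).not_gt (hX.trans_lt (sg_cj k X ▸ (sg_le h1).trans_lt (sg_lt h2)))

theorem Env2.exists_std (h1 : E ≤ T₁) (h2 : T₁ ≤ S ⊓ N[E]) (h3 : sg T < sg T₁) :
    ∃ m ∈ M, ∃ T₂ ≤ S, cj m E ≤ T₂ ∧ IsSyl 2 T₂ N[cj m E] ∧ sg T < sg T₂ := by
  obtain ⟨T₂, hT, h4⟩ := exists_isSyl_le (h.two.to_le (h2.trans inf_le_left)) (h2.trans inf_le_right)
  obtain ⟨g, -, hg⟩ := h.syl.exists_cj_le hT.isPGroup le_top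
  obtain ⟨m, hm, c, hc, rfl⟩ := (h.good mx h3.le).one (h2.trans inf_le_left)
    ((cj_mono g h4).trans hg)
  refine ⟨m, hm, _, hg, ?_, ?_, (h3.trans_le (sg_le h4)).trans_eq (sg_cj _ T₂).symm⟩ <;>
    rw [← cj_mul_cent (centralizer_anti h1 hc)]
  · exact cj_mono _ (h1.trans h4)
  · exact cj_normalizer _ E ▸ hT.cj _

theorem Env2.ctl_centric (h1 : E ≤ T₁) (h2 : T₁ ≤ S ⊓ N[E]) (h3 : sg T < sg T₁)
    (h4 : ∀ x ∈ C[E], x ^ 2 = 1 → x ∈ E) {n : Γ} (hn : n ∈ N[E]) :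
    ∃ m ∈ M, ∃ c ∈ C[E], n = m * c := by
  obtain ⟨m, hm, T₂, h5, h6, h7, h8⟩ := h.exists_std mx h1 h2 h3
  have h9 : N[cj m E] ≤ (M ⊓ N[cj m E]) ⊔ C[cj m E] := by
    by_contra e
    refine (mx _ _ ⟨h6, h5, h7, fun z hz => mem_cj.2 (h4 _ ?_ ?_), e⟩).not_gt h8
    · rw [← mem_cj, cj_centralizer]
      exact centralizer_anti (h6.trans h5) (mem_oz.1 hz).2.1
    · rw [show m⁻¹ * z * m = m⁻¹ * z * m⁻¹⁻¹ by rw [inv_inv], conj_pow, (mem_oz.1 hz).2.2]; group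
  obtain ⟨a, ha, c, hc, e⟩ := (mem_sup_left_norm (inf_le_right.trans
    (normalizer_le_normalizer_centralizer _))).1 (h9 (cj_normalizer m E ▸ conj_mem_cj hn))
  rw [← cj_centralizer, mem_cj] at hc
  exact ⟨m⁻¹ * a * m, mul_mem (mul_mem (inv_mem hm) ha.1) hm, _, hc, by
    rw [show n = m⁻¹ * (m * n * m⁻¹) * m by group, e]; group⟩

/-- **CtrlR** -/
theorem Env2.ctrl (hs : Group.IsSolvable C[R]) (h1 : R ≤ T₁) (h2 : T₁ ≤ S ⊓ N[R])
    (h3 : sg T < sg T₁) : Fa M R := by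
  obtain ⟨m, hm, T₂, h5, h6, h7, h8⟩ := h.exists_std mx h1 h2 h3
  refine Fa.of_cj ?_ hm
  have hs' : Group.IsSolvable C[cj m R] := cj_centralizer m R ▸
    Group.isSolvable_of_surjective ((MulAut.conj m).toMonoidHom.subgroupMap_surjective C[R])
  generalize cj m R = R' at h6 h7 hs'
  obtain ⟨Q, hQ, nQ, hfr, hc⟩ := exists_con (h7.isPGroup.to_le h6) hs' h7
  have nO := H14.self_le_normalizer_opp (p := 2) N[R']
  have hC : C[Q ⊔ R'] ≤ Q ⊔ H14.opp 2 N[R'] := (le_inf ((centralizer_anti le_sup_right).trans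
    (centralizer_le_normalizer _)) (centralizer_anti le_sup_left)).trans hc
  intro g hg
  obtain ⟨n, hn, o, ho, rfl⟩ := (mem_sup_left_norm (inf_le_left.trans nO)).1 (hfr hg)
  obtain ⟨a, ha, c, hc', rfl⟩ := h.ctl_centric mx (sup_le hQ h6) (le_inf h5
    (le_normalizer_sup nQ h7.le)) h8 (fun x hx e => mem_sup_left (H14.mem_of_mem_sup_coprime
      (H14.coprime_card_opp _) (.inl ((hQ.trans h7.le).trans nO)) (k := 1) e
      (centralizer_le_normalizer _ (centralizer_anti le_sup_left hx)) (hC hx)))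
    (le_normalizer_sup inf_le_right inf_le_left hn)
  obtain ⟨x, hx, o', ho', rfl⟩ := (mem_sup_left_norm ((hQ.trans h7.le).trans nO)).1 (hC hc')
  exact ⟨a * x, mul_mem ha (h.le (h5 (hQ hx))), o' * o, mul_mem ho' ho, by group⟩

omit mx in
theorem Env2.jt_ne {J : Subgroup Γ} (hne : jt 2 S ≠ J) : jt 2 (S ⊓ N[J]) ≠ J := fun e => hne (by
  by_contra e'
  refine (lt_inf_normalizer h.two (inf_lt_left.2 fun e1 => e' ?_ : S ⊓ N[J] < S)).not_ge
    (inf_le_inf_left _ ?_)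
  · rwa [inf_eq_left.2 e1] at e
  · conv_rhs => rw [← e]
    exact le_normalizer_jt le_rfl)

omit mx in
theorem Env2.fa_jt : Fa M (jt 2 S) :=
  h.loc _ (jt_le S) (fun e => oz_ne_bot h.two h.ne (eq_bot_iff.2 (e ▸ oz_le_jt S)))
    (le_normalizer_jt le_normalizer) fun a ha => by
      rw [jt, H12.map_thompsonSubgroupOf _ _ a.injective, h.inv a ha]

theorem Env2.good_jt : Good S M (jt 2 T) := by
  by_contra e
  obtain ⟨E', T', k, hb, h1, h2⟩ := h.exists_bad e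
  rw [cj_jt] at h1
  have e1 : jt 2 T' = jt 2 (cj k T) := by
    by_contra e1
    exact (mx _ _ hb).not_gt (sg_cj k T ▸ sg_lt_of_jt (h1.trans h2.le) e1)
  have hE := hb.le.trans hb.hS
  have n1 : N[E'] ≤ N[jt 2 T'] := jt_eq_of_le (e1.le.trans h1) hb.le ▸ le_normalizer_jt le_rfl
  refine hb.nle ((le_inf le_rfl n1).trans (Fa.ce ?_ (h.two.to_le hE) (hE.trans h.le)
    (le_normalizer.trans n1)))
  by_cases e2 : jt 2 S = jt 2 T'
  · exact e2 ▸ h.fa_jt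
  · have h3 : jt 2 T' ≤ S ⊓ N[jt 2 T'] := le_inf ((jt_le _).trans hb.hS) le_normalizer
    exact h.ctrl mx (h.solv_cent ((oz_le_oz hb.hS (hb.oz.trans hb.le)).trans (oz_le_jt T'))) h3
      le_rfl (sg_cj k T ▸ sg_lt_of_jt (e1.ge.trans h3) (e1 ▸ h.jt_ne e2))

end

/-- case II -/
theorem Env2.case_two (h : Env2 S M 𝒜) (mx : ∀ E' T', Bad S M E' T' → sg T' ≤ sg T)
    (hb : Bad S M E T) (b : Bl q (jt 2 T) U K) (hK : K ≤ N[E]) (hX : ¬ K ≤ (M ⊓ N[E]) ⊔ C[E])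
    (hE : E ≤ N[U]) (hne : jt 2 S ≠ jt 2 T) : ∃ J U K s, Cf S q J U K s ∧ jt 2 S ≠ J ∧ Ctl S M J := by
  have hES := hb.le.trans hb.hS
  have hJS := (jt_le (p := 2) T).trans hb.hS
  have nJ : T ≤ N[jt 2 T] := le_normalizer_jt le_normalizer
  have nfa : ∀ R, E ≤ N[R] → K ≤ N[R] → ¬ Fa M R := fun R h1 h2 h3 =>
    hX ((le_inf hK h2).trans (h3.ce (h.two.to_le hES) (hES.trans h.le) h1))
  have hZ : oz 2 S ≤ oz 2 (jt 2 T) := oz_le_oz hJS
    ((oz_le_oz hb.hS (hb.oz.trans hb.le)).trans (oz_le_jt T))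
  have lt : ∀ g T₁, cj g (jt 2 T) ≤ T₁ → jt 2 T₁ ≠ cj g (jt 2 T) → sg T < sg T₁ := fun g T₁ h1 h2 => by
    rw [cj_jt] at h1 h2
    exact (sg_cj g T).symm.trans_lt (sg_lt_of_jt h1 h2)
  obtain ⟨s, hs, nc⟩ : ∃ s ∈ S ⊓ N[jt 2 T], ¬ cj s U ≤ C[U] := by
    by_contra e
    push Not at e
    have h1 : ncl (S ⊓ N[jt 2 T]) U ⊔ oz 2 (jt 2 T) ≤ jt 2 T ⊓ C[U] := sup_le (ncl_le_iff.2
      fun g hg => le_inf (cj_le_of_le b.le hg.2) (e g hg)) b.oz_le
    have h2 := le_normalizer_sup (le_normalizer_ncl (S ⊓ N[jt 2 T]) U)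
      (le_normalizer_oz (p := 2) inf_le_right)
    have h3 : jt 2 T ≤ S ⊓ N[jt 2 T] := le_inf hJS le_normalizer
    exact nfa _ ((le_inf hES (hb.le.trans nJ)).trans h2)
      (b.nK' ((le_ncl _ U).trans le_sup_left) h1) (h.ctrl mx (h.solv_cent (hZ.trans le_sup_right))
        ((h1.trans inf_le_left).trans h3) (le_inf inf_le_left h2) (sg_lt_of_jt h3 (h.jt_ne hne)))
  have hYJ : yy (jt 2 T) U ≤ jt 2 T := (oz_le _).trans inf_le_left
  obtain ⟨T₂, hT, h1⟩ := exists_isSyl_le (h.two.to_le hJS) b.nJ_yy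
  have eJ : jt 2 T₂ = jt 2 T := by
    by_contra e
    obtain ⟨g, -, hg⟩ := h.syl.exists_cj_le hT.isPGroup le_top
    obtain ⟨m, hm, c, hc, rfl⟩ := (h.good_jt mx).one hJS ((cj_mono g h1).trans hg)
    refine nfa _ (le_normalizer_oz (le_normalizer_inf (hb.le.trans nJ)
      (le_normalizer_centralizer hE))) b.nK_yy (Fa.of_cj ?_ hm)
    rw [← cj_mul_cent (centralizer_anti hYJ hc)]
    have := h.solv_cent (hZ.trans b.oz_le_yy)
    exact h.ctrl mx (cj_centralizer (m * c) _ ▸ Group.isSolvable_of_surjective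
      ((MulAut.conj (m * c)).toMonoidHom.subgroupMap_surjective _)) (cj_mono _ (hYJ.trans h1))
      (le_inf hg (cj_normalizer (m * c) _ ▸ cj_mono _ hT.le))
      ((sg_lt_of_jt h1 e).trans_eq (sg_cj _ T₂).symm)
  obtain ⟨P, hP, h2, t, ht, ht', nc'⟩ := exists_swap b hs.2 (h.two.to_le (zpowers_le.2 hs.1)) nc hT
    (eJ ▸ le_normalizer_jt le_normalizer)
  obtain ⟨g, -, hg⟩ := h.syl.exists_cj_le hP le_top
  have eY : cj g (yy (jt 2 T) U) = yy (cj g (jt 2 T)) (cj g U) := by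
    rw [cj_oz, cj_inf, cj_centralizer]
  have hT' := hT.cj g
  rw [cj_normalizer, eY] at hT'
  have eT := hT'.eq_of_le (h.two.to_le inf_le_left) (le_inf ((cj_mono g h2).trans hg) hT'.le)
    inf_le_right
  have hJ' := (cj_mono g (h1.trans h2)).trans hg
  refine ⟨cj g (jt 2 T), cj g U, cj g K, g * t * g⁻¹, ⟨b.map _, hg (conj_mem_cj ht),
    cj_normalizer g _ ▸ conj_mem_cj ht', fun e => nc' ?_, eT ▸ hT', by rw [eT, ← cj_jt, eJ]⟩,
    fun e => hne ?_, fun R B r1 r2 r3 r4 r5 r6 r7 => ?_⟩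
  · rwa [cj_cj, inv_mul_cancel_right, ← cj_cj, ← cj_centralizer, cj_le_cj_iff] at e
  · have e1 : cj g⁻¹ (jt 2 S) = jt 2 T := by rw [e, cj_inv_cj]
    rw [← e1, cj_jt_eq_of_le (e1.le.trans hJS)]
  · have h3 := le_inf hJ' r3
    refine h.ctrl mx (h.solv_cent r1) (le_inf r2 le_normalizer) le_rfl (lt g _ h3 fun e => r7 ?_)
    obtain ⟨A, hA⟩ := H12.exists_mem_maxEA (p := 2) (S ⊓ N[R])
    exact (H12.le_thompsonSubgroupOf (H12.mem_maxEA_of_card_le hA r4 r5 (r6 A (H12.mem_maxEA_of_le hA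
      ((H12.le_thompsonSubgroupOf hA).trans e.le) h3)))).trans e.le

end H26.T4
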