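import Cfsg.Agent.H53.FPX3
import Cfsg.Agent.H1.Glauberman

/-! Operators that fix no class of involutions: the hypothesis `Oq`, products over orbits, and
the property X3. -/

set_option autoImplicit false

namespace H26.T4

open Subgroup Cfsg H98 H26.FP
open scoped commutatorElement

universe u

variable {Γ Δ : Type*} [Group Γ] [Group Δ] {G A B K L T : Subgroup Γ}

/-- the product of one element from each member of an invariant family of sets -/
theorem tuple [Finite Γ] (𝓧 : Set (Set Γ)) (Φ : Set (MulAut Γ)) (G V : Subgroup Γ)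
    (hΦ : ∀ φ ∈ Φ, ∀ X ∈ 𝓧, φ '' X ∈ 𝓧) (hV : ∀ X ∈ 𝓧, X ⊆ V) (hne : ∀ X ∈ 𝓧, X.Nonempty)
    (hc : ∀ X ∈ 𝓧, ∀ Y ∈ 𝓧, X ≠ Y → ∀ x ∈ X, ∀ y ∈ Y, Commute x y)
    (h2 : ∀ X ∈ 𝓧, ∀ x ∈ X, x * x = 1)
    (ht : ∀ X ∈ 𝓧, ∀ x ∈ X, ∀ y ∈ X, ∃ g ∈ G, g * x * g⁻¹ = y ∧
      ∀ Y ∈ 𝓧, Y ≠ X → ∀ z ∈ Y, Commute g z)
    (h1 : ∃ X ∈ 𝓧, ∀ x ∈ X, ∃ k, ¬ Commute k x ∧ ∀ Y ∈ 𝓧, Y ≠ X → ∀ z ∈ Y, Commute k z) :
    ∃ w ∈ V, w ≠ 1 ∧ w * w = 1 ∧ ∀ φ ∈ Φ, ∃ g ∈ G, φ w = g * w * g⁻¹ := by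
  classical
  have := Fintype.ofFinite 𝓧
  have hp : ∀ (x : 𝓧 → Γ) (_ : ∀ i, x i ∈ i.1) (s : Finset 𝓧),
      (s : Set 𝓧).Pairwise (Function.onFun Commute x) := fun x hx s i _ j _ e =>
    hc _ i.2 _ j.2 (fun k => e (Subtype.ext k)) _ (hx i) _ (hx j)
  choose x hx using fun i : 𝓧 => hne _ i.2
  have key : ∀ (y : 𝓧 → Γ) (_ : ∀ i, y i ∈ i.1) (s : Finset 𝓧), ∃ g ∈ G, ∀ i,
      g * x i * g⁻¹ = if i ∈ s then y i else x i := fun y hy s => by
    induction s using Finset.induction_on with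
    | empty => exact ⟨1, one_mem _, by simp⟩
    | insert j s hj ih =>
      obtain ⟨g, hg, e⟩ := ih
      obtain ⟨g', hg', e1, e2⟩ := ht _ j.2 _ (hx j) _ (hy j)
      refine ⟨g' * g, mul_mem hg' hg, fun i => ?_⟩
      rw [show g' * g * x i * (g' * g)⁻¹ = g' * (g * x i * g⁻¹) * g'⁻¹ by group, e]
      by_cases k : i = j
      · rw [k, if_neg hj, e1, if_pos (Finset.mem_insert_self _ _)]
      · simp only [Finset.mem_insert, k, false_or]
        rw [(e2 _ i.2 (fun k' => k (Subtype.ext k')) _ (by split_ifs; exacts [hy i, hx i])).eq,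
          mul_inv_cancel_right]
  refine ⟨Finset.univ.noncommProd x (hp x hx _), noncommProd_mem _ _ fun i _ => hV _ i.2 (hx i),
    fun e => ?_, ?_, fun φ hφ => ?_⟩
  · obtain ⟨X, hX, h⟩ := h1
    obtain ⟨k, k1, k2⟩ := h _ (hx ⟨X, hX⟩)
    rw [← Finset.mul_noncommProd_erase _ (Finset.mem_univ ⟨X, hX⟩), mul_eq_one_iff_eq_inv] at e
    exact k1 (e ▸ (Finset.noncommProd_commute _ _ _ _ fun i hi => k2 _ i.2
      (fun k => (Finset.mem_erase.1 hi).1 (Subtype.ext k)) _ (hx i)).inv_right)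
  · generalize (Finset.univ : Finset 𝓧) = s
    induction s using Finset.induction_on with
    | empty => simp
    | insert j s hj ih =>
      rw [Finset.noncommProd_insert_of_notMem _ _ _ _ hj,
        (Finset.noncommProd_commute _ _ _ _ fun i hi => hp x hx Finset.univ (Finset.mem_univ _)
          (Finset.mem_univ _) (by rintro rfl; exact hj hi)).symm.mul_mul_mul_comm, ih, h2 _ j.2 _ (hx j),
        one_mul]
  · let σ : 𝓧 ≃ 𝓧 := Equiv.ofBijective (fun i => ⟨_, hΦ φ hφ _ i.2⟩) (Finite.injective_iff_bijective.1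
      fun i j e => Subtype.ext (Set.image_injective.2 φ.injective (congrArg Subtype.val e)))
    obtain ⟨g, hg, e⟩ := key (fun i => φ (x (σ.symm i))) (fun i => by
      have := Set.mem_image_of_mem φ (hx (σ.symm i))
      rwa [show φ '' _ = (σ (σ.symm i)).1 from rfl, σ.apply_symm_apply] at this) Finset.univ
    refine ⟨g, hg, (Finset.map_noncommProd _ _ _ φ).trans (Eq.trans ?_
      (Finset.map_noncommProd _ _ _ (MulAut.conj g)).symm)⟩
    simp only [MulAut.conj_apply, e, Finset.mem_univ, if_true, Finset.noncommProd]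
    congr 1
    conv_rhs => rw [← Multiset.map_univ_val_equiv σ, Multiset.map_map]
    simp

/-- `A` is `2`-nilpotent, normalises `G` and fixes no `G`-class of involutions of `G`. -/
structure Oq (G A : Subgroup Γ) : Prop where
  nor : A ≤ N[G]
  tn : Odd (Nat.card (res 2 A))
  nf : ∀ t ∈ G, t * t = 1 → (∀ a ∈ A, ∃ g ∈ G, a * t * a⁻¹ = g * t * g⁻¹) → t = 1

theorem Oq.mono (h : Oq G A) (hK : K ≤ G) (hn : A ≤ N[K]) : Oq K A :=
  ⟨hn, h.tn, fun t ht h2 k => h.nf t (hK ht) h2 fun a ha =>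
    (k a ha).imp fun _ e => ⟨hK e.1, e.2⟩⟩

theorem Oq.nf' (h : Oq G A) (hn : B ≤ N[G]) (hc : A ≤ G ⊔ B) {t : Γ} (ht : t ∈ G) (h2 : t * t = 1)
    (k : ∀ a ∈ B, ∃ g ∈ G, a * t * a⁻¹ = g * t * g⁻¹) : t = 1 := h.nf t ht h2 fun a ha => by
  obtain ⟨g, hg, b, hb, rfl⟩ := (mem_sup_right_norm hn).1 (hc ha)
  obtain ⟨g', hg', e⟩ := k b hb
  exact ⟨g * g', mul_mem hg hg', by
    rw [show g * b * t * (g * b)⁻¹ = g * (b * t * b⁻¹) * g⁻¹ by group, e]; group⟩

theorem Oq.of_map [Finite Γ] {f : Γ →* Δ} (hf : Function.Injective f) (h : Oq (G.map f) (A.map f)) :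
    Oq G A := by
  refine ⟨?_, by have := h.tn; rwa [← map_res, card_map_of_injective hf] at this,
    fun t ht h2 k => hf ?_⟩
  · simpa only [comap_map_eq_self_of_injective hf] using comap_le_normalizer_comap f h.nor
  · rw [map_one]
    refine h.nf _ (mem_map_of_mem f ht) (by rw [← map_mul, h2, map_one]) ?_
    rintro _ ⟨a, ha, rfl⟩
    obtain ⟨g, hg, e⟩ := k a ha
    exact ⟨_, mem_map_of_mem f hg, by simpa using congrArg f e⟩

theorem Oq.subgroupOf [Finite Γ] (h : Oq G A) {H : Subgroup Γ} (hG : G ≤ H) (hA : A ≤ H) :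
    Oq (G.subgroupOf H) (A.subgroupOf H) :=
  Oq.of_map H.subtype_injective (by rwa [map_subgroupOf_eq_of_le hG, map_subgroupOf_eq_of_le hA])

variable [Finite Γ]

theorem exists_invol (hT : IsPGroup 2 T) (h1 : T ≠ ⊥) : ∃ t ∈ T, t ≠ 1 ∧ t * t = 1 := by
  obtain ⟨⟨t, ht⟩, e⟩ := ne_bot_iff_exists_ne_one.1 (oz_ne_bot hT h1)
  exact ⟨t, oz_le T ht, fun k => e (Subtype.ext k), (sq t).symm.trans (mem_oz.1 ht).2.2⟩

theorem Oq.fix (h : Oq G A) (hT : IsPGroup 2 T) (h1 : T ≤ G) (hn : A ≤ N[T]) :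
    T ⊓ C[res 2 A] = ⊥ := by
  by_contra e
  obtain ⟨P, hP⟩ := exists_isSyl 2 A
  obtain ⟨t, ht, h2, h3⟩ := exists_invol (hT.to_inf_left.to_inf_left) (inf_centralizer_ne_bot
    hT.to_inf_left hP.isPGroup (hP.le.trans (le_normalizer_inf hn
      (le_normalizer_centralizer (self_le_normalizer_res A)))) e)
  refine h2 (h.nf t (h1 ht.1.1) h3 fun a ha => ⟨1, one_mem _, ?_⟩)
  obtain ⟨s, hs, r, hr, rfl⟩ := hP.exists_mul_res ha
  rw [mul_assoc s, ht.1.2 r hr, ← mul_assoc, ht.2 s hs]; group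

theorem exists_compl {N : Subgroup Γ} (hA : IsSyl 2 T N) (hn : N ≤ N[T]) :
    ∃ K ≤ N, Odd (Nat.card K) ∧ N ≤ T ⊔ K := by
  have : (T.subgroupOf N).Normal := (normal_subgroupOf_iff_le_normalizer hA.le).2 hn
  have hc : Nat.Coprime (Nat.card (T.subgroupOf N)) (T.subgroupOf N).index := by
    obtain ⟨k, hk⟩ := IsPGroup.iff_card.1 (isPGroup_subgroupOf hA.isPGroup N)
    rw [hk]
    exact (Nat.prime_two.coprime_iff_not_dvd.2 hA.not_dvd_relIndex).pow_left _
  obtain ⟨K, hK⟩ := exists_right_complement'_of_coprime hc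
  refine ⟨K.map N.subtype, map_subtype_le _, ?_, ?_⟩
  · rw [card_map_of_injective N.subtype_injective, ← hK.symm.index_eq_card]
    exact Nat.not_even_iff_odd.1 fun h => hA.not_dvd_relIndex h.two_dvd
  · have := congrArg (map N.subtype) hK.sup_eq_top
    rw [Subgroup.map_sup, map_subgroupOf_eq_of_le hA.le, map_subtype_top] at this
    exact this.ge

theorem cop_two (hT : IsPGroup 2 T) (hK : Odd (Nat.card K)) : (Nat.card K).Coprime (Nat.card T) := by
  obtain ⟨k, hk⟩ := IsPGroup.iff_card.1 hT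
  exact hk ▸ (Nat.coprime_two_right.2 hK).pow_right k

theorem sol_two (hT : IsPGroup 2 T) : Group.IsSolvable T :=
  have := hT.isNilpotent
  inferInstance

/-- every supplement contains a group of operators -/
theorem Oq.supp (h : Oq G A) (hL : L ≤ G ⊔ A) (hc : A ≤ G ⊔ L) : ∃ X ≤ L, Oq G X := by
  obtain ⟨X, h1, h2, h3⟩ := exists_minimal_le_of_wellFoundedLT (fun X => A ≤ G ⊔ X) L hc
  have mn : ∀ Y, X ≤ G ⊔ (X ⊓ Y) → X ≤ Y := fun Y e =>
    (h3 (h2.trans (sup_le le_sup_left e)) inf_le_left).trans inf_le_right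
  have nG : X ≤ N[G] := (h1.trans hL).trans (sup_le le_normalizer h.nor)
  refine ⟨X, h1, nG, ?_, fun t ht => h.nf' nG h2 ht⟩
  obtain ⟨Q, hQ⟩ := exists_isSyl 2 (res 2 X)
  obtain ⟨P, hP⟩ := exists_isSyl 2 A
  have h4 : res 2 X ≤ G ⊔ res 2 A := (res_mono ((h1.trans hL).trans (sup_le
    (le_sup_left.trans le_sup_right) (hP.sup_res.ge.trans (sup_le_sup_left le_sup_right _))))).trans
    (res_sup_le_right hP.isPGroup (le_normalizer_sup (hP.le.trans h.nor)
      (le_normalizer_res_of_le hP.le)))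
  have hQG : Q ≤ G := fun x hx => by
    obtain ⟨k, hk⟩ := isPGroup_iff_forall.1 hQ.isPGroup x hx
    exact H14.mem_of_mem_sup_coprime (Nat.coprime_two_right.2 h.tn)
      (.inr ((res_le A).trans h.nor)) hk (nG (res_le X (hQ.le hx))) (h4 (hQ.le hx))
  have nQ : X ≤ N[Q] := mn _ (((hQ.of_le (le_inf hQ.le hQG) inf_le_left).frattini
    (inf_le_left.trans (res_le X)) (le_normalizer_inf (self_le_normalizer_res X) nG)).ge.trans
    (sup_le le_sup_right (inf_le_right.trans le_sup_left)))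
  obtain ⟨K, k1, k2, k3⟩ := exists_compl hQ ((res_le X).trans nQ)
  have nK : X ≤ N[K] := mn _ fun x hx => by
    have e := cj_le_of_le k1 (self_le_normalizer_res (p := 2) X hx)
    obtain ⟨n, hn, e1⟩ := H1.exists_conj_le_of_le_mul (cj x K) Q K (e.trans ((res_le X).trans nQ))
      (cop_two hQ.isPGroup (by rwa [card_cj])) (.inr (sol_two hQ.isPGroup))
      fun a ha => (mem_sup_right_norm (k1.trans ((res_le X).trans nQ))).1 (k3 (e ha))
    rw [← inv_mul_cancel_left n x]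
    exact mul_mem (mem_sup_left (inv_mem (hQG hn))) (mem_sup_right ⟨mul_mem (res_le X (hQ.le hn)) hx,
      mem_normalizer_of_cj_le (by rw [← cj_cj]; exact e1)⟩)
  exact k2.of_dvd_nat (card_dvd_of_le ((res_res X).ge.trans ((res_mono k3).trans
    (res_sup_le_right hQ.isPGroup ((hQ.le.trans (res_le X)).trans nK)))))

/-- operators normalising a Sylow subgroup of an invariant subgroup -/
theorem Oq.exists_syl (h : Oq G A) {p : ℕ} [Fact p.Prime] (hT : IsSyl p T K) (hK : K ≤ G)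
    (hL : L ≤ G ⊔ A) (hc : A ≤ G ⊔ L) (hn : L ≤ N[K]) : ∃ X ≤ (K ⊔ L) ⊓ N[T], Oq G X :=
  h.supp (inf_le_left.trans (sup_le (hK.trans le_sup_left) hL)) (hc.trans (sup_le le_sup_left
    (le_sup_right.trans ((hT.frattini le_sup_left (sup_le le_normalizer hn)).ge.trans
      (sup_le le_sup_right (hK.trans le_sup_left))))))

/-- the hypothesis passes to images -/
theorem Oq.map (h : Oq G A) (f : Γ →* Δ) : Oq (G.map f) (A.map f) := by
  refine ⟨map_le_normalizer_map f h.nor, by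
    rw [← map_res]; exact h.tn.of_dvd_nat (card_map_dvd _ f), ?_⟩
  rintro _ ⟨t, ht, rfl⟩ h2 k
  by_contra h1
  have hz : ∀ x ∈ zpowers (f t), x = 1 ∨ x = f t := by
    rintro _ ⟨n, rfl⟩
    obtain ⟨m, rfl | rfl⟩ := Int.even_or_odd' n
    · left; show f t ^ (2 * m) = 1; rw [zpow_mul, zpow_two, h2, one_zpow]
    · right; show f t ^ (2 * m + 1) = _; rw [zpow_add, zpow_mul, zpow_two, h2, one_zpow, one_mul, zpow_one]
  have hc : ∀ x ∈ (C1[f t]).comap f, ∀ y ∈ (zpowers (f t)).comap f, f (x * y * x⁻¹) = f y :=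
    fun x hx y hy => by
      rw [map_mul, map_mul, map_inv, mul_inv_eq_iff_eq_mul]
      rcases hz _ hy with e | e <;> rw [e]
      · simp
      · exact mem_centralizer_singleton_iff.1 hx
  obtain ⟨T, hT⟩ := exists_isSyl 2 (G ⊓ (zpowers (f t)).comap f)
  obtain ⟨X, h3, h4⟩ := h.exists_syl (L := (G ⊔ A) ⊓ (C1[f t]).comap f) hT inf_le_left inf_le_left
    (fun a ha => by
      obtain ⟨_, ⟨g, hg, rfl⟩, e⟩ := k _ (mem_map_of_mem f ha)
      rw [← mul_inv_cancel_left g a]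
      refine mul_mem (mem_sup_left hg) (mem_sup_right ⟨mul_mem (mem_sup_left (inv_mem hg))
        (mem_sup_right ha), mem_centralizer_singleton_iff.2 ?_⟩)
      rw [map_mul, map_inv, mul_assoc, mul_inv_eq_iff_eq_mul.1 e]; group)
    (le_normalizer_inf (inf_le_left.trans (sup_le le_normalizer h.nor)) fun x hx =>
      mem_normalizer_fintype fun y hy => by rw [SetLike.mem_coe, mem_comap, hc x hx.2 y hy]; exact hy)
  have h5 : X ≤ (C1[f t]).comap f := (h3.trans inf_le_left).trans (sup_le (fun y hy => by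
    rw [mem_comap, mem_centralizer_singleton_iff]
    rcases hz _ hy.2 with e | e <;> rw [e]
    simp) inf_le_right)
  obtain ⟨s, hs, r, hr, e⟩ := hT.exists_mul_res (x := t) ⟨ht, mem_zpowers _⟩
  have h6 : f r = 1 := (isPGroup_map_iff f _).1 ((isPGroup_zpowers (k := 1) (by
    rw [pow_one, sq, h2])).to_le (map_le_iff_le_comap.2 inf_le_right)) hr
  have nT := (res_le (p := 2) X).trans (h3.trans inf_le_right)
  obtain ⟨n, hn, h7⟩ := H1.exists_centralizer_mem_coset' (N := T ⊓ f.ker)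
    (le_normalizer_inf nT le_normalizer_of_normal) (cop_two hT.isPGroup.to_inf_left h4.tn)
    (.inr (sol_two hT.isPGroup.to_inf_left)) s fun a ha => mem_inf.2 ⟨T.mul_mem
      (conj_mem_of_mem_normalizer (nT ha) hs) (T.inv_mem hs), MonoidHom.mem_ker.2 (by
        rw [map_mul, hc a (h5 (res_le X ha)) s (hT.le hs).2]; simp)⟩
  have h8 := congrArg f (mem_bot.1 ((h4.fix hT.isPGroup (hT.le.trans inf_le_left)
    (h3.trans inf_le_right)).le ⟨mul_mem hn.1 hs, h7⟩))
  rw [map_mul, show f n = 1 from hn.2, one_mul, map_one] at h8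
  exact h1 (by rw [e, map_mul, h8, h6, one_mul])

end H26.T4
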