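import Cfsg.Agent.H26.T4Alp
import Cfsg.Agent.H71.FPII4

/-! Case II with `q > 2` for `Env2` (adapted from `H71.FP`). -/

set_option autoImplicit false
set_option linter.unusedSectionVars false

namespace H26.T4

open Subgroup Cfsg H98 H26.FP H67.FP H71.FP
open scoped commutatorElement

universe u

variable {Γ : Type u} [Group Γ] [Finite Γ] {S M J U K B R : Subgroup Γ} {𝒜 : Subgroup (MulAut Γ)}
  {q : ℕ} {s β : Γ}

theorem not_le_X2 (e : Env2 S M 𝒜) (b : Bl q J U K) (hq : q ≠ 2) : ¬ K ≤ (M ⊓ N[U]) ⊔ C[U] := fun h => by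
  obtain ⟨K', h1, h2, h3⟩ := b.big hq
  have := e.solM
  exact h3 (perfect_le h2 (Group.isSolvable_of_isSolvable_injective (inclusion_injective inf_le_left))
    (le_normalizer_centralizer inf_le_right) (h1.trans h))

section
variable (c : Cf S q J U K s) (hB : IsElementaryAbelian 2 B) (h1 : B ≤ S ⊓ N[J])
  (h2 : B ≤ N[U ⊔ cj s U]) (hs : s ∈ B)
  (hm : ∀ A ≤ S ⊓ N[yy J U], IsElementaryAbelian 2 A → Nat.card A ≤ Nat.card B)
include c hB h1 h2 hs hm

/-- (iii) -/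
theorem exists_V2 (e : Env2 S M 𝒜) (hq : q ≠ 2) (ctl : Ctl S M J) :
    ∃ V, U ≤ V ∧ V ≤ S ⊓ N[yy J U] ∧ S ⊓ N[yy J U] ≤ N[V] ∧ IsElementaryAbelian 2 V ∧
      J ⊓ C[U] ≤ C[V] ∧ ∀ E ≤ S ⊓ N[yy J U], H96.AOff 2 V E → E ≤ J ⊔ (S ⊓ N[yy J U] ⊓ C[V]) := by
  have b := c.bl
  have b' := cf_bl' c
  have hU : U ≤ S := b.le.trans (J_le c)
  obtain ⟨q₁, U₁, K₁, b₁, k1, k2, -, k3⟩ := jobBlk Γ (yy J U) (S ⊓ N[yy J U]) ((M ⊓ N[U]) ⊔ C[U]) (oz 2 S)
    {MulAut.conj s} (isPGroup_oz _) (e.solv_cent ((ozS_le c).trans b.oz_le_yy)) c.syl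
    ((le_inf (inf_le_left.trans e.le) (cf_T_nU c)).trans le_sup_left)
    ((centralizer_anti b.le_yy).trans le_sup_right) (fun h => not_le_X2 e b hq (b.nK_yy.trans h))
    (oz_le_oz inf_le_left (ozS_le_T c)) ((inf_le_inf_right _ (cf_N c)).trans (e.cent_oz hU))
    (fun φ hφ => by rw [Set.mem_singleton_iff.1 hφ]; exact cj_eq_self (cf_s_nT c))
    (fun R r1 r2 r3 r4 => by
      have r5 : s ∈ N[R] := cj_eq_self_iff.1 (r4 _ rfl)
      have := ctl R B r2 (r1.trans inf_le_left) ((cf_J_le c).trans r3)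
        (fun x hx => ⟨(h1 hx).1, (split c hB h1 h2 hs hx).elim
          (fun h => (mul_mem_cancel_right r5).1 (r3 (B0_le c h1 h))) fun h => r3 (B0_le c h1 h)⟩) hB
        (fun A hA => hm A (hA.1.trans (cf_J_le c)) hA.2.1)
        fun h => ne' c (cj_eq_self (b.nJ (h hs)))
      exact (inf_le_inf_right _ (cf_N c)).trans (this.ce (H12.ea_isPGroup b.ea) (hU.trans e.le)
        (b.le.trans ((cf_J_le c).trans r3))))
  rw [c.jt] at b₁ k3
  have kU : K₁ ≤ N[U] := k1.trans (cf_N c)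
  have e1 : U₁ = U := by
    by_cases c1 : U₁ ≤ C[U]
    swap
    · obtain rfl := cf_eq' c b₁ c1
      refine (b₁.U_not_le fun u hu => ?_).elim
      obtain ⟨k, hk, hk'⟩ := b₁.cov u hu
      have n := le_normalizer_commutator kU b₁.nK hk
      rw [← b.u0_eq b' c.nc, ← cf_u0 c] at n
      have := conj_mem_of_mem_normalizer' n ⟨conj_mem_of_mem_normalizer (b₁.nK hk) hu, hk'⟩
      simpa [mul_assoc] using this.2
    by_cases c2 : U₁ ≤ C[cj s U]
    swap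
    · exact (cf_eq' (cf_swap c) b₁ c2).trans (cf_ss c)
    refine (k2 (le_trans ?_ le_sup_right)).elim
    have d1 : U ≤ J ⊓ C[U₁] := le_inf b.le (le_centralizer_iff.1 c1)
    have d2 : cj s U ≤ J ⊓ C[U₁] := le_inf b'.le (le_centralizer_iff.1 c2)
    have d3 : ⁅U, K₁⁆ ≤ C[K₁] := by
      refine le_trans ?_ ((commutator_mono d1 d2).trans b₁.DD)
      rw [← b.u0_eq b' c.nc, ← cf_inf c]
      exact le_inf (commutator_le_left' kU) (((commutator_mono d1 le_rfl).trans b₁.dk).trans c2)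
    rw [← le_centralizer_iff, ← commutator_eq_bot_iff_le_centralizer,
      ← commutator_commutator_of_res_eq (H12.ea_isPGroup b.ea) kU b₁.res]
    exact commutator_eq_bot_iff_le_centralizer.2 d3
  subst e1
  exact k3 (cf_T_nU c)

theorem core2 (e : Env2 S M 𝒜) (hq : q ≠ 2) (ctl : Ctl S M J) : False := by
  obtain ⟨V, v1, v2, v3, v4, v5, v6⟩ := exists_V2 c hB h1 h2 hs hm e hq ctl
  have b := c.bl
  have b' := cf_bl' c
  have t0 := B0_le c h1
  have hc := card_B c hB h1 h2 hs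
  have hB0 : IsElementaryAbelian 2 (B ⊓ N[U] : Subgroup Γ) := H12.ea_mono hB inf_le_left
  have fix : ∀ x ∈ B ⊓ N[U], s * x * s⁻¹ = x := fun x hx => by
    rw [H12.ea_comm hB hs hx.1, mul_inv_cancel_right]
  have sq : ∀ x ∈ B ⊓ N[U], x * x = 1 := fun x hx => by rw [← sq, hB.2 x hx.1]
  generalize B ⊓ N[U] = B0 at t0 hc hB0 fix sq
  have hT := cf_J_le c
  obtain ⟨a, ha, ha', hf⟩ := exists_fix_mod (Z := U ⊓ C[J]) (H12.ea_isPGroup b'.ea) (H12.ea_isPGroup hB0)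
    (t0.trans (cf_T_nU' c)) fun h => b'.U_not_le (h.trans inf_le_right)
  have w1 : zpowers a ⊔ U ⊓ C[J] ≤ cj s U := sup_le (zpowers_le.2 ha) ((cf_u0 c).ge.trans inf_le_left)
  have n0 : B0 ≤ N[U ⊓ C[J]] :=
    le_normalizer_inf (t0.trans (cf_T_nU c)) (le_normalizer_centralizer (t0.trans (cf_T_nJ c)))
  have w2 : ⁅zpowers a ⊔ U ⊓ C[J], B0⁆ ≤ U ⊓ C[J] := by
    have n1 : zpowers a ≤ N[U ⊓ C[J]] := le_normalizer_of_le_centralizer
      (le_centralizer_iff.1 (inf_le_right.trans (centralizer_anti (zpowers_le.2 (b'.le ha)))))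
    refine commutator_sup_left_le n1 le_normalizer ?_ (commutator_le_left' n0)
    rw [commutator_comm, zpowers_eq_closure]
    refine commutator_closure_right_le (fun x hx => ?_) fun x hx y hy => ?_
    · exact n1 (Set.mem_singleton_iff.1 hx ▸ mem_zpowers a)
    · rw [Set.mem_singleton_iff.1 hy, ← commutatorElement_inv]; exact inv_mem (hf x hx)
  have ha0 : a ∈ zpowers a ⊔ U ⊓ C[J] := mem_sup_left (mem_zpowers a)
  have w0 : U ⊓ C[J] ≤ zpowers a ⊔ U ⊓ C[J] := le_sup_right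
  generalize zpowers a ⊔ U ⊓ C[J] = W at w1 w2 ha0 w0
  have u0 : U ⊓ C[J] ≤ C[V] := (inf_le_left.trans b.leD).trans v5
  have nW : B0 ≤ N[W] := le_normalizer_of_commutator_le (w2.trans w0) le_rfl
  have hE : B0 ⊔ W ≤ S ⊓ N[yy J U] := sup_le t0 (w1.trans (b'.le.trans hT))
  have nC : S ⊓ N[yy J U] ≤ N[C[V]] := le_normalizer_centralizer v3
  have qU : S ⊓ N[yy J U] ⊓ C[V] ≤ S ⊓ N[yy J U] ⊓ C[U] := inf_le_inf_left _ (centralizer_anti v1)
  have cJ : V ⊓ B0 ≤ C[J] := by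
    rw [← b'.sup_eq b (cf_nc' c), centralizer_sup]
    have d : V ⊓ B0 ≤ C[J ⊓ C[U]] := inf_le_left.trans (le_centralizer_iff.1 v5)
    refine le_inf (d.trans (centralizer_anti b.leD)) fun x hx => ?_
    have := conj_mem_cj (g := s) (d hx)
    rwa [fix x hx.2, cj_centralizer, cj_inf, cj_eq_self c.sJ, cj_centralizer] at this
  have off : H96.AOff 2 V (B0 ⊔ W) := by
    have nB := t0.trans nC
    have nW' := (le_sup_right.trans hE).trans nC
    have bb : ⁅B0, B0⁆ ≤ C[V] := (commutator_eq_bot_iff_le_centralizer.2 (H12.ea_le_centralizer hB0)).le.trans bot_le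
    have ww : ⁅W, W⁆ ≤ C[V] := (commutator_eq_bot_iff_le_centralizer.2
      (H12.ea_le_centralizer (H12.ea_mono b'.ea w1))).le.trans bot_le
    refine ⟨commutator_sup_left_le nB nW' (commutator_sup_right_le nB nW' bb
      ((commutator_comm_le _ _).trans (w2.trans u0))) (commutator_sup_right_le nB nW' (w2.trans u0) ww),
      fun x hx => ?_, ?_⟩
    · obtain ⟨y, hy, w, hw, rfl⟩ := (mem_sup_left_norm nW).1 hx
      have : (y * w) ^ 2 = ⁅w, y⁆⁻¹ := by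
        rw [commutatorElement_inv, commutatorElement_def, inv_eq hB0 hy, inv_eq b'.ea (w1 hw), pow_two]
        group
      rw [this]
      exact inv_mem (u0 (w2 (commutator_mem_commutator hw hy)))
    · have e1 := H12.card_sup_mul_card_inf (A := V) (B := C[V] ⊓ B0)
        (le_normalizer_of_le_centralizer (le_centralizer_iff.1 inf_le_left))
      have e2 := (hm _ (sup_le v2 (inf_le_right.trans t0)) (H12.ea_sup v4 (H12.ea_mono hB0 inf_le_right)
        (le_centralizer_iff.1 inf_le_left))).trans hc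
      have e3 := H12.card_inf_mul_relIndex C[V] B0
      have e4 := H12.card_inf_mul_relIndex C[V] (B0 ⊔ W)
      have e5 : Nat.card (V ⊓ (C[V] ⊓ B0) : Subgroup Γ) ≤ Nat.card (V ⊓ C[B0 ⊔ W] : Subgroup Γ) := by
        refine card_le_of_le (le_inf inf_le_left ?_)
        rw [centralizer_sup]
        exact le_inf ((inf_le_right.trans inf_le_right).trans (H12.ea_le_centralizer hB0))
          (((inf_le_inf_left _ inf_le_right).trans cJ).trans (centralizer_anti (w1.trans b'.le)))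
      have e6 : (C[V]).relIndex B0 * 2 ≤ (C[V]).relIndex (B0 ⊔ W) := by
        rw [← H12.relIndex_sup_of_le_normalizer nB, ← H12.relIndex_sup_of_le_normalizer (hE.trans nC),
          ← relIndex_mul_relIndex C[V] (B0 ⊔ C[V]) (B0 ⊔ W ⊔ C[V]) le_sup_right
            (sup_le_sup_right le_sup_left _)]
        refine Nat.mul_le_mul_left _ ((Nat.two_le_iff _).2 ⟨index_ne_zero_of_finite, fun h => ?_⟩)
        obtain ⟨y, hy, z, hz, e7⟩ := (mem_sup_left_norm nB).1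
          (relIndex_eq_one.1 h (mem_sup_left (mem_sup_right ha0)))
        have e8 : y = a * z⁻¹ := by rw [e7, mul_inv_cancel_right]
        have z1 : z⁻¹ ∈ S ⊓ N[yy J U] ⊓ C[U] := qU (mem_inf.2 ⟨by
          simpa [e8] using mul_mem (inv_mem (hT (b'.le ha))) (t0 hy), (C[V]).inv_mem hz⟩)
        have := iv c (sq y hy) (fix y hy) ha z1 e8
        rw [e8, Subgroup.mul_mem_cancel_right _ (mem_inf.1 z1).2] at this
        exact ha' ((cf_inf' c).le ⟨ha, this⟩)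
      rw [inf_comm (B0 ⊔ W), ← e4]
      have p1 : 0 < Nat.card (C[V] ⊓ B0 : Subgroup Γ) := Nat.card_pos
      have e9 : Nat.card V ≤ (C[V]).relIndex (B0 ⊔ W) * Nat.card (V ⊓ C[B0 ⊔ W] : Subgroup Γ) := by
        refine Nat.le_of_mul_le_mul_right ?_ p1
        rw [← e1]
        calc _ ≤ Nat.card B0 * 2 * Nat.card (V ⊓ C[B0 ⊔ W] : Subgroup Γ) := Nat.mul_le_mul e2 e5
          _ = (C[V]).relIndex B0 * 2 * Nat.card (V ⊓ C[B0 ⊔ W] : Subgroup Γ) *
              Nat.card (C[V] ⊓ B0 : Subgroup Γ) := by rw [← e3]; ring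
          _ ≤ _ := by gcongr
      calc _ ≤ (C[V]).relIndex (B0 ⊔ W) * Nat.card (V ⊓ C[B0 ⊔ W] : Subgroup Γ) *
            Nat.card (C[V] ⊓ (B0 ⊔ W) : Subgroup Γ) := Nat.mul_le_mul_right _ e9
        _ = _ := by ring
  have f1 : B0 ≤ C[U] := fun x hx => by
    have : x ∈ cj s U ⊔ S ⊓ N[yy J U] ⊓ C[U] := by
      refine sup_le ?_ (qU.trans le_sup_right) (v6 _ hE off (mem_sup_left hx))
      rw [← b.sup_eq b' c.nc]
      exact sup_le_sup_left (by rw [b.sup_eq b' c.nc]; exact cf_D_le c) _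
    obtain ⟨u, hu, w, hw, e7⟩ := (mem_sup_left_norm (b'.le.trans (hT.trans (cf_T_nQ c)))).1 this
    exact iv c (sq x hx) (fix x hx) hu hw e7
  have f2 : U ⊓ B0 ≤ C[J] ⊓ U := by
    rw [inf_comm C[J], ← cf_inf c]
    refine inf_le_inf_left _ fun x hx => ?_
    have := conj_mem_cj (g := s) (f1 hx)
    rwa [fix x hx, cj_centralizer] at this
  have e1 := H12.card_sup_mul_card_inf (A := U) (B := B0)
    (le_normalizer_of_le_centralizer (le_centralizer_iff.1 f1))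
  have e2 := (hm _ (sup_le (b.le.trans hT) t0) (H12.ea_sup b.ea hB0 (le_centralizer_iff.1 f1))).trans hc
  have e3 := H12.card_inf_mul_relIndex C[J] U
  rw [b.idxU] at e3
  have e4 := Nat.mul_le_mul e2 (card_le_of_le f2)
  rw [e1, ← e3] at e4
  have p1 : 0 < Nat.card (C[J] ⊓ U : Subgroup Γ) * Nat.card B0 := Nat.mul_pos Nat.card_pos Nat.card_pos
  have : q ≤ 2 := Nat.le_of_mul_le_mul_left (by nlinarith) p1
  have := b.one_lt
  omega

end

theorem ii4 {s₀ : Γ} (e : Env2 S M 𝒜) (c₀ : Cf S q J U K s₀) (hq : q ≠ 2) (hJ : jt 2 S ≠ J)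
    (ctl : Ctl S M J) : False := by
  have b := c₀.bl
  have hJS : J ≤ S ⊓ N[J] := le_inf (J_le c₀) le_normalizer
  obtain ⟨B, hB, hBJ⟩ : ∃ B ∈ H12.maxEA 2 (S ⊓ N[J]), ¬ B ≤ J := by
    by_contra h
    push Not at h
    have h1 : jt 2 (S ⊓ N[J]) = J := by
      rw [← jt_eq_of_le (H12.thompsonSubgroupOf_le_iff.2 h) hJS,
        jt_eq_of_le c₀.jt.le (cf_J_le c₀), c₀.jt]
    refine hJ ?_
    rw [← h1, inf_eq_left.2]
    by_contra hn
    have := lt_inf_normalizer e.two (lt_of_le_of_ne inf_le_left fun h => hn (inf_eq_left.1 h))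
    refine this.not_ge (inf_le_inf_left _ ?_)
    have := le_normalizer_jt (p := 2) (le_refl N[S ⊓ N[J]])
    rwa [h1] at this
  have hm : ∀ A ≤ S ⊓ N[yy J U], IsElementaryAbelian 2 A → Nat.card A ≤ Nat.card B := fun A h hA =>
    hB.2.2 A (h.trans (le_inf inf_le_left (cf_T_nJ c₀))) hA
  obtain ⟨h1, hE, -⟩ := hB
  -- (i)
  obtain ⟨s, hs, hs'⟩ : ∃ s ∈ B, cj s U = cj s₀ U := by
    by_contra h
    push Not at h
    have r1 : (⨆ β : B, cj (β : Γ) U) ⊔ oz 2 J ≤ J ⊓ C[U] :=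
      sup_le (iSup_le fun β => le_inf (b.cj (h1 β.2).2).le (by_contra fun hn =>
        h β β.2 (cf_eq' c₀ (b.cj (h1 β.2).2) hn))) b.oz_le
    have r2 : U ≤ (⨆ β : B, cj (β : Γ) U) ⊔ oz 2 J :=
      ((cj_one U).ge.trans (le_iSup (fun β : B => cj (β : Γ) U) 1)).trans le_sup_left
    have r3 : J ≤ N[(⨆ β : B, cj (β : Γ) U) ⊔ oz 2 J] := le_normalizer_sup
      (le_normalizer_iSup fun β => (b.cj (h1 β.2).2).nJ) (le_normalizer_oz le_normalizer)
    have r4 : B ≤ N[(⨆ β : B, cj (β : Γ) U)] := fun x hx => mem_normalizer_of_cj_le (by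
      rw [cj_le_iff]
      refine iSup_le fun β => ?_
      rw [← cj_le_iff, cj_cj]
      exact le_iSup (fun β : B => cj (β : Γ) U) ⟨_, mul_mem hx β.2⟩)
    have := ctl _ B ((ozS_le c₀).trans le_sup_right) (r1.trans (inf_le_left.trans (J_le c₀))) r3
      (le_inf (h1.trans inf_le_left) (le_normalizer_sup r4 (le_normalizer_oz (h1.trans inf_le_right))))
      hE (fun A hA => hm A (hA.1.trans (cf_J_le c₀)) hA.2.1) hBJ
    exact not_le_X2 e b hq ((le_inf b.nK (b.nK' r2 r1)).trans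
      (this.ce (H12.ea_isPGroup b.ea) (b.le.trans ((J_le c₀).trans e.le)) (b.le.trans r3)))
  have c : Cf S q J U K s := ⟨b, (h1 hs).1, (h1 hs).2, hs' ▸ c₀.nc, c₀.syl, c₀.jt⟩
  clear hs' c₀
  -- (ii)
  have b' := cf_bl' c
  have sq : ∀ x ∈ B, x * x = 1 := fun x hx => by rw [← sq, hE.2 x hx]
  have hs1 : s ∈ B ⊓ N[U ⊔ cj s U] := ⟨hs, cj_eq_self_iff.1 (by rw [cj_sup, cf_ss c, sup_comm])⟩
  have t0 := B0_le c h1
  obtain ⟨y, hy, hy', hf⟩ := exists_fix_mod (Z := U ⊓ C[J]) (H12.ea_isPGroup b.ea)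
    (H12.ea_isPGroup (H12.ea_mono hE (inf_le_left : B ⊓ N[U] ≤ B))) inf_le_right
    fun h => b.U_not_le (h.trans inf_le_right)
  have y1 : s * y * s⁻¹ ∈ cj s U := conj_mem_cj hy
  have z0 : ⁅s * y * s⁻¹, y⁆ ∈ U ⊓ C[J] := b.comm_mem (b'.le y1) hy
  have z1 : ⁅s * y * s⁻¹, y⁆ ∉ C[K] := fun h => (b.reg _ (b'.le y1) y hy h).elim
    (fun h => hy' ⟨hy, mem_C c hy ((cf_inf' c).le ⟨y1, h⟩).2⟩) fun h => hy' ⟨hy, h⟩
  have z2 : s * ⁅s * y * s⁻¹, y⁆ * s⁻¹ = ⁅s * y * s⁻¹, y⁆ := by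
    rw [conjugate_commutatorElement, ← inv_eq b.ea z0.1, commutatorElement_inv]
    congr 1
    calc s * (s * y * s⁻¹) * s⁻¹ = (s * s) * y * (s * s)⁻¹ := by group
      _ = y := by rw [sq s hs]; group
  have z3 : ∀ x ∈ B ⊓ N[U], x * ⁅s * y * s⁻¹, y⁆ * x⁻¹ = ⁅s * y * s⁻¹, y⁆ := fun x hx => by
    have w1 := inv_mem (hf x hx)
    have w2 : s * ⁅y, x⁆⁻¹ * s⁻¹ ∈ C[J] := by
      rw [← cj_eq_self c.sJ, ← cj_centralizer]; exact conj_mem_cj w1.2
    have e1 : x * y * x⁻¹ = ⁅y, x⁆⁻¹ * y := by simp only [commutatorElement_def]; group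
    have e2 : x * (s * y * s⁻¹) * x⁻¹ = s * ⁅y, x⁆⁻¹ * s⁻¹ * (s * y * s⁻¹) := by
      rw [conj_mul, ← e1]
      calc _ = (x * s) * y * (x * s)⁻¹ := by group
        _ = _ := by rw [H12.ea_comm hE hx.1 hs]; group
    rw [conjugate_commutatorElement, e1, e2]
    have j1 := b'.le y1
    have j2 := b.le hy
    have j3 := b.le w1.1
    generalize s * y * s⁻¹ = v at j1
    generalize s * ⁅y, x⁆⁻¹ * s⁻¹ = w' at w2
    generalize ⁅y, x⁆⁻¹ = w at w1 j3
    have c1 : Commute (v * (w * y) * v⁻¹) w' := w2 _ (mul_mem (mul_mem j1 (mul_mem j3 j2)) (inv_mem j1))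
    have c2 : Commute v w := w1.2 v j1
    have c3 : Commute ⁅v, y⁆ w := w1.2 _ (mul_mem (mul_mem (mul_mem j1 j2) (inv_mem j1)) (inv_mem j2))
    calc ⁅w' * v, w * y⁆ = w' * (v * (w * y) * v⁻¹) * w'⁻¹ * (w * y)⁻¹ := by
          simp only [commutatorElement_def]; group
      _ = (v * w) * y * v⁻¹ * y⁻¹ * w⁻¹ := by rw [← c1.eq]; group
      _ = w * ⁅v, y⁆ * w⁻¹ := by rw [c2.eq, commutatorElement_def]; group
      _ = _ := by rw [← c3.eq, mul_inv_cancel_right]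
  generalize ⁅s * y * s⁻¹, y⁆ = ζ at z0 z1 z2 z3
  have h1' : B ⊓ N[U ⊔ cj s U] ≤ S ⊓ N[J] := inf_le_left.trans h1
  have hE' := H12.ea_mono hE (inf_le_left : B ⊓ N[U ⊔ cj s U] ≤ B)
  have z4 : ζ ∈ C[B ⊓ N[U ⊔ cj s U]] := fun x hx => by
    rw [← mul_inv_eq_iff_eq_mul]
    rcases split c hE' h1' inf_le_right hs1 hx with h | h
    · have := z3 _ ⟨h.1.1, h.2⟩
      rwa [mul_inv_rev, mul_assoc x, ← mul_assoc, mul_assoc x, z2] at this
    · exact z3 _ ⟨h.1.1, h.2⟩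
  have z5 : ∀ β ∈ B, β ∉ B ⊓ N[U ⊔ cj s U] → β * ζ * β⁻¹ ∈ C[K] := fun β hβ h =>
    cent_of c (h1 hβ).1 (h1 hβ).2 (sq β hβ) (fun h' => h ⟨hβ, h'⟩) (conj_mem_cj z0)
  have n1 : B ⊓ N[U ⊔ cj s U] ≤ N[U ⊔ cj s U] := inf_le_right
  have l1 : B ⊓ N[U ⊔ cj s U] ≤ B := inf_le_left
  generalize B ⊓ N[U ⊔ cj s U] = B1 at hs1 h1' hE' z4 z5 n1 l1
  have fixB : ∀ x ∈ B, ∀ β ∈ B, β⁻¹ * x * β = x := fun x hx β hβ => by
    rw [mul_assoc, H12.ea_comm hE hx hβ, inv_mul_cancel_left]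
  classical
  have key := (H52.relIndex_le_of_map (A := B) (A₀ := B1) (B := oz 2 J ⊓ C[B1]) (B₀ := B)
    (fun β => if β ∈ B1 then 1 else β * ζ * β⁻¹) (fun β hβ => by
      split_ifs
      · exact one_mem _
      · exact conj_mem_of_mem_normalizer (le_normalizer_inf (le_normalizer_oz (h1.trans inf_le_right))
          (le_normalizer_of_le ((H12.ea_le_centralizer hE).trans (centralizer_anti l1))) hβ)
          ⟨b.u0_le z0, z4⟩)
    fun β hβ γ hγ h => by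
      have one : ∀ γ ∈ B, γ ∉ B1 → γ * ζ * γ⁻¹ ∉ B := fun γ hγ h1 h2 => z1 (by
        have := fixB _ h2 γ hγ
        rw [show γ⁻¹ * (γ * ζ * γ⁻¹) * γ = ζ by group] at this
        exact this ▸ z5 γ hγ h1)
      split_ifs at h with i1 i2 i2
      · exact mul_mem (inv_mem i1) i2
      · exact (one γ hγ i2 (by simpa using h)).elim
      · exact (one β hβ i1 (by simpa using inv_mem h)).elim
      · by_contra i3
        have := fixB _ h β hβ
        rw [show β⁻¹ * ((β * ζ * β⁻¹)⁻¹ * (γ * ζ * γ⁻¹)) * β =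
          ζ⁻¹ * (β⁻¹ * γ * ζ * (β⁻¹ * γ)⁻¹) by group] at this
        have i4 := mul_mem (inv_mem (z5 β hβ i1)) (z5 γ hγ i2)
        rw [← this, mul_mem_cancel_right (z5 _ (mul_mem (inv_mem hβ) hγ) i3), inv_mem_iff] at i4
        exact z1 i4).1
  have cm : B1 ≤ C[oz 2 J ⊓ C[B1]] := le_centralizer_iff.1 inf_le_right
  have oJ : oz 2 J ⊓ C[B1] ≤ J := inf_le_left.trans (oz_le J)
  refine core2 c (H12.ea_sup hE' (H12.ea_mono (ea_oz J) inf_le_left) cm) (sup_le h1' (oJ.trans hJS))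
    (sup_le n1 (oJ.trans (le_normalizer_sup b.nJ b'.nJ))) (mem_sup_left hs1)
    (fun A h hA => (hm A h hA).trans ?_) e hq ctl
  have e1 := H12.card_sup_mul_card_inf (le_normalizer_of_le_centralizer cm)
  have e2 := H12.card_inf_mul_relIndex B1 B
  have e3 := H12.card_inf_mul_relIndex B (oz 2 J ⊓ C[B1])
  have e4 : Nat.card (B1 ⊓ (oz 2 J ⊓ C[B1]) : Subgroup Γ) ≤ Nat.card (B ⊓ (oz 2 J ⊓ C[B1]) : Subgroup Γ) :=
    card_le_of_le (inf_le_inf_right _ l1)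
  rw [inf_of_le_left l1] at e2
  refine Nat.le_of_mul_le_mul_right ?_ (Nat.card_pos (α := (B1 ⊓ (oz 2 J ⊓ C[B1]) : Subgroup Γ)))
  rw [e1, ← e2, ← e3, mul_assoc, mul_comm (B1.relIndex B)]
  gcongr

end H26.T4
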