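import Cfsg.Agent.H26.FPSpec2

/-! Interface of the version of the tower `H26.FP` for operators of arbitrary order. -/

set_option autoImplicit false

namespace H26.T4

open Subgroup Cfsg H98 H26.FP
open scoped commutatorElement

universe u

/-- A class of pairs (group, operators) closed under invariant sections, with the property X3. -/
structure Kl (P : ∀ (Γ : Type u) [Group Γ], Subgroup Γ → Subgroup Γ → Prop) : Prop where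
  nor : ∀ {Γ : Type u} [Group Γ] {G A : Subgroup Γ}, P Γ G A → A ≤ N[G]
  mono : ∀ {Γ : Type u} [Group Γ] [Finite Γ] {G A K : Subgroup Γ}, P Γ G A → K ≤ G → A ≤ N[K] →
    P Γ K A
  map : ∀ {Γ Δ : Type u} [Group Γ] [Finite Γ] [Group Δ] [Finite Δ] {G A : Subgroup Γ}, P Γ G A →
    ∀ f : Γ →* Δ, P Δ (G.map f) (A.map f)
  of_map : ∀ {Γ Δ : Type u} [Group Γ] [Finite Γ] [Group Δ] [Finite Δ] {G A : Subgroup Γ}
    {f : Γ →* Δ}, Function.Injective f → P Δ (G.map f) (A.map f) → P Γ G A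
  x3 : ∀ {Γ : Type u} [Group Γ] [Finite Γ] {G A M : Subgroup Γ} {d : Γ}, P Γ G A →
    Group.IsSolvable G → M ≤ G → M ≤ C[M] → IsPGroup 2 M → G ≤ N[M] → A ≤ N[M] → d ∈ G →
    (∃ k, d ^ 3 ^ k = 1) → (C1[d]).relIndex M ≠ 4

/-- **TF**: invariant solvable overgroups of `S` normalise `W` modulo their core. -/
def JobTF2 : Prop := ∀ P : ∀ (Γ : Type u) [Group Γ], Subgroup Γ → Subgroup Γ → Prop, Kl P →
  ∀ (Γ : Type u) [Group Γ] [Finite Γ] (G A S H : Subgroup Γ), P Γ G A →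
  IsSyl 2 S G → A ≤ N[S] → Group.IsSolvable (G ⊓ N[jt 2 S] : Subgroup Γ) →
  S ≤ H → H ≤ G → A ≤ N[H] → Group.IsSolvable H →
  ∀ g ∈ H, ∃ m ∈ N[ww G S], ∃ o ∈ H14.opp 2 H, g = m * o

/-- The local situation in a minimal counterexample (the group is the type `Γ`). -/
structure Env2 {Γ : Type*} [Group Γ] (S M : Subgroup Γ) (𝒜 : Subgroup (MulAut Γ)) : Prop where
  syl : IsSyl 2 S ⊤
  ne : S ≠ ⊥
  inv : Inv 𝒜 S
  solM : Group.IsSolvable M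
  ns : N[S] ≤ M
  loc : ∀ R ≤ S, R ≠ ⊥ → S ≤ N[R] → Inv 𝒜 R →
    ∀ g ∈ N[R], ∃ m ∈ M, ∃ o ∈ H14.opp 2 N[R], g = m * o
  sol : ∀ R : Subgroup Γ, R ≠ ⊥ → IsPGroup 2 R → Inv 𝒜 R → Group.IsSolvable N[R]
  x3 : ∀ R : Subgroup Γ, R ≤ C[R] → IsPGroup 2 R → Inv 𝒜 R → ∀ d ∈ N[R], (∃ k, d ^ 3 ^ k = 1) →
    (C1[d]).relIndex R ≠ 4
  xq : ∀ R C T : Subgroup Γ, R ≤ C[R] → IsPGroup 2 R → Inv 𝒜 R → C ≤ R → T ≤ N[R] ⊓ C[C] →
    2 < C.relIndex R → (∀ x ∈ R, x ∉ C → ∀ y ∈ R, y ∉ C → ∃ t ∈ T, (t * x * t⁻¹)⁻¹ * y ∈ C) → False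
  sgn : ∀ (Θ : Set Γ) (u c c' : Γ), (∀ a ∈ 𝒜, ∀ x ∈ Θ, a x ∈ Θ) → c ∈ Θ → c' ∈ Θ → c ≠ c' →
    u * c * u⁻¹ = c' → u * c' * u⁻¹ = c → (∀ x ∈ Θ, x ≠ c → x ≠ c' → u * x * u⁻¹ = x) → False

/-- **Ctl**: `M` controls strong fusion in `S`. -/
def JobCtl2 : Prop := ∀ (Γ : Type u) [Group Γ] [Finite Γ] (S M : Subgroup Γ)
  (𝒜 : Subgroup (MulAut Γ)), Env2 S M 𝒜 → ∀ (X : Subgroup Γ) (g : Γ), X ≤ S → cj g X ≤ S →
  ∃ m ∈ M, ∃ c ∈ C[X], g = m * c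

end H26.T4
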