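import Cfsg.Agent.H26.T4Spec
import Cfsg.Agent.H9.FTD
import Cfsg.Agent.H53.FPBL

/-! Invariant triple factorization for operators of any order (adapted from `H9.FT`), part 1. -/

set_option autoImplicit false

namespace H26.T4

open Subgroup Cfsg H98 H13 H26.FP H9.FT
open scoped commutatorElement

universe u

variable {P : ∀ (Γ : Type u) [Group Γ], Subgroup Γ → Subgroup Γ → Prop}

/-- The module bounds for a solvable group with operators. -/
theorem blk (kl : Kl P) {L : Type u} [Group L] [Finite L]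
    {G A M R : Subgroup L} (op : P L G A) (hG : Group.IsSolvable G) (hMG : M ≤ G) (hM : M ≤ C[M])
    (hM2 : IsPGroup 2 M) (hGM : G ≤ N[M]) (hAM : A ≤ N[M]) (hred : Red 2 M G) (hA : R ≤ G)
    (hA1 : ⁅R, R⁆ ≤ C[M]) (hA2 : ∀ a ∈ R, a ^ 2 ∈ C[M]) :
    (C[M]).relIndex R ^ 2 ≤ (C[R]).relIndex M ∧
      (C[M]).relIndex R ^ 2 ≤ Nat.card (⁅M, R⁆ : Subgroup L) := by
  let _ : CommGroup M :=
    { (inferInstance : Group M) with mul_comm := fun a b => Subtype.ext (hM b.2 a a.2) }
  let ψ : G →* MulAut M := M.normalizerMonoidHom.comp (inclusion hGM)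
  have hk : ψ.ker = (C[M]).subgroupOf G := by
    ext g; rw [MonoidHom.mem_ker, mem_subgroupOf]; exact nmh_eq_one
  let f := ψ.rangeRestrict
  have hf : Function.Surjective f := ψ.rangeRestrict_surjective
  have hR : IsElementaryAbelian 2 ((R.subgroupOf G).map f) := by
    refine ⟨IsMulCommutative.of_setLike_mul_comm ?_, ?_⟩
    · rintro _ ⟨a, ha, rfl⟩ _ ⟨b, hb, rfl⟩
      rw [← commutatorElement_eq_one_iff_mul_comm, ← map_commutatorElement, ← MonoidHom.mem_ker,
        MonoidHom.ker_rangeRestrict, hk]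
      exact hA1 (commutator_mem_commutator ha hb)
    · rintro _ ⟨a, ha, rfl⟩
      rw [← map_pow, ← MonoidHom.mem_ker, MonoidHom.ker_rangeRestrict, hk]
      exact hA2 a ha
  have hc : Nat.card ((R.subgroupOf G).map f) = (C[M]).relIndex R := by
    rw [← relIndex_ker, MonoidHom.ker_rangeRestrict, hk, relIndex_subgroupOf hA]
  obtain ⟨h1, h2⟩ := H53.FP.jobBL ψ.range M ψ.range.subtype (solvable_of_surjective hf)
    (pCoreOf_eq_bot_iff.1 ((red_iff_pCoreOf_map ψ hk).1 hred)) hM2 ψ.range.subtype_injective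
    (fun d hd => by
      obtain ⟨g, -, rfl, k, e⟩ := exists_lift_pow (K := ⊤) f Nat.prime_three (y := d)
        ((hf d).imp fun g e => ⟨trivial, e⟩) ⟨1, hd⟩
      refine (kl.x3 (d := (g : L)) op hG hMG hM hM2 hGM hAM g.2
        ⟨k, congrArg Subtype.val e⟩).imp fun k => Eq.trans ?_ k
      rw [relIndex]
      congr 1
      ext m
      rw [mem_fixSub_singleton, mem_subgroupOf, mem_centralizer_singleton_iff, Subtype.ext_iff]
      exact eq_comm.trans mul_inv_eq_iff_eq_mul.symm) _ hR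
  rw [← hc]
  refine ⟨h1.trans_eq ?_, h2.trans ?_⟩
  · rw [relIndex]
    congr 1
    ext m
    rw [mem_fixSub, mem_subgroupOf, mem_centralizer_iff]
    constructor
    · intro h a ha
      exact mul_inv_eq_iff_eq_mul.mp (congrArg Subtype.val (h _ ⟨⟨a, hA ha⟩, ha, rfl⟩))
    · rintro h _ ⟨a, ha, rfl⟩
      exact Subtype.ext (mul_inv_eq_iff_eq_mul.mpr (h a ha))
  · rw [← card_map_of_injective M.subtype_injective]
    refine card_le_of_le (map_le_iff_le_comap.mpr ((closure_le _).mpr ?_))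
    rintro _ ⟨_, ⟨a, ha, rfl⟩, v, rfl⟩
    rw [commutator_comm]
    exact commutator_mem_commutator ha v.2

theorem ppk (kl : Kl P) {L : Type u} [Group L] [Finite L]
    {G A V : Subgroup L} (op : P L G A) (hG : Group.IsSolvable G) (h : PRed 2 V G)
    (hA : A ≤ N[V]) : PP V G := by
  intro R hR h1 h2 h3
  obtain ⟨h4, h5⟩ := blk kl op hG h.le (H12.ea_le_centralizer h.ea) h.isPGroup h.norm hA h.red
    hR h1 h2
  have h6 := one_lt_relIndex h3
  refine ⟨lt_of_lt_of_le ?_ (Nat.pow_le_pow_left h4 2), lt_of_lt_of_le ?_ h5⟩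
  · rw [← pow_mul]; exact Nat.pow_lt_pow_right h6 (by norm_num)
  · nlinarith

variable {Γ : Type u} [Group Γ] [Finite Γ] {G A S Q : Subgroup Γ}

/-- The situation of a minimal counterexample. -/
structure Mk (P : ∀ (Γ : Type u) [Group Γ], Subgroup Γ → Subgroup Γ → Prop) (G A S Q : Subgroup Γ) :
    Prop where
  kl : Kl P
  op : P Γ G A
  nG : G.Normal
  top : G ⊔ A = ⊤
  sol : Group.IsSolvable G
  syl : IsSyl 2 S G
  eQ : pCoreOf 2 G = Q
  char : G ⊓ C[Q] ≤ Q
  mp : ∀ F : Subgroup Γ, F.Normal → S ⊓ F ≤ Q ∨ res 2 G ≤ F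

omit [Finite Γ] in
theorem Mk.le (h : Mk P G A S Q) : S ≤ G := h.syl.le

omit [Finite Γ] in
theorem Mk.two (h : Mk P G A S Q) : IsPGroup 2 Q := h.eQ ▸ isPGroup_pCoreOf G

theorem Mk.QS (h : Mk P G A S Q) : Q ≤ S := h.eQ ▸ h.syl.pCoreOf_le

theorem Mk.nK (h : Mk P G A S Q) : (res 2 G).Normal :=
  have := h.nG
  normal_of_top_le_normalizer (le_normalizer_res le_normalizer_of_normal)

theorem Mk.Q_le (h : Mk P G A S Q) : Q ≤ G := h.QS.trans h.le

variable [Q.Normal]

omit [Q.Normal] in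
theorem Mk.bl' (h : Mk P G A S Q) {L : Type u} [Group L] (π : Γ →* L) (hπ : Function.Surjective π)
    {M R : Subgroup Γ} [(M.map π).Normal] (hM : M ≤ Q)
    (h1 : Q ≤ (C[M.map π]).comap π) (h2 : ¬ res 2 G ≤ (C[M.map π]).comap π) (hR : R ≤ S)
    (he : IsElementaryAbelian 2 R) :
    Q.relIndex R ^ 2 ≤ (C[R.map π]).relIndex (M.map π) ∧
      Q.relIndex R ^ 2 ≤ Nat.card (⁅M.map π, R.map π⁆ : Subgroup L) := by
  have : Finite L := Finite.of_surjective π hπ
  have := h.nG.map π hπ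
  have hred : Red 2 (M.map π) (G.map π) := fun D hD hn hr => by
    let τ := QuotientGroup.mk' C[M.map π]
    have hk : τ.ker = C[M.map π] := QuotientGroup.ker_mk' _
    have := this.map τ (QuotientGroup.mk'_surjective _)
    have : (pCoreOf 2 ((G.map π).map τ)).Normal :=
      normal_of_top_le_normalizer (le_normalizer_pCoreOf le_normalizer_of_normal)
    have h0 := map_le_iff_le_comap.1 (le_pCoreOf ((isPGroup_map_iff τ D).2 (hk ▸ hr)) (map_mono hD)
      (map_le_normalizer_map τ hn))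
    have h4 : ∀ X ≤ (pCoreOf 2 ((G.map π).map τ)).comap τ, res 2 X ≤ C[M.map π] := fun X hX =>
      hk ▸ (isPGroup_map_iff τ X).1 ((isPGroup_pCoreOf _).to_le (map_le_iff_le_comap.2 hX))
    generalize hF : (pCoreOf 2 ((G.map π).map τ)).comap τ = F at h0 h4
    have : F.Normal := hF ▸ inferInstance
    rcases h.mp (F.comap π) inferInstance with h3 | h3
    · refine (le_inf h0 hD).trans (((h.syl.map π).inf_of_le_normalizer (N := F ⊓ G.map π) inf_le_right
        le_normalizer_of_normal).sup_res.ge.trans (sup_le ?_ (h4 _ inf_le_left)))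
      rintro _ ⟨⟨s, hs, rfl⟩, hd⟩
      exact h1 (h3 ⟨hs, hd.1⟩)
    · refine (h2 (map_le_iff_le_comap.1 ?_)).elim
      rw [← res_res, map_res]
      exact h4 _ (map_le_iff_le_comap.2 h3)
  have h5 := blk h.kl (h.kl.map h.op π) (solv_map h.sol π) (map_mono (hM.trans h.Q_le))
    (map_le_iff_le_comap.2 (hM.trans h1)) ((h.two.to_le hM).map π)
    le_normalizer_of_normal le_normalizer_of_normal
    hred
    (map_mono (hR.trans h.le))
    (by rw [commutator_eq_bot_iff_le_centralizer.mpr (H12.ea_le_centralizer (H12.ea_map he _))]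
        exact bot_le)
    (fun a ha => by rw [(H12.ea_map he _).2 a ha]; exact one_mem _)
  have h6 := (h.mp ((C[M.map π]).comap π) inferInstance).resolve_right h2
  have h7 : Q.relIndex R ≤ (C[M.map π]).relIndex (R.map π) := by
    rw [← relIndex_comap, ← inf_relIndex_left R (comap _ _)]
    exact relIndex_mono_left ((inf_le_inf_right _ hR).trans h6) _
  exact h5.imp (Nat.pow_le_pow_left h7 2).trans (Nat.pow_le_pow_left h7 2).trans

theorem Mk.sec (h : Mk P G A S Q) {R : Subgroup Γ} (hA : R ≤ S) (he : IsElementaryAbelian 2 R)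
    (M N : Subgroup Γ) [M.Normal] [N.Normal] (hM : M ≤ Q) (hn : ¬ ⁅M, res 2 G⁆ ≤ N) :
    Q.relIndex R ^ 2 ≤ (stab R N).relIndex M := by
  obtain ⟨M', N', _, _, h1, h2, h3, h4⟩ :=
    exists_section h.two (res_res G) M hM hn
  have hπ := QuotientGroup.mk'_surjective N'
  have : (M'.map (QuotientGroup.mk' N')).Normal := Normal.map inferInstance _ hπ
  rw [← le_stab, ← comap_centralizer_mk] at h3 h4
  have h5 := (h.bl' _ hπ (h1.trans hM) h3 h4 hA he).1
  rw [← relIndex_comap, comap_centralizer_mk] at h5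
  exact h5.trans ((relIndex_mono_left (stab_mono h2) _).trans (relIndex_mono_right _ h1))

theorem Mk.le_pCore (h : Mk P G A S Q) {V : Subgroup Γ} (hV : V ≤ S)
    (hn : S ≤ normalizer (V : Set Γ)) (he : IsElementaryAbelian 2 V)
    (hP : PP V S) : V ≤ Q := by
  by_contra hVQ
  have hQS : Q ≤ S := h.QS
  let π := QuotientGroup.mk' Q
  have hπ : ∀ g, π g = 1 ↔ g ∈ Q := fun g => QuotientGroup.eq_one_iff g
  have := h.nG.map π (QuotientGroup.mk'_surjective Q)
  obtain ⟨_, ⟨a, ha, rfl⟩, x, hxG, p, hp, hp2, hx, hax, hb⟩ :=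
    exists_inverted (solv_map h.sol π) (by
      rw [← map_pCoreOf_of_ker ((QuotientGroup.ker_mk' Q).symm ▸ h.two), h.eQ,
        Subgroup.map_eq_bot_iff, QuotientGroup.ker_mk']) (H12.ea_map he π) (map_mono (hV.trans h.le))
      (by rwa [Ne, Subgroup.map_eq_bot_iff, QuotientGroup.ker_mk'])
  have hc : ∀ r ∈ C1[x], r * x = x * r := fun r => mem_centralizer_singleton_iff.1
  generalize C1[x] = R' at hb hc
  rw [← relIndex_comap] at hb
  set R := R'.comap π with hR
  have hx2 : ∀ j : ℕ, x ^ 2 ^ j ≠ 1 := fun j e => hp2 ((Nat.prime_dvd_prime_iff_eq hp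
    Nat.prime_two).mp (hp.dvd_of_dvd_pow (hx ▸ orderOf_dvd_of_pow_eq_one e)))
  have hα : 1 < R.relIndex V := one_lt_relIndex fun e => hx2 1 (by
    rwa [hc _ (e ha), mul_inv_cancel_right, eq_inv_iff_mul_eq_one, ← pow_two] at hax)
  have hk : R.relIndex V ^ 2 = 4 := by rw [le_antisymm hb hα]; rfl
  have key : ∀ y ∈ G, (orderOf y).Coprime 2 → π y ≠ 1 → π y ^ p = 1 →
      (∀ r ∈ R', r * π y = π y * r) → π a * π y * (π a)⁻¹ = (π y)⁻¹ →
      R.relIndex V ^ 2 ≤ (centralizer (V : Set Γ)).relIndex (cj y (R ⊓ V)) ∧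
      (centralizer (V : Set Γ)).relIndex (cj y (R ⊓ V)) ^ 3 <
        (R.relIndex V * (centralizer (V : Set Γ)).relIndex (cj y⁻¹ (R ⊓ V))) ^ 2 := by
    intro y hyG hy hy1 hyp hyc hya
    have h1 : R.relIndex V ^ 2 ≤ (centralizer (V : Set Γ)).relIndex (cj y (R ⊓ V)) := by
      obtain ⟨M, N, _, _, h1, -, h3, h4⟩ := exists_section (N := ⊥) h.two
        (res_eq_self_of_coprime (H := zpowers y) (by rwa [Nat.card_zpowers])) Q le_rfl (by
          rw [← le_stab, stab_bot, zpowers_le]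
          exact fun e => hy1 ((hπ y).mpr (h.char ⟨hyG, e⟩)))
      let ρ := QuotientGroup.mk' N
      have : (M.map ρ).Normal := Normal.map inferInstance _ (QuotientGroup.mk'_surjective N)
      rw [← le_stab, ← comap_centralizer_mk] at h3 h4
      obtain ⟨D, d1, d2, d3⟩ := exists_comm_part_amb (M := M.map ρ) (a := ρ a) (x := ρ y)
        (map_le_iff_le_comap.mpr (h1.trans h3)) ((h.two.to_le h1).map _)
        (le_normalizer_of_normal (mem_top _)) (le_normalizer_of_normal (mem_top _)) hp hp2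
        (by rw [← map_pow]; exact h3 ((hπ _).mp (by rwa [map_pow])))
        (fun e => h4 (zpowers_le.mpr e))
        (by rw [← map_inv, ← map_mul, ← map_mul, ← map_mul]
            exact h3 ((hπ _).mp (by rw [map_mul, map_mul, map_mul, map_inv, hya, inv_mul_cancel])))
        fun e => h.kl.x3 (h.kl.map h.op ρ) (solv_map h.sol ρ) (map_mono (h1.trans h.Q_le))
          (map_le_iff_le_comap.mpr (h1.trans h3)) ((h.two.to_le h1).map _)
          le_normalizer_of_normal le_normalizer_of_normal (mem_map_of_mem ρ hyG)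
          ⟨1, by rw [pow_one, ← e, ← map_pow, H10.eq_one_of_mem_isPGroup_of_coprime
            h.two ((hπ _).mp (by rwa [map_pow]))
            (hy.coprime_dvd_left (orderOf_pow_dvd p)), map_one]⟩
      have d4 : D ≤ (cj y (R ⊓ V)).map ρ := by
        intro d hd
        obtain ⟨_, ⟨m, hm, rfl⟩, rfl⟩ := d1 d hd
        have m1 : y⁻¹ * m * y ∈ Q := Normal.conj_mem' inferInstance m (h1 hm) y
        refine ⟨⁅y * a * y⁻¹, m⁆, mem_cj.mpr ?_, by simp [map_commutatorElement]⟩
        rw [show y⁻¹ * ⁅y * a * y⁻¹, m⁆ * y = ⁅a, y⁻¹ * m * y⁆ by simp only [commutatorElement_def]; group]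
        refine ⟨?_, H12.commutator_le_of_le_normalizer hn (commutator_mem_commutator ha (hQS m1))⟩
        change π _ ∈ R'
        rw [(hπ _).mpr (commutator_le_right V Q (commutator_mem_commutator ha m1))]
        exact one_mem _
      have d5 : centralizer {ρ a} ⊓ D = ⊥ := by
        rw [eq_bot_iff]
        rintro d ⟨e, hd⟩
        refine d3 d hd (e _ rfl) ?_
        obtain ⟨_, ⟨v, hv, rfl⟩, rfl⟩ := d4 hd
        rw [← map_inv, ← map_mul, ← map_mul, ← map_mul, ← map_mul]
        congr 1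
        change y * a * y⁻¹ * (y * v * y⁻¹) = y * v * y⁻¹ * (y * a * y⁻¹)
        rw [conj_mul, conj_mul, H12.ea_comm he ha hv.2]
      rw [hk]
      refine d2.trans ?_
      rw [← relIndex_bot_left, ← d5, inf_relIndex_right]
      refine (relIndex_mono_right _ d4).trans ?_
      rw [← relIndex_comap]
      refine relIndex_mono_left (fun c hc => ?_) _
      rw [mem_comap, mem_centralizer_singleton_iff, ← map_mul, ← map_mul, hc a ha]
    refine ⟨h1, ?_⟩
    have h2 : cj y (R ⊓ V) ≤ S := by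
      rintro _ ⟨v, hv, rfl⟩
      have : y * v * y⁻¹ * v⁻¹ ∈ Q := (hπ _).mp (by
        rw [map_mul, map_mul, map_mul, ← hyc _ hv.1]; simp)
      simpa using mul_mem (hQS this) (hV hv.2)
    have h3 := H12.ea_map (H12.ea_mono he (inf_le_right : R ⊓ V ≤ V)) (MulAut.conj y).toMonoidHom
    refine (hP _ h2 (by
      rw [commutator_eq_bot_iff_le_centralizer.mpr (H12.ea_le_centralizer h3)]; exact bot_le)
      (fun a ha => by rw [h3.2 a ha]; exact one_mem _) fun e => ?_).1.trans_le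
      (Nat.pow_le_pow_left ?_ 2)
    · rw [relIndex_eq_one.mpr e] at h1
      nlinarith
    · rw [← relIndex_centralizer_map (f := (MulAut.conj y).toMonoidHom) (MulAut.conj y).injective V (cj y⁻¹ (R ⊓ V)), mul_comm]
      change _ ≤ (centralizer (cj y V : Set Γ)).relIndex (cj y (cj y⁻¹ (R ⊓ V))) * _
      rw [cj_cj_inv, relIndex_inf_mul_relIndex]
      exact relIndex_mono_left (inf_le_left.trans (H12.centralizer_anti (cj_mono y inf_le_right))) _
  obtain ⟨y, hyG, rfl⟩ := hxG
  obtain ⟨j, hj⟩ := H7.exists_pow_coprime (p := 2) y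
  have e1 : π (y ^ 2 ^ j) ≠ 1 := by rw [map_pow]; exact hx2 j
  have e2 : π (y ^ 2 ^ j) ^ p = 1 := by
    rw [map_pow, ← pow_mul, mul_comm, pow_mul, ← hx, pow_orderOf_eq_one, one_pow]
  have e3 : ∀ r ∈ R', r * π (y ^ 2 ^ j) = π (y ^ 2 ^ j) * r := fun r hr => by
    rw [map_pow]; exact (Commute.pow_right (hc r hr) _).eq
  have e4 : π a * π (y ^ 2 ^ j) * (π a)⁻¹ = (π (y ^ 2 ^ j))⁻¹ := by
    rw [map_pow, ← conj_pow, hax, inv_pow]
  obtain ⟨k1, k2⟩ := key _ (pow_mem hyG _) hj e1 e2 e3 e4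
  obtain ⟨k3, k4⟩ := key (y ^ 2 ^ j)⁻¹ (inv_mem (pow_mem hyG _)) (by rwa [orderOf_inv])
    (by rwa [map_inv, Ne, inv_eq_one])
    (by rw [map_inv, inv_pow, e2, inv_one])
    (fun r hr => by rw [map_inv]; exact (Commute.inv_right (e3 r hr)).eq)
    (by rw [map_inv, ← conj_inv, e4])
  rw [inv_inv] at k4
  generalize (centralizer (V : Set Γ)).relIndex (cj (y ^ 2 ^ j) (R ⊓ V)) = s at *
  generalize (centralizer (V : Set Γ)).relIndex (cj (y ^ 2 ^ j)⁻¹ (R ⊓ V)) = t at *
  rw [mul_pow] at k2 k4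
  rcases le_total s t with e | e
  · exact absurd (k4.trans_le (Nat.mul_le_mul k3 (Nat.pow_le_pow_left e 2))) (by ring_nf; omega)
  · exact absurd (k2.trans_le (Nat.mul_le_mul k1 (Nat.pow_le_pow_left e 2))) (by ring_nf; omega)

end H26.T4
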