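import Cfsg.Agent.H28.TESpec

/-! Tower NF (S1308), chapter TE part 1, job `B2`. -/

set_option autoImplicit false
set_option maxHeartbeats 400000

open Cfsg Subgroup H14 H98 H1.Gold H31.S2 H14.GC H14.FE H14.NF H28.TE
open scoped commutatorElement

namespace H26.TE

universe u

theorem jobB2 : H28.TE.JobB2.{u} := by
  intro up kt kp g2 g3 G _ _ Q Q₁ E Q₂ T ln R ar
  have kp := kp G _ _ _ _ _ ln R ar
  have g2 := g2 G _ _ _ _ _ ln R ar
  have g3 := g3 G _ _ _ _ _ ln R ar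
  have EP : E ≤ PP E T R := kp.lt.le
  have hP : ∀ p ∈ PP E T R, ∀ t ∈ T, ⁅t, p⁆ ∈ E := fun p hp => (kp.mem p hp.1).1 hp
  have cm : ∀ t x y : G, ⁅t, x * y⁆ = ⁅t, x⁆ * (x * ⁅t, y⁆ * x⁻¹) := fun t x y => by
    simp only [commutatorElement_def]; group
  have mulP : ∀ p ∈ PP E T R, ∀ y : G, (∀ t ∈ T, ⁅t, y⁆ ∈ PP E T R) →
      ∀ t ∈ T, ⁅t, p * y⁆ ∈ PP E T R := fun p hp y hy t ht => by
    rw [cm]
    exact mul_mem (EP (hP p hp t ht)) (mul_mem (mul_mem hp (hy t ht)) (inv_mem hp))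
  let A : Subgroup G :=
    { carrier := {x | x ∈ R ∧ ∀ t ∈ T, ⁅t, x⁆ ∈ PP E T R}
      one_mem' := ⟨one_mem _, fun t _ => by rw [commutatorElement_one_right]; exact one_mem _⟩
      mul_mem' := by
        rintro x y ⟨xR, hx⟩ ⟨yR, hy⟩
        refine ⟨mul_mem xR yR, ?_⟩
        by_cases xP : x ∈ PP E T R
        · exact mulP x xP y hy
        obtain ⟨xn, h2⟩ := g2 x xR xP hx
        by_cases yP : y ∈ PP E T R
        · intro t ht
          rw [cm]
          exact mul_mem (hx t ht) (EP (conj_mem_of_mem_normalizer xn (hP y yP t ht)))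
        · exact fun t ht => EP (hP _ (h2 y yR yP hy) t ht)
      inv_mem' := by
        rintro x ⟨xR, hx⟩
        refine ⟨inv_mem xR, ?_⟩
        by_cases xP : x ∈ PP E T R
        · exact fun t ht => EP (hP _ (inv_mem xP) t ht)
        have e : x⁻¹ = (x * x)⁻¹ * x := by group
        rw [e]
        exact mulP _ (inv_mem ((g2 x xR xP hx).2 x xR xP hx)) x hx }
  have PA : PP E T R ≤ A := fun p hp => ⟨hp.1, fun t ht => EP (hP p hp t ht)⟩
  have AR' : A ≤ R := fun x hx => hx.1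
  have TA : T ≤ nor A := by
    refine le_normalizer_of_commutator_le (A := A) (commutator_le.2 fun x hx t ht => ?_) le_rfl
    rw [← commutatorElement_inv]
    exact inv_mem (PA (hx.2 t ht))
  have RA : R ≤ A := by
    by_contra hn
    obtain ⟨w, wR, wA, -, -, hw⟩ := up G R T A ar.syl.isPGroup ln.sT.isPGroup ar.nr TA
      (lt_of_le_of_ne AR' fun e => hn e.ge)
    exact wA ⟨wR, g3 w fun t ht => hw t ht⟩
  intro x xR xP
  exact ⟨(RA xR).2, fun y yR yP => (g2 x xR xP (RA xR).2).2 y yR yP (RA yR).2⟩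

end H26.TE
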